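import Cfsg.Agent.Lib.PGroup.SpIndex.Line

/-!
From the orbits at one vector to free moved orbits at all of them.
-/

set_option autoImplicit false
set_option linter.unusedSectionVars false

namespace CfsgLib.PGroup.SpIndex

open Matrix CfsgLib.Sp

variable {m : ℕ} {F : Type*} [Field F] [Fintype F]

local notation "V" => (Fin m ⊕ Fin m → F)
local notation "G" => Matrix.symplecticGroup (Fin m) F
local notation "q" => Fintype.card F

variable {X : Type*} [MulAction (Matrix.symplecticGroup (Fin m) F) X]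

/-- Freeness at one pair gives freeness at all. -/
theorem free_transfer {P P' : Pair m F}
    (h : ∀ z : X, Moves P.e z → T0 P z = ⊥ ∧ uSub P z = ⊥) {y : X} (hy : Moves P'.e y) {a : V}
    (ha : a ∈ P'.perp) {t : F} (hfix : P'.qe a t • y = y) : a = 0 ∧ t = 0 := by
  obtain ⟨g, hg⟩ := exists_move P.e_ne P'.e_ne
  have hmv : Moves P.e (g⁻¹ • y) := by
    rw [← moves_map_iff g, hg, smul_inv_smul]; exact hy
  obtain ⟨hT, hU⟩ := h _ hmv
  set b := (g⁻¹).1 *ᵥ a with hbdef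
  have hb : sf b P.e = 0 := by rw [hbdef, ← sp_inv_mulVec g P.e, hg, sf_sp]; exact ha.1
  have hfix' : P.qe (P.proj b) (2 * sf b P.f + t) • g⁻¹ • y = g⁻¹ • y := by
    rw [show P.qe (P.proj b) (2 * sf b P.f + t) = el P.e b * tv P.e t by
        rw [P.el_eq_qe hb, Pair.qe, Pair.qe, mul_assoc, tv_mul],
      show el P.e b * tv P.e t = g⁻¹ * P'.qe a t * g by
        rw [Pair.qe, show g⁻¹ * (el P'.e a * tv P'.e t) * g = (g⁻¹ * el P'.e a * g⁻¹⁻¹) * (g⁻¹ * tv P'.e t * g⁻¹⁻¹)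
          by group, el_conj, tv_conj, show (g⁻¹).1 *ᵥ P'.e = P.e by rw [← hg, sp_inv_mulVec]],
      mul_smul, mul_smul, smul_inv_smul, hfix]
  have hmem : (⟨_, P.proj_mem b⟩ : P.perp) ∈ uSub P (g⁻¹ • y) := ⟨_, hfix'⟩
  rw [hU, AddSubgroup.mem_bot] at hmem
  have hp0 : P.proj b = 0 := congrArg Subtype.val hmem
  rw [hp0, P.qe_tv] at hfix'
  have hT' : 2 * sf b P.f + t ∈ T0 P (g⁻¹ • y) := hfix'
  rw [hT, AddSubgroup.mem_bot] at hT'
  have h3 : b = sf b P.f • P.e := by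
    conv_lhs => rw [P.decomp b, hp0, hb, zero_smul, sub_zero, zero_add]
  have h4 : a = sf b P.f • P'.e := by
    rw [← sp_mulVec_inv g a, ← hbdef]
    conv_lhs => rw [h3, Matrix.mulVec_smul, hg]
  have h5 := ha.2
  rw [h4, sf_smul_left, P'.hef, mul_one] at h5
  rw [h5, mul_zero, zero_add] at hT'
  exact ⟨by rw [h4, h5, zero_smul], hT'⟩

variable [Finite X] (hm : 2 ≤ m) (hq : 3 ≤ Fintype.card F) (hexc : ¬ (m = 2 ∧ Fintype.card F = 3))
  (hsmall : Small m F X)
include hm hq hexc hsmall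

/-- The moved orbits are free once each sees vectors and lines only occur in dimension four. -/
theorem freeMoved_of [MulAction.IsPretransitive (Matrix.symplecticGroup (Fin m) F) X]
    (hD : ∀ (P : Pair m F) (y : X), Moves P.e y → dSub P y ≠ ⊥)
    (hP : ∀ (P : Pair m F) (y : X), Moves P.e y → ∃ y₀ : X, Moves P.e y₀ ∧ T0 P y₀ = ⊥ ∧ dSub P y₀ ≠ ⊥)
    (hdim : ∀ (P : Pair m F) (y : X), Moves P.e y → Nat.card (dSub P y) ≤ q →
      (∀ z z' : X, Moves P.e z → dSub P z ≠ ⊥ → Moves P.e z' → dSub P z' ≠ ⊥ → dSub P z = dSub P z' →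
        z' ∈ qorb P z) → m = 2) :
    FreeMoved m F X := by
  intro P y hy a ha t hfix
  by_contra hne
  have hlines : ∀ P' : Pair m F,
      (∀ z : X, Moves P'.e z → T0 P' z = ⊥ ∧ ∃ v : P'.perp, v ≠ 0 ∧ ∀ w, w ∈ dSub P' z ↔ ∃ c : F, w = c • v) ∧
      ∀ z z' : X, Moves P'.e z → Moves P'.e z' → dSub P' z = dSub P' z' → z' ∈ qorb P' z := by
    intro P'
    obtain ⟨g, hg⟩ := exists_move P.e_ne P'.e_ne
    have hy' : Moves P'.e (g • y) := hg ▸ moves_map hy g
    obtain ⟨y₀, hy₀, hT, hd⟩ := hP P' _ hy'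
    rcases dichotomy hm hq hsmall hy₀ hT hd with ⟨h, -⟩ | ⟨h, hu⟩
    · exact absurd (free_transfer (fun z hz => h z hz (hD P' z hz)) hy ha hfix) hne
    · exact ⟨fun z hz => h z hz (hD P' z hz),
        fun z z' hz hz' he => hu z z' hz (hD P' z hz) hz' (hD P' z' hz') he⟩
  obtain ⟨hl, hu⟩ := hlines P
  obtain ⟨-, v, -, hv⟩ := hl y hy
  have hdq : Nat.card (dSub P y) ≤ q := by
    rw [← Nat.card_eq_fintype_card (α := F)]
    exact Nat.card_le_card_of_surjective (fun c : F => (⟨c • v, (hv _).2 ⟨c, rfl⟩⟩ : dSub P y))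
      fun ⟨w, hw⟩ => ((hv w).1 hw).imp fun c hc => Subtype.ext hc.symm
  have hm2 := hdim P y hy hdq fun z z' hz _ hz' _ he => hu z z' hz hz' he
  exact no_lineType (by omega) hlines hm2 hsmall hy

end CfsgLib.PGroup.SpIndex
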