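import Cfsg.Agent.Lib.Classical.SympCount

/-!
The radical at a vector of a symplectic space, in coordinates given by a hyperbolic pair.
-/

set_option autoImplicit false
set_option linter.unusedSectionVars false

namespace CfsgLib.PGroup.SpIndex

open Matrix CfsgLib.Sp

variable {m : ℕ} {F : Type*} [Field F]

local notation "V" => (Fin m ⊕ Fin m → F)
local notation "G" => Matrix.symplecticGroup (Fin m) F

theorem sf_zero_left (v : V) : sf (0 : V) v = 0 := by
  rw [show (0 : V) = (0 : F) • (0 : V) by rw [zero_smul], sf_smul_left, zero_mul]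

theorem sf_zero_right (v : V) : sf v (0 : V) = 0 := by rw [sf_swap, sf_zero_left, neg_zero]

theorem sf_neg_left (u v : V) : sf (-u) v = -sf u v := by
  rw [← neg_one_smul F u, sf_smul_left, neg_one_mul]

theorem sf_neg_right (u v : V) : sf u (-v) = -sf u v := by
  rw [← neg_one_smul F v, sf_smul_right, neg_one_mul]

theorem sf_sub_left (u u' v : V) : sf (u - u') v = sf u v - sf u' v := by
  rw [sub_eq_add_neg, sf_add_left, sf_neg_left, sub_eq_add_neg]

theorem sf_sub_right (u v v' : V) : sf u (v - v') = sf u v - sf u v' := by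
  rw [sub_eq_add_neg, sf_add_right, sf_neg_right, sub_eq_add_neg]

theorem sf_symm_zero {u v : V} (h : sf u v = 0) : sf v u = 0 := by rw [sf_swap, h, neg_zero]

/-- The Siegel element of two orthogonal vectors. -/
def el (e a : Fin m ⊕ Fin m → F) : Matrix.symplecticGroup (Fin m) F :=
  tv (e + a) 1 * tv a (-1) * tv e (-1)

theorem el_mulVec {e a : V} (h : sf a e = 0) (x : V) :
    (el e a).1 *ᵥ x = x + sf x e • a + sf x a • e := by
  have h' := sf_symm_zero h
  simp only [el, sp_mul_mulVec, tv_mulVec, sf_add_left, sf_add_right, sf_smul_left, sf_self, h, h']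
  module

theorem el_symm {e a : V} (h : sf a e = 0) : el e a = el a e := sp_ext_vec fun x => by
  rw [el_mulVec h, el_mulVec (sf_symm_zero h)]
  abel

theorem el_mul {e a b : V} (ha : sf a e = 0) (hb : sf b e = 0) :
    el e a * el e b = el e (a + b) * tv e (sf b a) := sp_ext_vec fun x => by
  have ha' := sf_symm_zero ha
  have hb' := sf_symm_zero hb
  rw [sp_mul_mulVec, sp_mul_mulVec, el_mulVec hb, el_mulVec ha,
    el_mulVec (show sf (a + b) e = 0 by rw [sf_add_left, ha, hb, add_zero]), tv_mulVec]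
  simp only [sf_add_left, sf_add_right, sf_smul_left, sf_self, hb, ha', hb']
  module

theorem el_zero (e : V) : el e 0 = 1 := sp_ext_vec fun x => by
  rw [el_mulVec (sf_zero_left e), sp_one_mulVec, sf_zero_right]
  module

theorem el_smul_self (e : V) (c : F) : el e (c • e) = tv e (2 * c) := sp_ext_vec fun x => by
  rw [el_mulVec (by rw [sf_smul_left, sf_self, mul_zero]), tv_mulVec, sf_smul_right]
  module

theorem el_smul_left {e a : V} (h : sf a e = 0) (c : F) : el (c • e) a = el e (c • a) := sp_ext_vec fun x => by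
  rw [el_mulVec (by rw [sf_smul_right, h, mul_zero]), el_mulVec (by rw [sf_smul_left, h, mul_zero]),
    sf_smul_right, sf_smul_right]
  module

theorem el_conj (g : G) (e a : V) : g * el e a * g⁻¹ = el (g.1 *ᵥ e) (g.1 *ᵥ a) := by
  rw [el, el, show g * (tv (e + a) 1 * tv a (-1) * tv e (-1)) * g⁻¹ =
    (g * tv (e + a) 1 * g⁻¹) * (g * tv a (-1) * g⁻¹) * (g * tv e (-1) * g⁻¹) by group, tv_conj, tv_conj,
    tv_conj, Matrix.mulVec_add]

theorem el_comm_tv {e a : V} (h : sf a e = 0) (t : F) : Commute (el e a) (tv e t) :=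
  ((tv_commute (by rw [sf_add_left, sf_self, h, add_zero]) _ _).mul_left (tv_commute h _ _)).mul_left
    (tv_commute (sf_self e) _ _)

/-- Two orthogonal vectors make a Siegel element out of transvections. -/
theorem tv_add_eq {e a : V} (h : sf a e = 0) : tv (e + a) 1 * tv a (-1) = el e a * tv e 1 := by
  rw [el, mul_assoc (tv (e + a) 1 * tv a (-1)), tv_mul, neg_add_cancel, tv_zero, mul_one]

/-- A hyperbolic pair. -/
structure Pair (m : ℕ) (F : Type*) [Field F] where
  e : Fin m ⊕ Fin m → F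
  f : Fin m ⊕ Fin m → F
  hef : sf e f = 1

theorem exists_pair {e : V} (he : e ≠ 0) : ∃ P : Pair m F, P.e = e := by
  obtain ⟨v, hv⟩ := exists_sf_eq_one he
  exact ⟨⟨e, -v, by rw [sf_neg_right, sf_swap e v, hv, neg_neg]⟩, rfl⟩

namespace Pair

variable (P : Pair m F)

theorem hfe : sf P.f P.e = -1 := by rw [sf_swap, P.hef]

theorem e_ne : P.e ≠ 0 := fun h => one_ne_zero (P.hef.symm.trans (by rw [h, sf_zero_left]))

theorem f_ne : P.f ≠ 0 := fun h => one_ne_zero (P.hef.symm.trans (by rw [h, sf_zero_right]))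

/-- The orthogonal of the pair. -/
def perp : Submodule F (Fin m ⊕ Fin m → F) where
  carrier := {a | sf a P.e = 0 ∧ sf a P.f = 0}
  zero_mem' := ⟨sf_zero_left _, sf_zero_left _⟩
  add_mem' := fun ha hb => ⟨by rw [sf_add_left, ha.1, hb.1, add_zero], by rw [sf_add_left, ha.2, hb.2, add_zero]⟩
  smul_mem' := fun c a ha => ⟨by rw [sf_smul_left, ha.1, mul_zero], by rw [sf_smul_left, ha.2, mul_zero]⟩

theorem sf_e {a : V} (ha : a ∈ P.perp) : sf a P.e = 0 := ha.1

theorem sf_f {a : V} (ha : a ∈ P.perp) : sf a P.f = 0 := ha.2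

/-- The projection to the orthogonal of the pair. -/
def proj (v : Fin m ⊕ Fin m → F) : Fin m ⊕ Fin m → F := v - sf v P.f • P.e + sf v P.e • P.f

theorem proj_mem (v : V) : P.proj v ∈ P.perp := by
  constructor <;> simp only [proj, sf_add_left, sf_sub_left, sf_smul_left, sf_self, P.hef, P.hfe] <;> ring

theorem decomp (v : V) : v = P.proj v + sf v P.f • P.e - sf v P.e • P.f := by
  simp only [proj]; module

theorem proj_of_mem {a : V} (ha : a ∈ P.perp) : P.proj a = a := by
  simp [proj, ha.1, ha.2]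

theorem sf_proj {v a : V} (ha : a ∈ P.perp) : sf (P.proj v) a = sf v a := by
  simp [proj, sf_add_left, sf_sub_left, sf_smul_left, sf_symm_zero ha.1, sf_symm_zero ha.2]

theorem perp_nd {a : V} (ha : a ∈ P.perp) (ha0 : a ≠ 0) : ∃ b ∈ P.perp, sf b a = 1 := by
  obtain ⟨v, hv⟩ := exists_sf_eq_one ha0
  exact ⟨P.proj v, P.proj_mem v, by rw [P.sf_proj ha, hv]⟩

theorem card_perp [Fintype F] : Nat.card P.perp * Fintype.card F ^ 2 = Fintype.card F ^ (2 * m) := by
  let e : P.perp × F × F ≃ V :=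
    { toFun := fun p => p.1.1 + p.2.1 • P.e + p.2.2 • P.f
      invFun := fun v => (⟨P.proj v, P.proj_mem v⟩, sf v P.f, -sf v P.e)
      left_inv := fun p => by
        obtain ⟨⟨a, ha⟩, s, t⟩ := p
        have h1 : sf (a + s • P.e + t • P.f) P.f = s := by
          simp [sf_add_left, sf_smul_left, ha.2, P.hef, sf_self]
        have h2 : sf (a + s • P.e + t • P.f) P.e = -t := by
          simp [sf_add_left, sf_smul_left, ha.1, P.hfe, sf_self]
        refine Prod.ext (Subtype.ext ?_) (Prod.ext h1 (show -sf _ P.e = t by rw [h2, neg_neg]))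
        show P.proj _ = a
        rw [proj, h1, h2]
        module
      right_inv := fun v => by
        show P.proj v + sf v P.f • P.e + (-sf v P.e) • P.f = v
        conv_rhs => rw [P.decomp v]
        module }
  have h := Nat.card_congr e
  rw [Nat.card_prod, Nat.card_prod, Nat.card_eq_fintype_card (α := F), ← pow_two] at h
  rw [h, Nat.card_fun, Nat.card_sum, Nat.card_fin, Nat.card_eq_fintype_card, two_mul]

theorem card_perp_eq [Fintype F] (hm : 1 ≤ m) : Nat.card P.perp = Fintype.card F ^ (2 * (m - 1)) := by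
  have h := P.card_perp
  rw [show 2 * m = 2 * (m - 1) + 2 by omega, pow_add] at h
  exact Nat.eq_of_mul_eq_mul_right (pow_pos Fintype.card_pos 2) h

theorem li_three {a : V} (ha : a ∈ P.perp) (ha0 : a ≠ 0) : LinearIndependent F ![P.e, P.f, a] := by
  refine Fintype.linearIndependent_iff.2 fun g hg => ?_
  rw [Fin.sum_univ_three] at hg
  simp only [cons_val_zero, cons_val_one, cons_val] at hg
  have h0 := congrArg (fun x => sf x P.f) hg
  have h1 := congrArg (fun x => sf x P.e) hg
  simp only [sf_add_left, sf_smul_left, sf_self, P.hef, P.hfe, ha.1, ha.2, sf_zero_left] at h0 h1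
  have g0 : g 0 = 0 := by linear_combination h0
  have g1 : g 1 = 0 := by linear_combination -h1
  rw [g0, g1, zero_smul, zero_smul, zero_add, zero_add] at hg
  have g2 := (smul_eq_zero.1 hg).resolve_right ha0
  intro i
  fin_cases i <;> assumption

/-- The fixer of the pair is transitive on the non-zero vectors orthogonal to it. -/
theorem exists_levi {a b : V} (ha : a ∈ P.perp) (ha0 : a ≠ 0) (hb : b ∈ P.perp) (hb0 : b ≠ 0) :
    ∃ g : G, g.1 *ᵥ P.e = P.e ∧ g.1 *ᵥ P.f = P.f ∧ g.1 *ᵥ a = b := by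
  obtain ⟨g, hg⟩ := CfsgLib.Classical.SympCount.exists_move_tuple (P.li_three ha ha0) (P.li_three hb hb0) (by
    intro i j
    fin_cases i <;> fin_cases j <;>
      simp [sf_self, ha.1, ha.2, hb.1, hb.2, sf_symm_zero ha.1, sf_symm_zero ha.2, sf_symm_zero hb.1,
        sf_symm_zero hb.2])
  exact ⟨g, hg 0, hg 1, hg 2⟩

theorem map_mem_perp {g : G} (he : g.1 *ᵥ P.e = P.e) (hf : g.1 *ᵥ P.f = P.f) {a : V} (ha : a ∈ P.perp) :
    g.1 *ᵥ a ∈ P.perp :=
  ⟨by conv_lhs => rw [← he, sf_sp, ha.1],
    by conv_lhs => rw [← hf, sf_sp, ha.2]⟩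

/-- The elements of the radical at `e`. -/
def qe (a : Fin m ⊕ Fin m → F) (t : F) : Matrix.symplecticGroup (Fin m) F := el P.e a * tv P.e t

theorem qe_mulVec {a : V} (ha : sf a P.e = 0) (t : F) (x : V) :
    (P.qe a t).1 *ᵥ x = x + sf x P.e • a + (sf x a + t * sf x P.e) • P.e := by
  rw [qe, sp_mul_mulVec, el_mulVec ha, tv_mulVec]
  simp only [sf_add_left, sf_smul_left, sf_self, sf_symm_zero ha]
  module

theorem qe_mul {a b : V} (ha : sf a P.e = 0) (hb : sf b P.e = 0) (t s : F) :
    P.qe a t * P.qe b s = P.qe (a + b) (t + s + sf b a) := by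
  simp only [qe]
  rw [mul_assoc, ← mul_assoc (tv P.e t), ← (el_comm_tv hb t).eq, mul_assoc (el P.e b), tv_mul, ← mul_assoc,
    el_mul ha hb, mul_assoc, tv_mul, add_comm (sf b a)]

theorem qe_zero : P.qe 0 0 = 1 := by rw [qe, el_zero, tv_zero, one_mul]

theorem qe_tv (t : F) : P.qe 0 t = tv P.e t := by rw [qe, el_zero, one_mul]

theorem qe_el (a : V) : P.qe a 0 = el P.e a := by rw [qe, tv_zero, mul_one]

theorem qe_inv {a : V} (ha : sf a P.e = 0) (t : F) : (P.qe a t)⁻¹ = P.qe (-a) (-t) := by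
  refine inv_eq_of_mul_eq_one_right ?_
  rw [P.qe_mul ha (by rw [sf_neg_left, ha, neg_zero]), add_neg_cancel, add_neg_cancel, zero_add, sf_neg_left,
    sf_self, neg_zero, P.qe_zero]

theorem qe_eq_one {a : V} (ha : a ∈ P.perp) {t : F} (h : P.qe a t = 1) : a = 0 ∧ t = 0 := by
  have h1 := congrArg (fun g : G => g.1 *ᵥ P.f) h
  simp only [P.qe_mulVec ha.1, sp_one_mulVec, P.hfe, sf_symm_zero ha.2] at h1
  have h2 : a + t • P.e = 0 := by linear_combination (norm := module) -h1
  have ht := congrArg (fun x => sf x P.f) h2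
  simp only [sf_add_left, sf_smul_left, ha.2, P.hef, sf_zero_left] at ht
  have ht0 : t = 0 := by linear_combination ht
  exact ⟨by rwa [ht0, zero_smul, add_zero] at h2, ht0⟩

theorem qe_inj {a b : V} (ha : a ∈ P.perp) (hb : b ∈ P.perp) {t s : F} (h : P.qe a t = P.qe b s) :
    a = b ∧ t = s := by
  have h1 : (P.qe b s)⁻¹ * P.qe a t = 1 := by rw [h, inv_mul_cancel]
  rw [P.qe_inv hb.1, P.qe_mul (by rw [sf_neg_left, hb.1, neg_zero]) ha.1] at h1
  obtain ⟨h2, h3⟩ := P.qe_eq_one (P.perp.add_mem (P.perp.neg_mem hb) ha) h1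
  obtain rfl : a = b := (neg_add_eq_zero.1 h2).symm
  rw [sf_neg_right, sf_self, neg_zero, add_zero] at h3
  exact ⟨rfl, (neg_add_eq_zero.1 h3).symm⟩

/-- A Siegel element at `e` in coordinates. -/
theorem el_eq_qe {v : V} (hv : sf v P.e = 0) : el P.e v = P.qe (P.proj v) (2 * sf v P.f) := by
  conv_lhs => rw [P.decomp v, hv, zero_smul, sub_zero]
  have h := el_mul (P.proj_mem v).1 (show sf (sf v P.f • P.e) P.e = 0 by rw [sf_smul_left, sf_self, mul_zero])
  rw [sf_smul_left, sf_symm_zero (P.proj_mem v).1, mul_zero, tv_zero, mul_one, el_smul_self] at h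
  exact h.symm

theorem qe_conj {g : G} (he : g.1 *ᵥ P.e = P.e) (a : V) (t : F) :
    g * P.qe a t * g⁻¹ = P.qe (g.1 *ᵥ a) t := by
  rw [qe, qe, show g * (el P.e a * tv P.e t) * g⁻¹ = (g * el P.e a * g⁻¹) * (g * tv P.e t * g⁻¹) by group,
    el_conj, tv_conj, he]

end Pair

variable {X : Type*} [MulAction (Matrix.symplecticGroup (Fin m) F) X]

/-- Some transvection at the vector moves the point. -/
def Moves (z : Fin m ⊕ Fin m → F) (x : X) : Prop := ∃ t : F, tv z t • x ≠ x

theorem not_moves_iff {z : V} {x : X} : ¬ Moves z x ↔ ∀ t : F, tv z t • x = x := by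
  simp [Moves]

theorem moves_map {z : V} {x : X} (h : Moves z x) (g : G) : Moves (g.1 *ᵥ z) (g • x) := by
  obtain ⟨t, ht⟩ := h
  refine ⟨t, fun h' => ht ?_⟩
  rw [← tv_conj, mul_smul, inv_smul_smul, mul_smul] at h'
  exact smul_left_cancel g h'

theorem moves_map_iff {z : V} {x : X} (g : G) : Moves (g.1 *ᵥ z) (g • x) ↔ Moves z x :=
  ⟨fun h => by
    have := moves_map h g⁻¹
    rwa [sp_inv_mulVec, inv_smul_smul] at this, fun h => moves_map h g⟩

theorem Moves.ne_zero {z : V} {x : X} (h : Moves z x) : z ≠ 0 := fun h0 => by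
  obtain ⟨t, ht⟩ := h
  exact ht (by rw [h0, show tv (0 : V) t = (1 : G) from sp_ext_vec fun y => by simp [tv_mulVec], one_smul])

theorem not_moves_smul {z : V} {x : X} (h : ¬ Moves z x) (c : F) : ¬ Moves (c • z) x := fun ⟨t, ht⟩ =>
  ht (by rw [tv_smul]; exact not_moves_iff.1 h _)

theorem moves_of_smul {z : V} {x : X} {c : F} (h : Moves (c • z) x) : Moves z x :=
  by_contra fun h' => not_moves_smul h' c h

end CfsgLib.PGroup.SpIndex
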