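import Cfsg.Agent.Lib.PGroup.SpIndex.Data

/-!
Orbits of the radical carrying characters of the quotient, in a small action.
-/

set_option autoImplicit false
set_option linter.unusedSectionVars false

namespace CfsgLib.PGroup.SpIndex

open Matrix CfsgLib.Sp

attribute [local instance] _root_.Classical.propDecidable

variable {m : ℕ} {F : Type*} [Field F] [Fintype F]

local notation "V" => (Fin m ⊕ Fin m → F)
local notation "G" => Matrix.symplecticGroup (Fin m) F
local notation "q" => Fintype.card F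
local notation "N" => Fintype.card F ^ (2 * (m - 1))

variable {X : Type*} [MulAction (Matrix.symplecticGroup (Fin m) F) X] {P : Pair m F}

/-- Points covering the non-zero vectors `c` times see many characters. -/
theorem sum_dSub_ge (hm : 1 ≤ m) (s : Finset X) (c : ℕ)
    (hc : ∀ v : P.perp, v ≠ 0 → c ≤ (s.filter fun y => v ∈ dSub P y).card) :
    c * (N - 1) + s.card ≤ ∑ y ∈ s, Nat.card (dSub P y) := by
  have hd : ∀ y : X, Nat.card (dSub P y) =
      (((Finset.univ : Finset P.perp).erase 0).filter fun v => v ∈ dSub P y).card + 1 := fun y => by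
    rw [Finset.filter_erase, Finset.card_erase_add_one (by simp), Nat.card_eq_fintype_card, Fintype.card_subtype]
  simp only [hd, Finset.sum_add_distrib, Finset.sum_const, smul_eq_mul, mul_one]
  refine Nat.add_le_add_right ?_ _
  simp only [Finset.card_filter]
  rw [Finset.sum_comm]
  simp only [← Finset.card_filter]
  refine le_trans (le_of_eq ?_) (Finset.card_nsmul_le_sum _ _ c fun v hv => hc v (Finset.ne_of_mem_erase hv))
  rw [Finset.card_erase_of_mem (Finset.mem_univ _), Finset.card_univ, ← Nat.card_eq_fintype_card (α := P.perp),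
    P.card_perp_eq hm, smul_eq_mul, mul_comm]

variable (P)

/-- Representatives of the orbits of the radical in a set of points. -/
theorem exists_reps [Finite X] (A : Set X) : ∃ s : Finset X, (s : Set X) ⊆ A ∧
    (s : Set X).PairwiseDisjoint (qorb P) ∧ ∀ z ∈ A, ∃ y ∈ s, z ∈ qorb P y := by
  classical
  haveI : Fintype X := Fintype.ofFinite X
  let O : Finset (Set X) := A.toFinset.image (qorb P)
  have h : ∀ S : O, ∃ y ∈ A, qorb P y = S.1 := fun S => by
    obtain ⟨y, hy, h⟩ := Finset.mem_image.1 S.2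
    exact ⟨y, Set.mem_toFinset.1 hy, h⟩
  choose f hfA hf using h
  refine ⟨Finset.univ.image f, ?_, ?_, fun z hz => ?_⟩
  · intro y hy
    obtain ⟨S, -, rfl⟩ := Finset.mem_image.1 hy
    exact hfA S
  · intro a ha b hb hab
    obtain ⟨S, -, rfl⟩ := Finset.mem_image.1 ha
    obtain ⟨T, -, rfl⟩ := Finset.mem_image.1 hb
    rw [Function.onFun, Set.disjoint_left]
    intro x hx hx'
    exact hab (by rw [show S = T from Subtype.ext (by rw [← hf S, ← hf T, ← qorb_eq P hx, qorb_eq P hx'])])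
  · exact ⟨_, Finset.mem_image_of_mem f (Finset.mem_univ ⟨qorb P z, by simp [O]; exact ⟨z, hz, rfl⟩⟩),
      by rw [hf]; exact mem_qorb_self P z⟩

variable {P}

theorem sum_orbits [Finite X] (hm : 1 ≤ m) (s : Finset X) (hd : (s : Set X).PairwiseDisjoint (qorb P)) (A : Set X)
    (hA : ∀ y ∈ s, qorb P y ⊆ A) :
    ∑ y ∈ s, Nat.card (mSub P y) * Nat.card (dSub P y) ≤ A.ncard := by
  classical
  haveI : Fintype X := Fintype.ofFinite X
  simp only [← ncard_qorb P hm, Set.ncard_eq_toFinset_card']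
  rw [← Finset.card_biUnion fun a ha b hb hab => Set.disjoint_toFinset.2 (hd ha hb hab)]
  exact Finset.card_le_card (Finset.biUnion_subset.2 fun y hy => Set.toFinset_mono (hA y hy))

theorem levi_dSub {y : X} {z₀ : P.perp} (hz : z₀ ∈ dSub P y) (h0 : z₀ ≠ 0) {v : P.perp} (hv : v ≠ 0) :
    ∃ g, IsLevi P g ∧ v ∈ dSub P (g • y) := by
  obtain ⟨g, he, hf, hg⟩ := P.exists_levi z₀.2 (fun h => h0 (Subtype.ext h)) v.2 fun h => hv (Subtype.ext h)
  refine ⟨g, ⟨he, hf⟩, ?_⟩
  have h := (IsLevi.mem_dSub (y := y) (z := z₀) ⟨he, hf⟩).2 hz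
  rwa [show IsLevi.map ⟨he, hf⟩ z₀ = v from Subtype.ext hg] at h

variable (P) in
/-- The orbit of the radical and of the fixer of the pair. -/
def cls (y : X) : Set X := {z | ∃ g, IsLevi P g ∧ z ∈ qorb P (g • y)}

theorem mem_cls_self (y : X) : y ∈ cls P y := ⟨1, IsLevi.one, by rw [one_smul]; exact mem_qorb_self P y⟩

theorem qorb_subset_cls {y z : X} (h : z ∈ cls P y) : qorb P z ⊆ cls P y := fun x hx => by
  obtain ⟨g, hg, h'⟩ := h
  exact ⟨g, hg, qorb_trans P h' hx⟩

theorem cls_map {y z : X} {g : G} (hg : IsLevi P g) (h : z ∈ cls P y) : g • z ∈ cls P y := by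
  obtain ⟨k, hk, h'⟩ := h
  exact ⟨g * k, hg.mul hk, by rw [mul_smul]; exact hg.qorb_map h'⟩

theorem cls_symm {y z : X} (h : z ∈ cls P y) : y ∈ cls P z := by
  obtain ⟨g, hg, h'⟩ := h
  refine ⟨g⁻¹, hg.inv, ?_⟩
  have := qorb_symm P (hg.inv.qorb_map h')
  rwa [inv_smul_smul] at this

theorem cls_trans {x y z : X} (h : y ∈ cls P x) (h' : z ∈ cls P y) : z ∈ cls P x := by
  obtain ⟨g, hg, h'⟩ := h'
  exact qorb_subset_cls (cls_map hg h) h'

theorem cls_moves {y z : X} (hy : Moves P.e y) (h : z ∈ cls P y) : Moves P.e z := by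
  obtain ⟨g, hg, h'⟩ := h
  exact moves_qorb P (hg.moves hy) h'

theorem cls_mSub {y z : X} (h : z ∈ cls P y) : mSub P z = mSub P y := by
  obtain ⟨g, hg, h'⟩ := h
  rw [mSub_qorb P h', hg.mSub_eq]

theorem cls_T0 {y z : X} (h : z ∈ cls P y) : T0 P z = T0 P y := by
  obtain ⟨g, hg, h'⟩ := h
  rw [T0_qorb P h', hg.T0_eq]

theorem cls_dSub {y z : X} (h : z ∈ cls P y) (hd : dSub P y ≠ ⊥) : dSub P z ≠ ⊥ := by
  obtain ⟨g, hg, h'⟩ := h
  rw [dSub_qorb P h']
  obtain ⟨v, hv, hv0⟩ := (AddSubgroup.ne_bot_iff_exists_ne_zero.1 hd) |> fun ⟨w, hw⟩ =>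
    (⟨w.1, w.2, fun h => hw (Subtype.ext h)⟩ : ∃ v, v ∈ dSub P y ∧ v ≠ 0)
  intro h
  have h1 := (hg.mem_dSub (y := y) (z := v)).2 hv
  rw [h, AddSubgroup.mem_bot] at h1
  have h2 : g.1 *ᵥ v.1 = 0 := congrArg Subtype.val h1
  exact hv0 (Subtype.ext (by rw [← sp_inv_mulVec g v.1, h2, Matrix.mulVec_zero]; rfl))

theorem exists_mem_ne {y : X} (hd : dSub P y ≠ ⊥) : ∃ v ∈ dSub P y, v ≠ 0 := by
  obtain ⟨w, hw⟩ := AddSubgroup.ne_bot_iff_exists_ne_zero.1 hd
  exact ⟨w.1, w.2, fun h => hw (Subtype.ext h)⟩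

variable [Finite X] (hm : 2 ≤ m) (hq : 3 ≤ Fintype.card F) (hsmall : Small m F X)

/-- The class of a point covers every vector. -/
theorem class_ge {y : X} (hm1 : 1 ≤ m) (hd : dSub P y ≠ ⊥) :
    Nat.card (mSub P y) * N ≤ (cls P y).ncard := by
  classical
  obtain ⟨s, hsA, hsd, hs⟩ := exists_reps P (cls P y)
  obtain ⟨z₀, hz₀, hz0⟩ := exists_mem_ne hd
  have h1 := sum_dSub_ge hm1 s 1 fun v hv => by
    obtain ⟨g, hg, hgv⟩ := levi_dSub hz₀ hz0 hv
    obtain ⟨x, hx, hgx⟩ := hs (g • y) ⟨g, hg, mem_qorb_self P _⟩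
    exact Finset.card_pos.2 ⟨x, Finset.mem_filter.2 ⟨hx, by rwa [dSub_qorb P hgx] at hgv⟩⟩
  have h2 := sum_orbits hm1 s hsd (cls P y) fun x hx => qorb_subset_cls (hsA hx)
  rw [Finset.sum_congr rfl (fun x hx => by rw [cls_mSub (hsA hx)]), ← Finset.mul_sum] at h2
  obtain ⟨x, hx, -⟩ := hs y (mem_cls_self y)
  have : 1 ≤ s.card := Finset.card_pos.2 ⟨x, hx⟩
  have : 1 ≤ N := Nat.one_le_pow _ _ Fintype.card_pos
  exact le_trans (Nat.mul_le_mul_left _ (by omega)) h2

include hm hq hsmall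

theorem small' : Nat.card X * (q - 1) + 2 ≤ q * q * N := by
  have h : Nat.card X * (q - 1) < q ^ (2 * m) - 1 := hsmall
  have e : q ^ (2 * m) = q * q * N := by rw [← pow_two, ← pow_add]; congr 1; omega
  omega

omit hsmall in
theorem sq_le : q * q ≤ N := by
  rw [← pow_two]
  exact Nat.pow_le_pow_right (by omega) (by omega)

/-- If every character of the centre is seen with a vector, some point has a free centre. -/
theorem exists_free_centre
    (hcov : ∀ μ : F, μ ≠ 0 → ∃ y : X, Moves P.e y ∧ μ ∈ mSub P y ∧ dSub P y ≠ ⊥) :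
    ∃ y : X, Moves P.e y ∧ T0 P y = ⊥ ∧ dSub P y ≠ ⊥ := by
  classical
  by_contra hcon
  simp only [not_exists, not_and, not_not] at hcon
  obtain ⟨s, hsA, hsd, hs⟩ := exists_reps P {y : X | Moves P.e y ∧ dSub P y ≠ ⊥}
  have hR : ∀ y ∈ s, 2 * Nat.card (mSub P y) ≤ q := fun y hy => by
    conv_rhs => rw [← card_mSub P y]
    refine Nat.mul_le_mul_right _ ?_
    have h1 : Nat.card (T0 P y) ≠ 1 := fun h => (hsA hy).2 (hcon y (hsA hy).1 (AddSubgroup.card_eq_one.1 h))
    have := Nat.card_pos (α := T0 P y)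
    omega
  let K : Finset (F × P.perp) := ((Finset.univ : Finset F).erase 0) ×ˢ ((Finset.univ : Finset P.perp).erase 0)
  have hK : K.card = (q - 1) * (N - 1) := by
    rw [Finset.card_product, Finset.card_erase_of_mem (Finset.mem_univ _),
      Finset.card_erase_of_mem (Finset.mem_univ _), Finset.card_univ, Finset.card_univ,
      ← Nat.card_eq_fintype_card (α := P.perp), P.card_perp_eq (by omega)]
  have hcard : K.card ≤ ∑ y ∈ s, (Nat.card (mSub P y) - 1) * (Nat.card (dSub P y) - 1) := by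
    refine le_trans (Finset.card_le_card (t := s.biUnion fun y =>
      ((Finset.univ.filter fun μ => μ ∈ mSub P y).erase 0) ×ˢ
        ((Finset.univ.filter fun v => v ∈ dSub P y).erase 0)) ?_) (Finset.card_biUnion_le.trans (le_of_eq ?_))
    · rintro ⟨μ, v⟩ hp
      simp only [K, Finset.mem_product, Finset.mem_erase, Finset.mem_univ, and_true] at hp
      obtain ⟨y, hy, hμ, hd⟩ := hcov μ hp.1
      obtain ⟨z₀, hz₀, hz0⟩ := exists_mem_ne hd
      obtain ⟨g, hg, hgv⟩ := levi_dSub hz₀ hz0 hp.2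
      have hd' : dSub P (g • y) ≠ ⊥ := cls_dSub ⟨g, hg, mem_qorb_self P _⟩ hd
      obtain ⟨x, hx, hgx⟩ := hs (g • y) ⟨hg.moves hy, hd'⟩
      rw [dSub_qorb P hgx] at hgv
      rw [← hg.mSub_eq, mSub_qorb P hgx] at hμ
      exact Finset.mem_biUnion.2 ⟨x, hx, by simp [hp.1, hp.2, hμ, hgv]⟩
    · refine Finset.sum_congr rfl fun y _ => ?_
      rw [Finset.card_product, Finset.card_erase_of_mem (by simp), Finset.card_erase_of_mem (by simp),
        Nat.card_eq_fintype_card, Nat.card_eq_fintype_card, Fintype.card_subtype, Fintype.card_subtype]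
  have hsum := sum_orbits (show 1 ≤ m by omega) s hsd Set.univ fun _ _ => Set.subset_univ _
  rw [Set.ncard_univ] at hsum
  have hterm : ∀ y ∈ s, q * N * ((Nat.card (mSub P y) - 1) * (Nat.card (dSub P y) - 1)) ≤
      (q - 2) * (N - 1) * (Nat.card (mSub P y) * Nat.card (dSub P y)) := fun y hy => by
    have h1 : q * (Nat.card (mSub P y) - 1) ≤ (q - 2) * Nat.card (mSub P y) := by
      have := hR y hy
      rw [Nat.mul_sub_one, Nat.sub_mul]
      omega
    have h2 : N * (Nat.card (dSub P y) - 1) ≤ (N - 1) * Nat.card (dSub P y) := by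
      have h3 : Nat.card (dSub P y) ≤ N := by
        rw [← P.card_perp_eq (show 1 ≤ m by omega)]
        exact Nat.card_le_card_of_injective Subtype.val Subtype.val_injective
      rw [Nat.mul_sub_one, Nat.sub_mul, one_mul]
      omega
    calc _ = (q * (Nat.card (mSub P y) - 1)) * (N * (Nat.card (dSub P y) - 1)) := by ring
      _ ≤ ((q - 2) * Nat.card (mSub P y)) * ((N - 1) * Nat.card (dSub P y)) := Nat.mul_le_mul h1 h2
      _ = _ := by ring
  have h3 : q * N * ((q - 1) * (N - 1)) ≤ (q - 2) * (N - 1) * Nat.card X := by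
    refine le_trans ?_ (Nat.mul_le_mul_left _ hsum)
    rw [← hK, Finset.mul_sum]
    refine le_trans (Nat.mul_le_mul_left _ hcard) ?_
    rw [Finset.mul_sum]
    exact Finset.sum_le_sum hterm
  have hN : q * q ≤ N := sq_le hm hq
  have hN2 : 0 < N - 1 := by
    have : 2 * 2 ≤ q * q := Nat.mul_le_mul (by omega) (by omega)
    omega
  have h4 : q * (q - 1) * N ≤ (q - 2) * Nat.card X := by
    refine Nat.le_of_mul_le_mul_right (le_of_eq_of_le ?_ (h3.trans (le_of_eq ?_))) hN2 <;> ring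
  have hs' := small' hm hq hsmall
  obtain ⟨r, hr⟩ : ∃ r, q = r + 3 := ⟨q - 3, by omega⟩
  rw [hr] at h4 hs' hN
  rw [show r + 3 - 1 = r + 2 by omega, show r + 3 - 2 = r + 1 by omega] at h4
  rw [show r + 3 - 1 = r + 2 by omega] at hs'
  nlinarith

/-- Either every point with vectors is free, or these points see lines. -/
theorem dichotomy {y₀ : X} (hy₀ : Moves P.e y₀) (hT : T0 P y₀ = ⊥) (hd₀ : dSub P y₀ ≠ ⊥) :
    ((∀ z : X, Moves P.e z → dSub P z ≠ ⊥ → T0 P z = ⊥ ∧ uSub P z = ⊥) ∧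
      ∀ z : X, Moves P.e z → dSub P z ≠ ⊥ → z ∈ qorb P y₀) ∨
    ((∀ z : X, Moves P.e z → dSub P z ≠ ⊥ → T0 P z = ⊥ ∧
        ∃ v : P.perp, v ≠ 0 ∧ ∀ w, w ∈ dSub P z ↔ ∃ c : F, w = c • v) ∧
      ∀ z z' : X, Moves P.e z → dSub P z ≠ ⊥ → Moves P.e z' → dSub P z' ≠ ⊥ → dSub P z = dSub P z' →
        z' ∈ qorb P z) := by
  classical
  have hm1 : 1 ≤ m := by omega
  have hs' := small' hm hq hsmall
  have hN := sq_le (F := F) hm hq
  have hR₀ : Nat.card (mSub P y₀) = q := by
    have h := card_mSub P y₀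
    rwa [hT, Nat.card_congr (Equiv.ofUnique (⊥ : AddSubgroup F) Unit), Nat.card_unique, one_mul] at h
  have hbig : q * q * N ≤ (q - 1) * ((q + 2) * N) := by
    rw [← mul_assoc]
    refine Nat.mul_le_mul_right _ ?_
    obtain ⟨r, hr⟩ : ∃ r, q = r + 3 := ⟨q - 3, by omega⟩
    rw [hr, show r + 3 - 1 = r + 2 by omega]
    nlinarith
  -- one class
  have hone : ∀ z : X, Moves P.e z → dSub P z ≠ ⊥ → z ∈ cls P y₀ := by
    intro z hz hdz
    by_contra hn
    have hdis : Disjoint (cls P y₀) (cls P z) := Set.disjoint_left.2 fun x hx hx' => hn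
      (cls_trans hx (cls_symm hx'))
    have h1 := class_ge hm1 hd₀
    have h2 := class_ge hm1 hdz
    have h3 : (cls P y₀).ncard + (cls P z).ncard ≤ Nat.card X := by
      rw [← Set.ncard_union_eq hdis (Set.toFinite _) (Set.toFinite _), ← Set.ncard_univ]
      exact Set.ncard_le_ncard (Set.subset_univ _) (Set.toFinite _)
    have h4 : 2 ≤ Nat.card (mSub P z) := by
      obtain ⟨μ, hμ, h0⟩ := exists_mSub P hz
      haveI : Nontrivial (mSub P z) := ⟨⟨⟨μ, hμ⟩, 0, fun h => h0 (congrArg Subtype.val h)⟩⟩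
      exact Finite.one_lt_card
    rw [hR₀] at h1
    have h5 : 2 * N ≤ Nat.card (mSub P z) * N := Nat.mul_le_mul_right _ h4
    have h6 : (q - 1) * ((q + 2) * N) ≤ (q - 1) * Nat.card X :=
      Nat.mul_le_mul_left _ (by rw [add_mul]; omega)
    rw [mul_comm (q - 1) (Nat.card X)] at h6
    omega
  have hTz : ∀ z : X, Moves P.e z → dSub P z ≠ ⊥ → T0 P z = ⊥ := fun z hz hdz => by
    rw [cls_T0 (hone z hz hdz), hT]
  have hA : ∀ z ∈ cls P y₀, Moves P.e z ∧ dSub P z ≠ ⊥ := fun z hz => ⟨cls_moves hy₀ hz, cls_dSub hz hd₀⟩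
  obtain ⟨s, hsA, hsd, hs⟩ := exists_reps P (cls P y₀)
  have hsum := sum_orbits hm1 s hsd Set.univ fun _ _ => Set.subset_univ _
  rw [Set.ncard_univ, Finset.sum_congr rfl (fun x hx => by rw [cls_mSub (hsA hx), hR₀]), ← Finset.mul_sum] at hsum
  -- a vector lies in one orbit
  have huniq : ∀ z z' : X, Moves P.e z → dSub P z ≠ ⊥ → Moves P.e z' → dSub P z' ≠ ⊥ → ∀ v : P.perp, v ≠ 0 →
      v ∈ dSub P z → v ∈ dSub P z' → z' ∈ qorb P z := by
    intro z z' hz hdz hz' hdz' v hv hvz hvz'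
    by_contra hn
    have h2 := sum_dSub_ge hm1 s 2 fun w hw => by
      obtain ⟨g, he, hf, hgw⟩ := P.exists_levi v.2 (fun h => hv (Subtype.ext h)) w.2 fun h => hw (Subtype.ext h)
      have hg : IsLevi P g := ⟨he, hf⟩
      obtain ⟨x, hx, hgx⟩ := hs _ (cls_map hg (hone z hz hdz))
      obtain ⟨x', hx', hgx'⟩ := hs _ (cls_map hg (hone z' hz' hdz'))
      have hne : x ≠ x' := fun h => hn (by
        subst h
        have h' := hg.inv.qorb_map (qorb_trans P (qorb_symm P hgx) hgx')
        rwa [inv_smul_smul, inv_smul_smul] at h')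
      refine Finset.one_lt_card.2 ⟨x, Finset.mem_filter.2 ⟨hx, ?_⟩, x', Finset.mem_filter.2 ⟨hx', ?_⟩, hne⟩
      · rw [← dSub_qorb P hgx, ← show hg.map v = w from Subtype.ext hgw, hg.mem_dSub]; exact hvz
      · rw [← dSub_qorb P hgx', ← show hg.map v = w from Subtype.ext hgw, hg.mem_dSub]; exact hvz'
    have hs2 : 2 ≤ s.card := by
      obtain ⟨x, hx, hzx⟩ := hs _ (hone z hz hdz)
      obtain ⟨x', hx', hzx'⟩ := hs _ (hone z' hz' hdz')
      exact Finset.one_lt_card.2 ⟨x, hx, x', hx', fun h => hn (by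
        subst h; exact qorb_trans P (qorb_symm P hzx) hzx')⟩
    have h3 : q * (2 * N) ≤ Nat.card X := le_trans (Nat.mul_le_mul_left _ (by omega)) hsum
    have h4 : (q - 1) * ((q + 2) * N) ≤ (q - 1) * Nat.card X :=
      Nat.mul_le_mul_left _ (le_trans (le_trans (Nat.mul_le_mul_right _ (show q + 2 ≤ q * 2 by omega))
        (le_of_eq (mul_assoc _ _ _))) h3)
    rw [mul_comm (q - 1) (Nat.card X)] at h4
    omega
  by_cases hfull : ∃ z : X, Moves P.e z ∧ dSub P z = ⊤
  · obtain ⟨z₁, hz₁, htop⟩ := hfull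
    have hd₁ : dSub P z₁ ≠ ⊥ := by
      obtain ⟨v, -, hv⟩ := exists_mem_ne hd₀
      intro h
      exact hv (by rw [← AddSubgroup.mem_bot, ← h, htop]; exact AddSubgroup.mem_top v)
    refine Or.inl ⟨fun z hz hdz => ?_, fun z hz hdz => ?_⟩
    · obtain ⟨v, hv, hv0⟩ := exists_mem_ne hdz
      have := huniq z₁ z hz₁ hd₁ hz hdz v hv0 (htop ▸ AddSubgroup.mem_top v) hv
      exact ⟨hTz z hz hdz, by rw [uSub_qorb P this]; exact uSub_eq_bot_of_dSub P hm1 htop⟩
    · obtain ⟨v, hv, hv0⟩ := exists_mem_ne hdz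
      obtain ⟨w, hw, hw0⟩ := exists_mem_ne hd₀
      exact qorb_trans P (qorb_symm P (huniq z₁ y₀ hz₁ hd₁ hy₀ hd₀ w hw0 (htop ▸ AddSubgroup.mem_top w) hw))
        (huniq z₁ z hz₁ hd₁ hz hdz v hv0 (htop ▸ AddSubgroup.mem_top v) hv)
  simp only [not_exists, not_and] at hfull
  -- lines
  have hline : ∀ z : X, Moves P.e z → dSub P z ≠ ⊥ → ∀ v ∈ dSub P z, v ≠ 0 → ∀ u ∈ dSub P z,
      ∃ c : F, u = c • v := by
    intro z hz hdz
    have hinv : ∀ {v u u' : P.perp}, v ∈ dSub P z → v ≠ 0 → u ∈ dSub P z → (¬ ∃ c : F, u = c • v) →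
        (¬ ∃ c : F, u' = c • v) → sf u'.1 v.1 = sf u.1 v.1 → u' ∈ dSub P z := by
      intro v u u' hv hv0 hu hun hun' hsf
      have li : ∀ {w : P.perp}, (¬ ∃ c : F, w = c • v) → LinearIndependent F ![P.e, P.f, v.1, w.1] := by
        intro w hw
        refine Fintype.linearIndependent_iff.2 fun g hg => ?_
        rw [Fin.sum_univ_four] at hg
        simp only [cons_val_zero, cons_val_one, cons_val] at hg
        have h0 := congrArg (fun x => sf x P.f) hg
        have h1 := congrArg (fun x => sf x P.e) hg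
        simp only [sf_add_left, sf_smul_left, sf_self, P.hef, P.hfe, v.2.1, v.2.2, w.2.1, w.2.2, sf_zero_left]
          at h0 h1
        have g0 : g 0 = 0 := by linear_combination h0
        have g1 : g 1 = 0 := by linear_combination -h1
        rw [g0, g1, zero_smul, zero_smul, zero_add, zero_add] at hg
        have g3 : g 3 = 0 := by
          by_contra h
          refine hw ⟨-(g 2) / g 3, Subtype.ext (smul_right_injective V h ?_)⟩
          show g 3 • w.1 = g 3 • ((-(g 2) / g 3) • v.1)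
          rw [smul_smul, mul_div_cancel₀ _ h, neg_smul]
          exact eq_neg_of_add_eq_zero_right hg
        rw [g3, zero_smul, add_zero] at hg
        have g2 := (smul_eq_zero.1 hg).resolve_right fun h => hv0 (Subtype.ext h)
        intro i
        fin_cases i <;> assumption
      obtain ⟨g, hg⟩ := CfsgLib.Classical.SympCount.exists_move_tuple (li hun) (li hun') (by
        intro i j
        fin_cases i <;> fin_cases j <;>
          simp [sf_self, v.2.1, v.2.2, u.2.1, u.2.2, u'.2.1, u'.2.2, sf_symm_zero v.2.1, sf_symm_zero v.2.2,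
            sf_symm_zero u.2.1, sf_symm_zero u.2.2, sf_symm_zero u'.2.1, sf_symm_zero u'.2.2, hsf,
            sf_swap v.1 u.1, sf_swap v.1 u'.1])
      have hL : IsLevi P g := ⟨hg 0, hg 1⟩
      have h1 : v ∈ dSub P (g • z) := by
        rw [← show hL.map v = v from Subtype.ext (hg 2), hL.mem_dSub]; exact hv
      have h2 := huniq z (g • z) hz hdz (hL.moves hz) (cls_dSub ⟨g, hL, mem_qorb_self P _⟩ hdz) v hv0 hv h1
      rw [← dSub_qorb P h2, ← show hL.map u = u' from Subtype.ext (hg 3), hL.mem_dSub]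
      exact hu
    have hperp : ∀ {v u : P.perp}, v ∈ dSub P z → v ≠ 0 → u ∈ dSub P z → (¬ ∃ c : F, u = c • v) →
        ∀ b : P.perp, sf b.1 v.1 = 0 → b ∈ dSub P z := by
      intro v u hv hv0 hu hun b hb
      by_cases hub : ∃ c : F, u + b = c • v
      · obtain ⟨d, hd⟩ := hub
        have hsu : sf u.1 v.1 = 0 := by
          have := congrArg (fun x : P.perp => sf x.1 v.1) hd
          simpa [sf_add_left, sf_smul_left, sf_self, hb] using this
        have hbn : ¬ ∃ c : F, b = c • v := by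
          rintro ⟨c, rfl⟩
          exact hun ⟨d - c, by linear_combination (norm := module) hd⟩
        exact hinv hv hv0 hu hun hbn (by rw [hb, hsu])
      · have h1 := hinv hv hv0 hu hun hub (by rw [Submodule.coe_add, sf_add_left, hb, add_zero])
        have := (dSub P z).sub_mem h1 hu
        rwa [add_sub_cancel_left] at this
    have hnonorth : ∀ {v u : P.perp}, v ∈ dSub P z → u ∈ dSub P z → sf u.1 v.1 ≠ 0 → False := by
      intro v u hv hu hs0
      have hv0 : v ≠ 0 := fun h => hs0 (by rw [h, Submodule.coe_zero, sf_zero_right])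
      have hu0 : u ≠ 0 := fun h => hs0 (by rw [h, Submodule.coe_zero, sf_zero_left])
      have hun : ¬ ∃ c : F, u = c • v := by
        rintro ⟨c, rfl⟩
        exact hs0 (by rw [Submodule.coe_smul, sf_smul_left, sf_self, mul_zero])
      have hvn : ¬ ∃ c : F, v = c • u := by
        rintro ⟨c, rfl⟩
        exact hs0 (by rw [Submodule.coe_smul, sf_smul_right, sf_self, mul_zero])
      refine hfull z hz (eq_top_iff.2 fun a _ => ?_)
      set r := sf a.1 v.1 / sf u.1 v.1
      have h1 : a - r • u ∈ dSub P z := hperp hv hv0 hu hun _ (by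
        rw [Submodule.coe_sub, Submodule.coe_smul, sf_sub_left, sf_smul_left, div_mul_cancel₀ _ hs0, sub_self])
      have h2 : r • u ∈ dSub P z := hperp hu hu0 hv hvn _ (by rw [Submodule.coe_smul, sf_smul_left, sf_self, mul_zero])
      have := (dSub P z).add_mem h1 h2
      rwa [sub_add_cancel] at this
    intro v hv hv0 u hu
    by_contra hun
    rcases eq_or_ne (sf u.1 v.1) 0 with h | h
    · obtain ⟨w, hw, hwu⟩ : ∃ w : P.perp, sf w.1 v.1 = 0 ∧ sf w.1 u.1 ≠ 0 := by
        obtain ⟨a, ha, hav⟩ := P.perp_nd v.2 fun h => hv0 (Subtype.ext h)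
        by_contra hcon
        simp only [not_exists, not_and, not_not] at hcon
        refine hun ⟨sf a u.1, ?_⟩
        by_contra hne
        obtain ⟨b, hb, hbu⟩ := P.perp_nd (u - sf a u.1 • v).2 fun h => hne (sub_eq_zero.1 (Subtype.ext h))
        have h1 := hcon (⟨b, hb⟩ - sf b v.1 • ⟨a, ha⟩) (by
          rw [Submodule.coe_sub, Submodule.coe_smul, sf_sub_left, sf_smul_left, hav, mul_one, sub_self])
        rw [Submodule.coe_sub, Submodule.coe_smul, sf_sub_left, sf_smul_left] at h1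
        rw [Submodule.coe_sub, Submodule.coe_smul, sf_sub_right, sf_smul_right] at hbu
        exact one_ne_zero (hbu.symm.trans (by linear_combination h1))
      exact hnonorth hu (hperp hv hv0 hu hun w hw) hwu
    · exact hnonorth hv hu h
  refine Or.inr ⟨fun z hz hdz => ⟨hTz z hz hdz, ?_⟩, fun z z' hz hdz hz' hdz' h => ?_⟩
  swap
  · obtain ⟨v, hv, hv0⟩ := exists_mem_ne hdz
    exact huniq z z' hz hdz hz' hdz' v hv0 hv (h ▸ hv)
  obtain ⟨v, hv, hv0⟩ := exists_mem_ne hdz
  refine ⟨v, hv0, fun w => ⟨hline z hz hdz v hv hv0 w, ?_⟩⟩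
  rintro ⟨c, rfl⟩
  -- the subgroup is the whole line
  let L : AddSubgroup F :=
    { carrier := {c | c • v ∈ dSub P z}
      zero_mem' := by
        show (0 : F) • v ∈ dSub P z
        rw [zero_smul]; exact (dSub P z).zero_mem
      add_mem' := fun {a b} ha hb => by
        show (a + b) • v ∈ dSub P z
        rw [add_smul]; exact (dSub P z).add_mem ha hb
      neg_mem' := fun {a} ha => by
        show (-a) • v ∈ dSub P z
        rw [show (-a) • v = -(a • v) by module]; exact (dSub P z).neg_mem ha }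
  suffices L = ⊤ by exact (show c ∈ L from this ▸ AddSubgroup.mem_top c)
  by_contra hL
  have hdle : ∀ x ∈ s, 2 * Nat.card (dSub P x) ≤ q := by
    intro x hx
    obtain ⟨hxm, hxd⟩ := hA x (hsA hx)
    obtain ⟨g, hg, hxg⟩ := hone x hxm hxd
    obtain ⟨g', hg', hzg⟩ := hone z hz hdz
    have key : ∀ (k : G) (hk : IsLevi P k), Nat.card (dSub P (k • y₀)) = Nat.card (dSub P y₀) := fun k hk =>
      (Nat.card_congr
        { toFun := fun a : dSub P y₀ => (⟨hk.map a.1, hk.mem_dSub.2 a.2⟩ : dSub P (k • y₀))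
          invFun := fun a => ⟨hk.inv.map a.1, by
            have h := (hk.inv.mem_dSub (y := k • y₀) (z := a.1)).2 a.2
            rwa [inv_smul_smul] at h⟩
          left_inv := fun a => Subtype.ext (Subtype.ext (sp_inv_mulVec k _))
          right_inv := fun a => Subtype.ext (Subtype.ext (sp_mulVec_inv k _)) }).symm
    have hcz : Nat.card (dSub P x) = Nat.card (dSub P z) := by
      rw [dSub_qorb P hxg, dSub_qorb P hzg, key g hg, key g' hg']
    have hcL : Nat.card (dSub P z) ≤ Nat.card L := by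
      refine Nat.card_le_card_of_injective (fun a => (⟨(hline z hz hdz v hv hv0 a.1 a.2).choose, ?_⟩ : L))
        fun a b h => Subtype.ext ?_
      · show _ • v ∈ dSub P z
        rw [← (hline z hz hdz v hv hv0 a.1 a.2).choose_spec]; exact a.2
      · rw [(hline z hz hdz v hv hv0 a.1 a.2).choose_spec, (hline z hz hdz v hv hv0 b.1 b.2).choose_spec]
        exact congrArg (· • v) (congrArg Subtype.val h)
    have h2 : 2 * Nat.card L ≤ q := by
      have hi := L.index_mul_card
      rw [Nat.card_eq_fintype_card (α := F)] at hi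
      rw [← hi]
      refine Nat.mul_le_mul_right _ ?_
      have h1 : L.index ≠ 1 := fun h => hL (AddSubgroup.index_eq_one.1 h)
      have := AddSubgroup.FiniteIndex.index_ne_zero (H := L)
      omega
    omega
  have h1 := sum_dSub_ge hm1 s 1 fun w hw => by
    obtain ⟨g, hg, hgv⟩ := levi_dSub hv hv0 hw
    obtain ⟨x, hx, hgx⟩ := hs (g • z) (cls_map hg (hone z hz hdz))
    exact Finset.card_pos.2 ⟨x, Finset.mem_filter.2 ⟨hx, by rwa [dSub_qorb P hgx] at hgv⟩⟩
  have h2 : 2 * ∑ x ∈ s, Nat.card (dSub P x) ≤ q * s.card := by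
    rw [Finset.mul_sum, mul_comm, ← smul_eq_mul]
    exact Finset.sum_le_card_nsmul _ _ _ hdle
  set d := ∑ x ∈ s, Nat.card (dSub P x)
  obtain ⟨r, hr⟩ : ∃ r, q = r + 3 := ⟨q - 3, by omega⟩
  obtain ⟨M', hM'⟩ : ∃ M', N = M' + 1 := ⟨N - 1, by have : 1 ≤ q * q := Nat.mul_pos (by omega) (by omega); omega⟩
  rw [hM'] at h1 hs' hN
  rw [hr] at hsum h2 hs' hN
  rw [show r + 3 - 1 = r + 2 by omega] at hs'
  rw [show M' + 1 - 1 = M' by omega] at h1
  nlinarith [Nat.mul_le_mul_left (r + 1) hsum, Nat.mul_le_mul_left (r + 2) h2, Nat.mul_le_mul_left (r + 2) h1]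

end CfsgLib.PGroup.SpIndex
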