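import Cfsg.Agent.Lib.PGroup.SpIndex.Free

/-!
The stabiliser of a point in the radical at a vector, seen by its central part and by its image.
-/

set_option autoImplicit false
set_option linter.unusedSectionVars false

namespace CfsgLib.PGroup.SpIndex

open Matrix CfsgLib.Sp

variable {m : ℕ} {F : Type*} [Field F] [Fintype F]

local notation "V" => (Fin m ⊕ Fin m → F)
local notation "G" => Matrix.symplecticGroup (Fin m) F
local notation "q" => Fintype.card F

noncomputable instance perpFintype (P : Pair m F) : Fintype P.perp := Fintype.ofFinite _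

variable (F) in
/-- The pairing of the field with itself. -/
noncomputable def scalarPairing : Pairing F ℂ where
  e a c := psi F (a * c)
  addl a b z := by rw [add_mul, AddChar.map_add_eq_mul]
  addr a z w := by rw [mul_add, AddChar.map_add_eq_mul]
  zerol z := by rw [zero_mul, AddChar.map_zero_eq_one]
  zeror a := by rw [mul_zero, AddChar.map_zero_eq_one]
  ndl _ h := psi_separates h

variable {X : Type*} [MulAction (Matrix.symplecticGroup (Fin m) F) X] (P : Pair m F)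

/-- The central parameters fixing a point. -/
def T0 (y : X) : AddSubgroup F where
  carrier := {t | tv P.e t • y = y}
  zero_mem' := by show tv P.e (0 : F) • y = y; rw [tv_zero, one_smul]
  add_mem' {a b} ha hb := by
    show tv P.e (a + b) • y = y
    rw [← tv_mul, mul_smul, show tv P.e b • y = y from hb]; exact ha
  neg_mem' {a} ha := by
    show tv P.e (-a) • y = y
    conv_lhs => rw [← show tv P.e a • y = y from ha]
    rw [← mul_smul, tv_mul, neg_add_cancel, tv_zero, one_smul]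

theorem mem_T0 {y : X} {t : F} : t ∈ T0 P y ↔ tv P.e t • y = y := Iff.rfl

/-- The vectors carried by the fixing elements of the radical. -/
def uSub (y : X) : AddSubgroup P.perp where
  carrier := {a | ∃ t, P.qe a.1 t • y = y}
  zero_mem' := ⟨0, by rw [Submodule.coe_zero, P.qe_zero, one_smul]⟩
  add_mem' {a b} := fun ⟨t, ht⟩ ⟨s, hs⟩ => ⟨t + s + sf b.1 a.1, by
    rw [Submodule.coe_add, ← P.qe_mul a.2.1 b.2.1, mul_smul, hs, ht]⟩
  neg_mem' {a} := fun ⟨t, ht⟩ => ⟨-t, by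
    rw [Submodule.coe_neg, ← P.qe_inv a.2.1, inv_smul_eq_iff]; exact ht.symm⟩

theorem mem_uSub {y : X} {a : P.perp} : a ∈ uSub P y ↔ ∃ t, P.qe a.1 t • y = y := Iff.rfl

/-- The characters of the centre seen at a point. -/
noncomputable def mSub (y : X) : AddSubgroup F := (scalarPairing F).annGp (T0 P y)

/-- The characters of the quotient seen at a point. -/
noncomputable def dSub (y : X) : AddSubgroup P.perp := (perpPairing P).annGp (uSub P y)

theorem mem_mSub {y : X} {μ : F} : μ ∈ mSub P y ↔ ∀ t, tv P.e t • y = y → psi F (t * μ) = 1 := Iff.rfl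

theorem mem_dSub {y : X} {z : P.perp} :
    z ∈ dSub P y ↔ ∀ a ∈ uSub P y, psi F (sf a.1 z.1) = 1 := Iff.rfl

theorem mem_uSub_of_dSub {y : X} {a : P.perp} (h : ∀ z ∈ dSub P y, psi F (sf a.1 z.1) = 1) : a ∈ uSub P y :=
  (perpPairing P).mem_of_ann _ h

theorem card_mSub (y : X) : Nat.card (T0 P y) * Nat.card (mSub P y) = q := by
  rw [← Nat.card_eq_fintype_card (α := F), ← (scalarPairing F).card_ann (T0 P y), ← Nat.card_coe_set_eq]
  rfl

theorem card_dSub (hm : 1 ≤ m) (y : X) : Nat.card (uSub P y) * Nat.card (dSub P y) = q ^ (2 * (m - 1)) := by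
  classical
  rw [← P.card_perp_eq hm, ← (perpPairing P).card_ann (uSub P y), ← Nat.card_coe_set_eq]
  rfl

theorem moves_iff_T0 {y : X} : Moves P.e y ↔ T0 P y ≠ ⊤ := by
  constructor
  · rintro ⟨t, ht⟩ h
    exact ht ((mem_T0 P).1 (h ▸ AddSubgroup.mem_top t))
  · intro h
    by_contra hm'
    exact h (eq_top_iff.2 fun t _ => not_moves_iff.1 hm' t)

/-- A moved point sees a non-zero character of the centre. -/
theorem exists_mSub {y : X} (hy : Moves P.e y) : ∃ μ ∈ mSub P y, μ ≠ 0 := by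
  obtain ⟨t, ht⟩ := hy
  obtain ⟨μ, hμ, hne⟩ := (scalarPairing F).exists_ann_ne (T0 P y) (b := t) ht
  exact ⟨μ, hμ, fun h => hne (by rw [h]; exact (scalarPairing F).zeror t)⟩

theorem uSub_eq_bot_of_dSub (hm : 1 ≤ m) {y : X} (h : dSub P y = ⊤) : uSub P y = ⊥ := by
  classical
  have h1 := card_dSub P hm y
  rw [h, Nat.card_congr AddSubgroup.topEquiv.toEquiv, P.card_perp_eq hm] at h1
  exact AddSubgroup.card_eq_one.1 ((Nat.mul_eq_right (pow_pos Fintype.card_pos _).ne').1 h1)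

theorem dSub_eq_bot_of_uSub (hm : 1 ≤ m) {y : X} (h : uSub P y = ⊤) : dSub P y = ⊥ := by
  classical
  have h1 := card_dSub P hm y
  rw [h, Nat.card_congr AddSubgroup.topEquiv.toEquiv, P.card_perp_eq hm] at h1
  exact AddSubgroup.card_eq_one.1 ((Nat.mul_eq_left (pow_pos Fintype.card_pos _).ne').1 h1)

/-- The orbit of the radical. -/
def qorb (y : X) : Set X := Set.range fun p : P.perp × F => P.qe p.1.1 p.2 • y

theorem mem_qorb {y z : X} : z ∈ qorb P y ↔ ∃ a ∈ P.perp, ∃ t, P.qe a t • y = z :=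
  ⟨fun ⟨⟨⟨a, ha⟩, t⟩, h⟩ => ⟨a, ha, t, h⟩, fun ⟨a, ha, t, h⟩ => ⟨(⟨a, ha⟩, t), h⟩⟩

theorem mem_qorb_self (y : X) : y ∈ qorb P y :=
  (mem_qorb P).2 ⟨0, P.perp.zero_mem, 0, by rw [P.qe_zero, one_smul]⟩

theorem qorb_symm {y z : X} (h : z ∈ qorb P y) : y ∈ qorb P z := by
  obtain ⟨a, ha, t, rfl⟩ := (mem_qorb P).1 h
  exact (mem_qorb P).2 ⟨-a, P.perp.neg_mem ha, -t, by rw [← P.qe_inv ha.1, inv_smul_smul]⟩

theorem qorb_trans {x y z : X} (h : y ∈ qorb P x) (h' : z ∈ qorb P y) : z ∈ qorb P x := by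
  obtain ⟨a, ha, t, rfl⟩ := (mem_qorb P).1 h
  obtain ⟨b, hb, s, rfl⟩ := (mem_qorb P).1 h'
  exact (mem_qorb P).2 ⟨b + a, P.perp.add_mem hb ha, s + t + sf a b, by rw [← P.qe_mul hb.1 ha.1, mul_smul]⟩

theorem qorb_eq {y z : X} (h : z ∈ qorb P y) : qorb P z = qorb P y :=
  Set.ext fun _ => ⟨qorb_trans P h, qorb_trans P (qorb_symm P h)⟩

theorem qe_commute_tv {a : V} (ha : sf a P.e = 0) (t s : F) : Commute (tv P.e s) (P.qe a t) :=
  ((el_comm_tv ha s).symm.mul_right (tv_commute (sf_self P.e) s t))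

theorem T0_qorb {y z : X} (h : z ∈ qorb P y) : T0 P z = T0 P y := by
  obtain ⟨a, ha, t, rfl⟩ := (mem_qorb P).1 h
  ext s
  rw [mem_T0, mem_T0, ← mul_smul, (qe_commute_tv P ha.1 t s).eq, mul_smul, smul_left_cancel_iff]

theorem mSub_qorb {y z : X} (h : z ∈ qorb P y) : mSub P z = mSub P y := by
  rw [mSub, mSub, T0_qorb P h]

theorem uSub_qorb {y z : X} (h : z ∈ qorb P y) : uSub P z = uSub P y := by
  have key : ∀ {y : X} {b : V} (hb : b ∈ P.perp) (s : F) (a : P.perp),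
      a ∈ uSub P y → a ∈ uSub P (P.qe b s • y) := by
    rintro y b hb s a ⟨t, ht⟩
    refine ⟨t + sf a.1 b - sf b a.1, ?_⟩
    have e : P.qe a.1 (t + sf a.1 b - sf b a.1) * P.qe b s = P.qe b s * P.qe a.1 t := by
      rw [P.qe_mul a.2.1 hb.1, P.qe_mul hb.1 a.2.1, add_comm a.1 b]
      congr 1
      ring
    rw [← mul_smul, e, mul_smul, ht]
  obtain ⟨b, hb, s, rfl⟩ := (mem_qorb P).1 h
  ext a
  refine ⟨fun ha => ?_, key hb s a⟩
  have := key (P.perp.neg_mem hb) (-s) a ha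
  rwa [← P.qe_inv hb.1, inv_smul_smul] at this

theorem dSub_qorb {y z : X} (h : z ∈ qorb P y) : dSub P z = dSub P y := by
  rw [dSub, dSub, uSub_qorb P h]

theorem moves_qorb {y z : X} (hy : Moves P.e y) (h : z ∈ qorb P y) : Moves P.e z := by
  rw [moves_iff_T0] at hy ⊢
  rwa [T0_qorb P h]

/-- The orbit has a point for each pair of characters seen. -/
theorem ncard_qorb (hm : 1 ≤ m) (y : X) :
    (qorb P y).ncard = Nat.card (mSub P y) * Nat.card (dSub P y) := by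
  classical
  haveI : Finite (qorb P y) := Set.finite_range _
  let S := {p : P.perp × F // P.qe p.1.1 p.2 • y = y}
  choose φ hφ using fun a : uSub P y => (mem_uSub P).1 a.2
  have hS : Nat.card S = Nat.card (uSub P y) * Nat.card (T0 P y) := by
    rw [← Nat.card_prod]
    refine (Nat.card_congr (Equiv.ofBijective (fun p : uSub P y × T0 P y => (⟨(p.1.1, φ p.1 + p.2.1), ?_⟩ : S))
      ⟨?_, ?_⟩)).symm
    · show P.qe p.1.1.1 (φ p.1 + p.2.1) • y = y
      rw [show P.qe p.1.1.1 (φ p.1 + p.2.1) = P.qe p.1.1.1 (φ p.1) * tv P.e p.2.1 by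
        simp only [Pair.qe, mul_assoc, tv_mul], mul_smul, show tv P.e p.2.1 • y = y from p.2.2, hφ]
    · rintro ⟨a, t⟩ ⟨b, s⟩ h
      obtain ⟨h1, h2⟩ := Prod.mk.inj (congrArg Subtype.val h)
      obtain rfl : a = b := Subtype.ext h1
      exact Prod.ext rfl (Subtype.ext (add_left_cancel h2))
    · rintro ⟨⟨a, t⟩, h⟩
      have ha : a ∈ uSub P y := ⟨t, h⟩
      refine ⟨(⟨a, ha⟩, ⟨-φ ⟨a, ha⟩ + t, ?_⟩), Subtype.ext (Prod.ext rfl (add_neg_cancel_left _ _))⟩
      show tv P.e (-φ ⟨a, ha⟩ + t) • y = y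
      have e : P.qe a.1 t = tv P.e (-φ ⟨a, ha⟩ + t) * P.qe a.1 (φ ⟨a, ha⟩) := by
        rw [(qe_commute_tv P a.2.1 _ _).eq, Pair.qe, Pair.qe, mul_assoc, tv_mul, add_neg_cancel_left]
      rw [e, mul_smul, hφ ⟨a, ha⟩] at h
      exact h
  have hfib : Nat.card (P.perp × F) = (qorb P y).ncard * Nat.card S := by
    rw [← Nat.card_coe_set_eq, ← Nat.card_prod]
    let mk : P.perp × F → P.perp × F → P.perp × F := fun p s => (p.1 + s.1, p.2 + s.2 + sf s.1.1 p.1.1)
    let el' : P.perp × F → G := fun p => P.qe p.1.1 p.2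
    have hmk : ∀ p s, el' (mk p s) = el' p * el' s := fun p s => (P.qe_mul p.1.2.1 s.1.2.1 _ _).symm
    have hinj : ∀ p p', el' p = el' p' → p = p' := fun p p' h => by
      obtain ⟨h1, h2⟩ := P.qe_inj p.1.2 p'.1.2 h
      exact Prod.ext (Subtype.ext h1) h2
    choose r hr using fun x : qorb P y => x.2
    have hr' : ∀ x : qorb P y, el' (r x) • y = x.1 := hr
    refine (Nat.card_congr (Equiv.ofBijective (fun p : qorb P y × S => mk (r p.1) p.2.1) ⟨?_, ?_⟩)).symm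
    · rintro ⟨x, s⟩ ⟨x', s'⟩ h
      have hval : ∀ (x : qorb P y) (s : S), el' (mk (r x) s.1) • y = x.1 := fun x s => by
        rw [hmk, mul_smul, show el' s.1 • y = y from s.2, hr']
      obtain rfl : x = x' := Subtype.ext ((hval x s).symm.trans (Eq.trans (by rw [show mk (r x) s.1 = mk (r x') s'.1
        from h]) (hval x' s')))
      have h' := congrArg el' (show mk (r x) s.1 = mk (r x) s'.1 from h)
      rw [hmk, hmk] at h'
      exact Prod.ext rfl (Subtype.ext (hinj _ _ (mul_left_cancel h')))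
    · intro p
      let x : qorb P y := ⟨el' p • y, p, rfl⟩
      have hneg : el' (-(r x).1, -(r x).2) = (el' (r x))⁻¹ := (P.qe_inv (r x).1.2.1 _).symm
      have hs : el' (mk (-(r x).1, -(r x).2) p) • y = y := by
        rw [hmk, hneg, mul_smul, inv_smul_eq_iff]
        exact (hr' x).symm
      refine ⟨(x, ⟨_, hs⟩), hinj _ _ ?_⟩
      show el' (mk (r x) (mk _ p)) = el' p
      rw [hmk, hmk, hneg, mul_inv_cancel_left]
  rw [hS, Nat.card_prod, P.card_perp_eq hm, Nat.card_eq_fintype_card (α := F)] at hfib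
  have h1 := card_dSub P hm y
  have h2 := card_mSub P y
  refine Nat.eq_of_mul_eq_mul_right (Nat.mul_pos (Nat.card_pos (α := uSub P y)) (Nat.card_pos (α := T0 P y))) ?_
  rw [← hfib, ← h1, ← h2]
  ring

section Map

/-- The fixer of the pair. -/
structure IsLevi (g : Matrix.symplecticGroup (Fin m) F) : Prop where
  e_eq : g.1 *ᵥ P.e = P.e
  f_eq : g.1 *ᵥ P.f = P.f

variable {P}

theorem IsLevi.inv {g : G} (h : IsLevi P g) : IsLevi P g⁻¹ :=
  ⟨by conv_lhs => rw [← h.e_eq, sp_inv_mulVec], by conv_lhs => rw [← h.f_eq, sp_inv_mulVec]⟩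

theorem IsLevi.mul {g h : G} (hg : IsLevi P g) (hh : IsLevi P h) : IsLevi P (g * h) :=
  ⟨by rw [sp_mul_mulVec, hh.e_eq, hg.e_eq], by rw [sp_mul_mulVec, hh.f_eq, hg.f_eq]⟩

theorem IsLevi.one : IsLevi P (1 : G) := ⟨sp_one_mulVec _, sp_one_mulVec _⟩

variable {g : Matrix.symplecticGroup (Fin m) F} (hg : IsLevi P g)
include hg

/-- The action on the orthogonal of the pair. -/
def IsLevi.map (a : P.perp) : P.perp := ⟨g.1 *ᵥ a.1, P.map_mem_perp hg.e_eq hg.f_eq a.2⟩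

theorem IsLevi.map_inv (a : P.perp) : hg.map (hg.inv.map a) = a := Subtype.ext (sp_mulVec_inv g a.1)

theorem IsLevi.qe_smul {a : V} (t : F) (y : X) : P.qe (g.1 *ᵥ a) t • g • y = g • P.qe a t • y := by
  rw [← P.qe_conj hg.e_eq a t, mul_smul, mul_smul, inv_smul_smul]

theorem IsLevi.T0_eq (y : X) : T0 P (g • y) = T0 P y := by
  ext t
  rw [mem_T0, mem_T0, ← P.qe_tv]
  conv_lhs => rw [show (0 : V) = g.1 *ᵥ 0 from (Matrix.mulVec_zero _).symm, hg.qe_smul, smul_left_cancel_iff]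

theorem IsLevi.mSub_eq (y : X) : mSub P (g • y) = mSub P y := by rw [mSub, mSub, hg.T0_eq]

theorem IsLevi.moves {y : X} (hy : Moves P.e y) : Moves P.e (g • y) := by
  have := moves_map hy g
  rwa [hg.e_eq] at this

theorem IsLevi.mem_uSub {y : X} {a : P.perp} : hg.map a ∈ uSub P (g • y) ↔ a ∈ uSub P y :=
  exists_congr fun t => by
    show P.qe (g.1 *ᵥ a.1) t • g • y = g • y ↔ _
    rw [hg.qe_smul, smul_left_cancel_iff]

theorem IsLevi.mem_dSub {y : X} {z : P.perp} : hg.map z ∈ dSub P (g • y) ↔ z ∈ dSub P y := by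
  refine ⟨fun h a ha => ?_, fun h a ha => ?_⟩
  · have := h _ (hg.mem_uSub.2 ha)
    change psi F (sf (g.1 *ᵥ a.1) (g.1 *ᵥ z.1)) = 1 at this
    rwa [sf_sp] at this
  · rw [← hg.map_inv a] at ha
    have := h _ (hg.mem_uSub.1 ha)
    show psi F (sf a.1 (g.1 *ᵥ z.1)) = 1
    rw [show sf a.1 (g.1 *ᵥ z.1) = sf ((g⁻¹).1 *ᵥ a.1) z.1 by
      conv_lhs => rw [← sp_mulVec_inv g a.1, sf_sp]]
    exact this

theorem IsLevi.qorb_map {y z : X} (h : z ∈ qorb P y) : g • z ∈ qorb P (g • y) := by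
  obtain ⟨a, ha, t, rfl⟩ := (mem_qorb P).1 h
  exact (mem_qorb P).2 ⟨g.1 *ᵥ a, P.map_mem_perp hg.e_eq hg.f_eq ha, t, hg.qe_smul t y⟩

end Map

section Torus

variable {P}

theorem torus_qe_smul (c : Fˣ) {a : V} (ha : a ∈ P.perp) (t : F) (y : X) :
    P.qe ((c : F) • a) ((c : F) * (c : F) * t) • P.torus c • y = P.torus c • P.qe a t • y := by
  rw [← P.torus_qe_conj c ha t, mul_smul, mul_smul, inv_smul_smul]

theorem torus_moves (c : Fˣ) {y : X} (hy : Moves P.e y) : Moves P.e (P.torus c • y) := by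
  have := moves_map hy (P.torus c)
  rw [P.torus_e] at this
  exact moves_of_smul this

/-- The scaling moves a character of the centre by a square. -/
theorem torus_mSub (c : Fˣ) {y : X} {μ : F} (hμ : μ ∈ mSub P y) :
    ((c⁻¹ : Fˣ) : F) * ((c⁻¹ : Fˣ) : F) * μ ∈ mSub P (P.torus c • y) := by
  rw [mem_mSub] at hμ ⊢
  intro t ht
  have h := hμ (((c⁻¹ : Fˣ) : F) * ((c⁻¹ : Fˣ) : F) * t) (smul_left_cancel (P.torus c) (by
    rw [← P.qe_tv, ← torus_qe_smul c P.perp.zero_mem, smul_zero, P.qe_tv, ← mul_assoc,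
      show (c : F) * c * (((c⁻¹ : Fˣ) : F) * ((c⁻¹ : Fˣ) : F)) =
        ((c : F) * ((c⁻¹ : Fˣ) : F)) * ((c : F) * ((c⁻¹ : Fˣ) : F)) by ring, c.mul_inv, one_mul, one_mul]
    exact ht))
  rwa [show t * (((c⁻¹ : Fˣ) : F) * ((c⁻¹ : Fˣ) : F) * μ) = ((c⁻¹ : Fˣ) : F) * ((c⁻¹ : Fˣ) : F) * t * μ by ring]

theorem torus_dSub (c : Fˣ) {y : X} {z : P.perp} (hz : z ∈ dSub P y) :
    ((c⁻¹ : Fˣ) : F) • z ∈ dSub P (P.torus c • y) := by
  rw [mem_dSub] at hz ⊢
  rintro a ⟨t, ht⟩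
  have h := hz (((c⁻¹ : Fˣ) : F) • a) ⟨((c⁻¹ : Fˣ) : F) * ((c⁻¹ : Fˣ) : F) * t, smul_left_cancel (P.torus c) (by
    rw [← torus_qe_smul c (((c⁻¹ : Fˣ) : F) • a).2, Submodule.coe_smul, smul_smul (c : F) ((c⁻¹ : Fˣ) : F), c.mul_inv, one_smul, ← mul_assoc,
      show (c : F) * c * (((c⁻¹ : Fˣ) : F) * ((c⁻¹ : Fˣ) : F)) =
        ((c : F) * ((c⁻¹ : Fˣ) : F)) * ((c : F) * ((c⁻¹ : Fˣ) : F)) by ring, c.mul_inv, one_mul, one_mul]
    exact ht)⟩
  rw [Submodule.coe_smul, sf_smul_left] at h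
  rwa [Submodule.coe_smul, sf_smul_right]

end Torus

end CfsgLib.PGroup.SpIndex
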