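import Mathlib

/-!
Finite abelian groups acting on finite sets: stabilisers, annihilators and multiplicities of characters.
-/

set_option autoImplicit false
set_option linter.unusedSectionVars false

namespace CfsgLib.PGroup.SpIndex

variable {A : Type*} [AddCommGroup A] [Fintype A] {R : Type*} [CommRing R] [IsDomain R] [CharZero R]

/-- A nondegenerate pairing of a finite abelian group with itself. -/
structure Pairing (A R : Type*) [AddCommGroup A] [CommRing R] where
  e : A → A → R
  addl : ∀ a b z, e (a + b) z = e a z * e b z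
  addr : ∀ a z w, e a (z + w) = e a z * e a w
  zerol : ∀ z, e 0 z = 1
  zeror : ∀ a, e a 0 = 1
  ndl : ∀ a, (∀ z, e a z = 1) → a = 0

namespace Pairing

variable (π : Pairing A R)

/-- The annihilator of a subgroup. -/
def ann (K : AddSubgroup A) : Set A := {z | ∀ a ∈ K, π.e a z = 1}

theorem zero_mem_ann (K : AddSubgroup A) : (0 : A) ∈ π.ann K := fun a _ => π.zeror a

theorem add_mem_ann {K : AddSubgroup A} {z w : A} (hz : z ∈ π.ann K) (hw : w ∈ π.ann K) :
    z + w ∈ π.ann K := fun a ha => by rw [π.addr, hz a ha, hw a ha, one_mul]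

theorem neg_mem_ann {K : AddSubgroup A} {z : A} (hz : z ∈ π.ann K) : -z ∈ π.ann K := fun a ha => by
  have h := π.addr a z (-z)
  rw [add_neg_cancel, π.zeror, hz a ha, one_mul] at h
  exact h.symm

/-- The annihilator as a subgroup. -/
def annGp (K : AddSubgroup A) : AddSubgroup A where
  carrier := π.ann K
  zero_mem' := π.zero_mem_ann K
  add_mem' := π.add_mem_ann
  neg_mem' := π.neg_mem_ann

theorem sum_right {a : A} (ha : a ≠ 0) : ∑ z, π.e a z = 0 := by
  obtain ⟨w, hw⟩ : ∃ w, π.e a w ≠ 1 := by
    by_contra h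
    simp only [not_exists, not_not] at h
    exact ha (π.ndl a h)
  have h : π.e a w * ∑ z, π.e a z = ∑ z, π.e a z := by
    rw [Finset.mul_sum]
    exact Fintype.sum_equiv (Equiv.addLeft w) _ _ fun z => (π.addr a w z).symm
  refine (mul_eq_zero.1 (show (π.e a w - 1) * ∑ z, π.e a z = 0 by rw [sub_mul, one_mul, h, sub_self])).resolve_left
    (sub_ne_zero.2 hw)

open scoped Classical in
theorem sum_sub (K : AddSubgroup A) (z : A) :
    ∑ a : K, π.e a.1 z = if z ∈ π.ann K then (Nat.card K : R) else 0 := by
  split_ifs with hz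
  · rw [Finset.sum_congr rfl fun a _ => hz a.1 a.2, Finset.sum_const, Finset.card_univ, nsmul_eq_mul, mul_one,
      Nat.card_eq_fintype_card]
  · simp only [ann, Set.mem_ofPred_eq, not_forall] at hz
    obtain ⟨b, hb, hne⟩ := hz
    have h : π.e b z * ∑ a : K, π.e a.1 z = ∑ a : K, π.e a.1 z := by
      rw [Finset.mul_sum]
      exact Fintype.sum_equiv (Equiv.addLeft (⟨b, hb⟩ : K)) _ _ fun a => (π.addl b a.1 z).symm
    refine (mul_eq_zero.1 (show (π.e b z - 1) * ∑ a : K, π.e a.1 z = 0 by
      rw [sub_mul, one_mul, h, sub_self])).resolve_left (sub_ne_zero.2 hne)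

open scoped Classical in
/-- The sum over the annihilator is the indicator of the subgroup. -/
theorem sum_ann (K : AddSubgroup A) (b : A) :
    (Nat.card K : R) * ∑ z ∈ Finset.univ.filter (· ∈ π.ann K), π.e b z =
      if b ∈ K then (Nat.card A : R) else 0 := by
  have h1 : ∑ z, ∑ a : K, π.e (a.1 + b) z =
      (Nat.card K : R) * ∑ z ∈ Finset.univ.filter (· ∈ π.ann K), π.e b z := by
    rw [Finset.mul_sum, Finset.sum_filter]
    refine Finset.sum_congr rfl fun z _ => ?_
    simp only [π.addl, ← Finset.sum_mul, π.sum_sub]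
    split_ifs <;> simp
  rw [← h1, Finset.sum_comm]
  split_ifs with hb
  · rw [Finset.sum_eq_single (⟨-b, K.neg_mem hb⟩ : K) (fun a _ ha => π.sum_right fun h => ha (Subtype.ext
      (eq_neg_of_add_eq_zero_left h))) (fun h => absurd (Finset.mem_univ _) h)]
    simp [π.zerol, Nat.card_eq_fintype_card]
  · refine Finset.sum_eq_zero fun a _ => π.sum_right fun h => hb ?_
    rw [show b = -a.1 from eq_neg_of_add_eq_zero_right h]
    exact K.neg_mem a.2

theorem card_ann (K : AddSubgroup A) : Nat.card K * (π.ann K).ncard = Nat.card A := by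
  classical
  have h := π.sum_ann K 0
  simp only [π.zerol, Finset.sum_const, nsmul_eq_mul, mul_one, if_pos K.zero_mem] at h
  rw [Set.ncard_eq_toFinset_card', show (π.ann K).toFinset = Finset.univ.filter (· ∈ π.ann K) by ext; simp]
  exact_mod_cast h

/-- A point outside a subgroup is seen by the annihilator. -/
theorem exists_ann_ne (K : AddSubgroup A) {b : A} (hb : b ∉ K) : ∃ z ∈ π.ann K, π.e b z ≠ 1 := by
  classical
  by_contra hcon
  simp only [not_exists, not_and, not_not, ne_eq] at hcon
  have h := π.sum_ann K b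
  rw [if_neg hb, Finset.sum_congr rfl fun z hz => hcon z (Finset.mem_filter.1 hz).2, Finset.sum_const,
    nsmul_eq_mul, mul_one] at h
  rcases mul_eq_zero.1 h with h | h
  · exact Nat.card_pos.ne' (Nat.cast_eq_zero.1 h : Nat.card K = 0)
  · exact absurd (Nat.cast_eq_zero.1 h) (Finset.card_ne_zero.2 ⟨0, by simp [π.zero_mem_ann K]⟩)

theorem mem_of_ann (K : AddSubgroup A) {b : A} (h : ∀ z ∈ π.ann K, π.e b z = 1) : b ∈ K := by
  by_contra hb
  obtain ⟨z, hz, hne⟩ := π.exists_ann_ne K hb
  exact hne (h z hz)

end Pairing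

/-- An action of an additive group. -/
structure AAct (A X : Type*) [AddCommGroup A] where
  act : A → X → X
  act_zero : ∀ x, act 0 x = x
  act_add : ∀ a b x, act (a + b) x = act a (act b x)

namespace AAct

variable {X : Type*} (α : AAct A X)

theorem act_comm (a b : A) (x : X) : α.act a (α.act b x) = α.act b (α.act a x) := by
  rw [← α.act_add, ← α.act_add, add_comm]

theorem act_neg_act (a : A) (x : X) : α.act (-a) (α.act a x) = x := by
  rw [← α.act_add, neg_add_cancel, α.act_zero]

theorem act_injective (a : A) : Function.Injective (α.act a) := fun x y h => by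
  rw [← α.act_neg_act a x, h, α.act_neg_act]

/-- The stabiliser. -/
def stab (x : X) : AddSubgroup A where
  carrier := {a | α.act a x = x}
  zero_mem' := α.act_zero x
  add_mem' {a b} ha hb := by
    show α.act (a + b) x = x
    rw [α.act_add, show α.act b x = x from hb, show α.act a x = x from ha]
  neg_mem' {a} ha := by
    show α.act (-a) x = x
    conv_lhs => rw [← show α.act a x = x from ha]
    exact α.act_neg_act a x

theorem mem_stab {x : X} {a : A} : a ∈ α.stab x ↔ α.act a x = x := Iff.rfl

theorem stab_act (a : A) (x : X) : α.stab (α.act a x) = α.stab x := by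
  ext b
  rw [mem_stab, mem_stab, α.act_comm]
  exact (α.act_injective a).eq_iff

/-- The orbit. -/
def orb (x : X) : Set X := Set.range fun a => α.act a x

theorem mem_orb_self (x : X) : x ∈ α.orb x := ⟨0, α.act_zero x⟩

theorem stab_of_mem_orb {x y : X} (h : y ∈ α.orb x) : α.stab y = α.stab x := by
  obtain ⟨a, rfl⟩ := h
  exact α.stab_act a x

theorem orb_eq_of_mem {x y : X} (h : y ∈ α.orb x) : α.orb y = α.orb x := by
  obtain ⟨a, rfl⟩ := h
  ext z
  constructor
  · rintro ⟨b, rfl⟩
    exact ⟨b + a, α.act_add b a x⟩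
  · rintro ⟨b, rfl⟩
    exact ⟨b - a, show α.act (b - a) (α.act a x) = α.act b x by rw [← α.act_add, sub_add_cancel]⟩

/-- The orbit has as many points as the stabiliser has cosets. -/
theorem ncard_orb (x : X) : (α.orb x).ncard * Nat.card (α.stab x) = Nat.card A := by
  rw [← Nat.card_coe_set_eq, AddSubgroup.card_eq_card_quotient_mul_card_addSubgroup (α.stab x)]
  congr 1
  refine Nat.card_congr (Equiv.ofBijective
    (Quotient.lift (fun a => (⟨α.act a x, a, rfl⟩ : α.orb x)) fun a b h => Subtype.ext ?_) ⟨?_, ?_⟩).symm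
  · have h' : α.act (-a + b) x = x := QuotientAddGroup.leftRel_apply.1 h
    show α.act a x = α.act b x
    conv_lhs => rw [← h']
    rw [← α.act_add, add_neg_cancel_left]
  · rintro ⟨a⟩ ⟨b⟩ h
    refine Quotient.sound (QuotientAddGroup.leftRel_apply.2 ?_)
    show α.act (-a + b) x = x
    rw [α.act_add, ← show α.act a x = α.act b x from congrArg Subtype.val h, α.act_neg_act]
  · rintro ⟨_, a, rfl⟩
    exact ⟨⟦a⟧, rfl⟩

/-- The orbit has as many points as the annihilator has characters. -/
theorem ncard_orb_eq_ann (π : Pairing A R) (x : X) : (α.orb x).ncard = (π.ann (α.stab x)).ncard := by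
  have h1 := α.ncard_orb x
  have h2 := π.card_ann (α.stab x)
  rw [← h2, mul_comm] at h1
  exact Nat.eq_of_mul_eq_mul_left Nat.card_pos h1

/-- The multiplicity of a character, times the order of the group. -/
noncomputable def mult [Fintype X] (π : Pairing A R) (z : A) : ℕ := by
  classical exact ∑ x, if z ∈ π.ann (α.stab x) then Nat.card (α.stab x) else 0

/-- The fixed points of an element. -/
noncomputable def fix [Fintype X] (a : A) : ℕ := Nat.card {x : X // α.act a x = x}

variable [Fintype X]

theorem mult_eq_sum (π : Pairing A R) (z : A) : (α.mult π z : R) = ∑ a, (α.fix a : R) * π.e a z := by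
  classical
  rw [mult, Nat.cast_sum, show ∑ a, (α.fix a : R) * π.e a z =
    ∑ a, ∑ x, if α.act a x = x then π.e a z else 0 from Finset.sum_congr rfl fun a _ => by
      rw [fix, Nat.card_eq_fintype_card, Fintype.card_subtype, Finset.sum_ite, Finset.sum_const_zero, add_zero,
        Finset.sum_const, nsmul_eq_mul], Finset.sum_comm]
  refine Finset.sum_congr rfl fun x _ => ?_
  have h := π.sum_sub (α.stab x) z
  rw [← Finset.sum_subtype (Finset.univ.filter (· ∈ α.stab x)) (by simp) (fun a => π.e a z), Finset.sum_filter] at h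
  push_cast
  exact h.symm

theorem fix_eq_sum (π : Pairing A R) (b : A) :
    ∑ z, (α.mult π z : R) * π.e b z = (Nat.card A : R) * α.fix b := by
  classical
  simp only [mult, Nat.cast_sum, Finset.sum_mul]
  rw [Finset.sum_comm, fix, Nat.card_eq_fintype_card (α := {x : X // _}), Fintype.card_subtype,
    show ((Nat.card A : R) * ((Finset.univ.filter fun x => α.act b x = x).card : R)) =
      ∑ x, if b ∈ α.stab x then (Nat.card A : R) else 0 by
        rw [Finset.sum_ite, Finset.sum_const_zero, add_zero, Finset.sum_const, nsmul_eq_mul, mul_comm]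
        rfl]
  refine Finset.sum_congr rfl fun x _ => ?_
  rw [← π.sum_ann (α.stab x) b, Finset.mul_sum, Finset.sum_filter]
  refine Finset.sum_congr rfl fun z _ => ?_
  split_ifs <;> simp

/-- Every point contributes once. -/
theorem sum_mult (π : Pairing A R) : ∑ z, α.mult π z = Nat.card A * Nat.card X := by
  have h := α.fix_eq_sum π 0
  simp only [π.zerol, mul_one] at h
  have e : α.fix 0 = Nat.card X := Nat.card_congr (Equiv.subtypeUnivEquiv α.act_zero)
  rw [e] at h
  exact_mod_cast h

/-- The points of an orbit carrying a character contribute the order of the group. -/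
theorem card_le_mult (π : Pairing A R) {z : A} (s : Finset X) (hs : ∀ x ∈ s, z ∈ π.ann (α.stab x))
    (hd : (s : Set X).PairwiseDisjoint α.orb) : s.card * Nat.card A ≤ α.mult π z := by
  classical
  have hd' : (s : Set X).PairwiseDisjoint fun x => (α.orb x).toFinset := fun a ha b hb hab =>
    Set.disjoint_toFinset.2 (hd ha hb hab)
  have h : ∑ x ∈ s.biUnion fun x => (α.orb x).toFinset, Nat.card (α.stab x) ≤ α.mult π z := by
    rw [mult]
    refine le_trans (Finset.sum_le_sum fun x hx => ?_) (Finset.sum_le_univ_sum_of_nonneg fun _ => Nat.zero_le _)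
    obtain ⟨y, hy, hxy⟩ := Finset.mem_biUnion.1 hx
    rw [if_pos (by rw [α.stab_of_mem_orb (Set.mem_toFinset.1 hxy)]; exact hs y hy)]
  refine le_trans (le_of_eq ?_) h
  rw [Finset.sum_biUnion hd', Finset.sum_congr rfl fun x _ => ?_, Finset.sum_const, smul_eq_mul]
  rw [Finset.sum_congr rfl fun y hy => by rw [α.stab_of_mem_orb (Set.mem_toFinset.1 hy)], Finset.sum_const,
    smul_eq_mul, ← Set.ncard_eq_toFinset_card', α.ncard_orb]

variable (g : X → X) (σ : A ≃+ A) (hg : ∀ a x, g (α.act a x) = α.act (σ a) (g x))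

include hg in
open scoped Classical in
/-- The fixed points of a normalising element are bounded by the invariant characters of the stable orbits. -/
theorem fix_le (π : Pairing A R) :
    Nat.card A * Nat.card {x : X // g x = x} ≤ ∑ x : X, if g x ∈ α.orb x then
      Nat.card (α.stab x) * {z | z ∈ π.ann (α.stab x) ∧ ∀ a, π.e (σ a) z = π.e a z}.ncard else 0 := by
  classical
  rw [← Nat.card_prod, Nat.card_eq_fintype_card]
  refine le_trans (le_of_eq ?_) (Finset.sum_le_sum (s := Finset.univ) (f := fun x : X =>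
    (Finset.univ.filter fun p : A × {x : X // g x = x} => α.act p.1 p.2.1 = x).card) fun x _ => ?_)
  · rw [← Finset.card_univ]
    exact Finset.card_eq_sum_card_fiberwise fun p _ => Finset.mem_univ _
  set K := α.stab x
  rcases (Finset.univ.filter fun p : A × {x : X // g x = x} => α.act p.1 p.2.1 = x).eq_empty_or_nonempty
    with h0 | ⟨⟨a₀, y₀⟩, hp₀⟩
  · simp [h0]
  have hy₀ : α.act a₀ y₀.1 = x := (Finset.mem_filter.1 hp₀).2
  have hgx : g x = α.act (σ a₀ - a₀) x := by
    conv_lhs => rw [← hy₀]
    rw [hg, y₀.2, ← hy₀, ← α.act_add, sub_add_cancel]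
  rw [if_pos ⟨σ a₀ - a₀, hgx.symm⟩]
  let B : AddSubgroup A := K.comap (σ.toAddMonoidHom - AddMonoidHom.id A)
  let f : A →+ A ⧸ K := (QuotientAddGroup.mk' K).comp (σ.toAddMonoidHom - AddMonoidHom.id A)
  have hker : f.ker = B := by
    ext a
    exact QuotientAddGroup.eq_zero_iff (σ a - a)
  let I : AddSubgroup A := f.range.comap (QuotientAddGroup.mk' K)
  have hKI : K ≤ I := fun a ha => ⟨0, by simp [(QuotientAddGroup.eq_zero_iff a).2 ha]⟩
  have hinv : π.ann I ⊆ {z | z ∈ π.ann K ∧ ∀ a, π.e (σ a) z = π.e a z} := fun z hz =>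
    ⟨fun a ha => hz a (hKI ha), fun a => by
      have h := hz (σ a - a) ⟨a, rfl⟩
      have h2 := π.addl (σ a - a) a z
      rwa [sub_add_cancel, h, one_mul] at h2⟩
  have hcount : Nat.card B ≤ Nat.card K * {z | z ∈ π.ann K ∧ ∀ a, π.e (σ a) z = π.e a z}.ncard := by
    refine le_trans (le_of_eq ?_) (Nat.mul_le_mul_left _ (Set.ncard_le_ncard hinv (Set.toFinite _)))
    have e1 := π.card_ann I
    have e2 := AddSubgroup.card_eq_card_quotient_mul_card_addSubgroup f.ker
    rw [Nat.card_congr (QuotientAddGroup.quotientKerEquivRange f).toEquiv, hker] at e2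
    have e3 : Nat.card I = Nat.card K * Nat.card f.range := by
      let π' : I →+ f.range := ((QuotientAddGroup.mk' K).comp I.subtype).codRestrict _ fun a => a.2
      have h1 := AddSubgroup.card_eq_card_quotient_mul_card_addSubgroup π'.ker
      rw [Nat.card_congr (QuotientAddGroup.quotientKerEquivOfSurjective π' fun ⟨b, hb⟩ => by
        obtain ⟨a, rfl⟩ := QuotientAddGroup.mk'_surjective K b
        exact ⟨⟨a, hb⟩, rfl⟩).toEquiv, show π'.ker = K.addSubgroupOf I by
          ext a; rw [AddMonoidHom.mem_ker, AddSubgroup.mem_addSubgroupOf, Subtype.ext_iff]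
          exact QuotientAddGroup.eq_zero_iff a.1,
        Nat.card_congr (AddSubgroup.addSubgroupOfEquivOfLe hKI).toEquiv, mul_comm] at h1
      exact h1
    refine Nat.eq_of_mul_eq_mul_left (show 0 < Nat.card f.range from Nat.card_pos) ?_
    rw [← e2, ← e1, e3]
    ring
  refine le_trans ?_ hcount
  rw [← Fintype.card_subtype, ← Nat.card_eq_fintype_card]
  refine Nat.card_le_card_of_injective (fun p => (⟨p.1.1 - a₀, ?_⟩ : B)) fun p p' h => ?_
  · obtain ⟨⟨b, y, hy'⟩, hy⟩ := p
    have h1 : α.act (σ a₀ - a₀) x = α.act (σ b - b) x := by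
      rw [← hgx]
      calc g x = g (α.act b y) := congrArg g hy.symm
        _ = α.act (σ b) y := by rw [hg, hy']
        _ = α.act (σ b - b) (α.act b y) := by rw [← α.act_add, sub_add_cancel]
        _ = α.act (σ b - b) x := congrArg _ hy
    show σ (b - a₀) - (b - a₀) ∈ K
    rw [map_sub, show σ b - σ a₀ - (b - a₀) = -(σ a₀ - a₀) + (σ b - b) by abel,
      mem_stab, α.act_add, ← h1, α.act_neg_act]
  · have ha : p.1.1 = p'.1.1 := sub_left_injective (congrArg Subtype.val h)
    refine Subtype.ext (Prod.ext ha (Subtype.ext (α.act_injective p.1.1 ?_)))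
    have e : α.act p.1.1 p.1.2.1 = x := p.2
    have e' : α.act p'.1.1 p'.1.2.1 = x := p'.2
    rw [e, ha, e']

end AAct

end CfsgLib.PGroup.SpIndex
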