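import Cfsg.Agent.Lib.PGroup.SpIndex.EvenCentre

/-!
Small actions in characteristic two.
-/

set_option autoImplicit false
set_option linter.unusedSectionVars false

namespace CfsgLib.PGroup.SpIndex

open Matrix CfsgLib.Sp CfsgLib.Classical.OddOrthEven

attribute [local instance] _root_.Classical.propDecidable

variable {m : ℕ} {F : Type*} [Field F] [Fintype F] [CharP F 2]

local notation "V" => (Fin m ⊕ Fin m → F)
local notation "G" => Matrix.symplecticGroup (Fin m) F
local notation "q" => Fintype.card F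

variable {X : Type*} [MulAction (Matrix.symplecticGroup (Fin m) F) X]

theorem torus_dSub_bot {P : Pair m F} {y : X} (c : Fˣ) (h : dSub P y = ⊥) :
    dSub P (P.torus c • y) = ⊥ := by
  rw [AddSubgroup.eq_bot_iff_forall]
  intro z hz
  have h1 := torus_dSub c⁻¹ hz
  rw [← mul_smul, show P.torus c⁻¹ * P.torus c = P.torusHom c⁻¹ * P.torusHom c from rfl, ← map_mul, inv_mul_cancel,
    map_one, one_smul, h, AddSubgroup.mem_bot, inv_inv] at h1
  exact (smul_eq_zero.1 h1).resolve_left c.ne_zero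

/-- The scaling reaches every character of the centre. -/
theorem exists_torus_mSub {P : Pair m F} {y : X} (hy : Moves P.e y) {μ : F} (hμ : μ ≠ 0) :
    ∃ c : Fˣ, μ ∈ mSub P (P.torus c • y) := by
  obtain ⟨μ₀, hμ₀, h0⟩ := exists_mSub P hy
  obtain ⟨c, hc⟩ := exists_sq_unit (div_ne_zero h0 hμ)
  refine ⟨c, ?_⟩
  have h1 := torus_mSub c hμ₀
  have e : ((c⁻¹ : Fˣ) : F) * ((c⁻¹ : Fˣ) : F) * μ₀ = μ := by
    rw [show μ₀ = (c : F) * c * μ by rw [hc, div_mul_cancel₀ _ hμ],
      show ((c⁻¹ : Fˣ) : F) * ((c⁻¹ : Fˣ) : F) * ((c : F) * c * μ) =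
        ((c : F) * ((c⁻¹ : Fˣ) : F)) * ((c : F) * ((c⁻¹ : Fˣ) : F)) * μ by ring, c.mul_inv, one_mul, one_mul]
  rwa [e] at h1

/-- In characteristic two the lines occur only in dimension four. -/
theorem line_dim (hm : 2 ≤ m) (hq3 : 3 ≤ q) (P : Pair m F) {y : X} (hy : Moves P.e y) (hT : T0 P y = ⊥)
    (hd : dSub P y ≠ ⊥) {v : P.perp} (hv : ∀ w, w ∈ dSub P y ↔ ∃ c : F, w = c • v)
    (hu : ∀ z z' : X, Moves P.e z → dSub P z ≠ ⊥ → Moves P.e z' → dSub P z' ≠ ⊥ → dSub P z = dSub P z' →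
      z' ∈ qorb P z) : m = 2 := by
  by_contra hm'
  set α := radAct (X := X) P
  have hv0 : v ≠ 0 := by
    rintro rfl
    obtain ⟨w, hw, hw0⟩ := exists_mem_ne hd
    obtain ⟨c, rfl⟩ := (hv w).1 hw
    exact hw0 (smul_zero c)
  obtain ⟨b, hb, hbv⟩ := P.perp_nd v.2 fun h => hv0 (Subtype.ext h)
  obtain ⟨u, huv, hub, hu0⟩ : ∃ u : P.perp, sf u.1 v.1 = 0 ∧ sf u.1 b = 0 ∧ u ≠ 0 := by
    by_contra hcon
    simp only [not_exists, not_and, not_not] at hcon
    have h := Nat.card_le_card_of_injective (fun a : P.perp => (sf a.1 v.1, sf a.1 b)) fun a a' h => by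
      obtain ⟨h1, h2⟩ := Prod.mk.inj h
      exact sub_eq_zero.1 (hcon (a - a') (by rw [Submodule.coe_sub, sf_sub_left, h1, sub_self])
        (by rw [Submodule.coe_sub, sf_sub_left, h2, sub_self]))
    rw [Nat.card_prod, Nat.card_eq_fintype_card (α := F), P.card_perp_eq (show 1 ≤ m by omega), ← pow_two] at h
    have := (Nat.pow_le_pow_iff_right (show 1 < q by omega)).1 h
    omega
  obtain ⟨a₀, ha₀, ha₀u⟩ := P.perp_nd u.2 fun h => hu0 (Subtype.ext h)
  set a : P.perp := ⟨a₀, ha₀⟩ - sf a₀ v.1 • ⟨b, hb⟩ with ha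
  have hav : sf a.1 v.1 = 0 := by
    rw [ha, Submodule.coe_sub, Submodule.coe_smul, sf_sub_left, sf_smul_left, hbv, mul_one, sub_self]
  have hau : sf a.1 u.1 = 1 := by
    rw [ha, Submodule.coe_sub, Submodule.coe_smul, sf_sub_left, sf_smul_left, sf_comm' b u.1, hub, mul_zero, sub_zero,
      ha₀u]
  have key : ∀ (c l : F), (c * l) • u = u → ((u : P.perp), hq u.1 + l) ∈ α.stab y := by
    intro c l hcl
    obtain ⟨t, ht⟩ := (mem_uSub_iff_stab P).1 ((uSub_of_line hv (l • a)).2 (by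
      rw [Submodule.coe_smul, sf_smul_left, hav, mul_zero]))
    set g := tv u.1 c with hgdef
    have hg : IsLevi P g := ⟨by rw [hgdef, tv_mulVec, sf_symm_zero u.2.1, mul_zero, zero_smul, add_zero],
      by rw [hgdef, tv_mulVec, sf_symm_zero u.2.2, mul_zero, zero_smul, add_zero]⟩
    have hgv : hg.map v = v := Subtype.ext (by
      show g.1 *ᵥ v.1 = v.1
      rw [hgdef, tv_mulVec, sf_comm' v.1 u.1, huv, mul_zero, zero_smul, add_zero])
    have hD : dSub P (g • y) = dSub P y := SetLike.ext fun w => by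
      rw [← hg.map_inv w, hg.mem_dSub, hg.map_inv, hv, hv]
      constructor
      · rintro ⟨k, hk⟩
        refine ⟨k, ?_⟩
        rw [← hg.map_inv w, hk]
        refine Subtype.ext ?_
        show g.1 *ᵥ (k • v.1) = k • v.1
        rw [Matrix.mulVec_smul, show g.1 *ᵥ v.1 = v.1 from congrArg Subtype.val hgv]
      · rintro ⟨k, rfl⟩
        refine ⟨k, Subtype.ext ?_⟩
        show (g⁻¹).1 *ᵥ (k • v.1) = k • v.1
        conv_lhs => rw [← show g.1 *ᵥ v.1 = v.1 from congrArg Subtype.val hgv, ← Matrix.mulVec_smul, sp_inv_mulVec]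
    have horb : g • y ∈ α.orb y := by
      rw [orb_radAct]
      exact hu y (g • y) hy hd (hg.moves hy) (by rwa [hD]) hD.symm
    have hga : g.1 *ᵥ (l • a : P.perp).1 = (l • a : P.perp).1 + u.1 := by
      rw [hgdef, tv_mulVec, Submodule.coe_smul, sf_smul_left, hau, mul_one,
        show (c * l) • u.1 = u.1 from congrArg Subtype.val hcl]
    have h1 : (hg.map (l • a), t + hq (l • a : P.perp).1 + hq (hg.map (l • a)).1) ∈ α.stab y := by
      rw [← α.stab_of_mem_orb horb]
      show iota P _ • g • y = g • y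
      rw [iota, add_assoc (t + _), CharTwo.add_self_eq_zero, add_zero]
      show P.qe (g.1 *ᵥ (l • a : P.perp).1) _ • g • y = g • y
      rw [hg.qe_smul]
      exact congrArg (g • ·) ht
    have h2 := (α.stab y).add_mem ht h1
    convert h2 using 1
    refine Prod.ext (Subtype.ext ?_) ?_
    · show u.1 = (l • a : P.perp).1 + g.1 *ᵥ (l • a : P.perp).1
      rw [hga, ← add_assoc, vec_add_self, zero_add]
    · show hq u.1 + l = t + (t + hq (l • a : P.perp).1 + hq (g.1 *ᵥ (l • a : P.perp).1))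
      rw [hga, hq_add, show sf (l • a : P.perp).1 u.1 = l by rw [Submodule.coe_smul, sf_smul_left, hau, mul_one]]
      linear_combination -(t + hq (l • a : P.perp).1) * (CharTwo.two_eq_zero : (2 : F) = 0)
  obtain ⟨l, hl0, hl1⟩ : ∃ l : F, l ≠ 0 ∧ l ≠ 1 := by
    by_contra hcon
    simp only [not_exists, not_and, not_not] at hcon
    have hsub : (Finset.univ : Finset F) ⊆ {0, 1} := fun x _ => by
      simp only [Finset.mem_insert, Finset.mem_singleton]
      exact or_iff_not_imp_left.2 (hcon x)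
    have := (Finset.card_le_card hsub).trans Finset.card_le_two
    rw [Finset.card_univ] at this
    omega
  have h := (α.stab y).add_mem (key 1 1 (by rw [mul_one, one_smul]))
    (key l⁻¹ l (by rw [inv_mul_cancel₀ hl0, one_smul]))
  rw [Prod.mk_add_mk, show u + u = 0 from Subtype.ext (vec_add_self u.1)] at h
  have h' : (1 + l : F) ∈ T0 P y := by
    have e : iota P ((0 : P.perp), hq u.1 + 1 + (hq u.1 + l)) • y = y := h
    rw [iota_centre, show hq u.1 + 1 + (hq u.1 + l) = 1 + l by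
      linear_combination hq u.1 * (CharTwo.two_eq_zero : (2 : F) = 0)] at e
    exact e
  rw [hT, AddSubgroup.mem_bot] at h'
  exact hl1 (CharTwo.add_eq_zero.1 h').symm

variable [Finite X]

/-- No moved point is blind to the quotient. -/
theorem dSub_ne_bot_even (hm : 2 ≤ m) (hq : 4 ≤ q) (hsmall : Small m F X) (P : Pair m F) {y : X}
    (hy : Moves P.e y) : dSub P y ≠ ⊥ := by
  intro hbot
  haveI : Fintype X := Fintype.ofFinite X
  have hm1 : 1 ≤ m := by omega
  obtain ⟨x, hx, hxd⟩ := exists_dSub_ne P hm (by omega) hy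
  obtain ⟨y₀, hy₀, hT, hd⟩ := exists_free_centre hm (by omega) hsmall (P := P) fun μ hμ => by
    obtain ⟨c, hc⟩ := exists_torus_mSub hx hμ
    refine ⟨P.torus c • x, torus_moves c hx, hc, fun h => hxd ?_⟩
    have h' := torus_dSub_bot c⁻¹ h
    rwa [← mul_smul, show P.torus c⁻¹ * P.torus c = P.torusHom c⁻¹ * P.torusHom c from rfl, ← map_mul, inv_mul_cancel,
      map_one, one_smul] at h'
  obtain ⟨c, hc⟩ := exists_torus_mSub hy (one_ne_zero (α := F))
  set y₁ := P.torus c • y with hy₁def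
  have hy₁ : dSub P y₁ = ⊥ := torus_dSub_bot c hbot
  obtain ⟨z₁, hz₁⟩ := exists_lift P hc
  set α := radAct (X := X) P
  set ρ := radPairing P
  haveI : Nontrivial P.perp := Finite.one_lt_card_iff_nontrivial.1 (by
    rw [P.card_perp_eq hm1]
    exact Nat.one_lt_pow (by omega) (by omega))
  obtain ⟨⟨a₁, ha₁⟩, hne⟩ := exists_ne (0 : P.perp)
  have ha₁0 : a₁ ≠ 0 := fun h => hne (Subtype.ext h)
  set f1 : ℤ := (fixN X (tv P.e (1 : F)) : ℤ) with hf1
  set Δ : ℤ := delta (X := X) P a₁ with hΔ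
  set Φ : ℤ := (Nat.card X : ℤ) - f1 - Δ with hΦ
  have hmult : ∀ z : P.perp, (α.mult ρ (z, (1 : F)) : ℤ) = Φ + Δ * gauss P 1 z := fun z => by
    rw [mult_formula P ha₁ ha₁0 one_ne_zero, hΦ, hΔ, hf1]
    ring
  obtain ⟨hpm, ⟨zp, hzp⟩, ⟨zm, hzm⟩⟩ := gauss_signs P hm (one_ne_zero (α := F))
  set p : ℤ := (q : ℤ) ^ (m - 1) with hp
  have hp2 : (q : ℤ) ^ (2 * (m - 1)) = p * p := by rw [hp, ← pow_add, two_mul]
  have hA : (Nat.card (P.perp × F) : ℤ) = (q : ℤ) * (p * p) := by
    rw [Nat.card_prod, P.card_perp_eq hm1, Nat.card_eq_fintype_card, Nat.cast_mul, Nat.cast_pow, hp2, mul_comm]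
  have hq4 : (4 : ℤ) ≤ q := by exact_mod_cast hq
  have hpq : (q : ℤ) ≤ p := by
    rw [hp]
    exact le_self_pow₀ (by linarith) (by omega)
  have hs : (Nat.card X : ℤ) * ((q : ℤ) - 1) + 2 ≤ (q : ℤ) * q * (p * p) := by
    have h := small' hm (show 3 ≤ q by omega) hsmall
    have h2 : ((Nat.card X * (q - 1) + 2 : ℕ) : ℤ) ≤ ((q * q * q ^ (2 * (m - 1)) : ℕ) : ℤ) := by exact_mod_cast h
    rw [Nat.cast_add, Nat.cast_mul, Nat.cast_sub (show 1 ≤ q by omega), Nat.cast_mul, Nat.cast_mul, Nat.cast_pow,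
      hp2] at h2
    simpa using h2
  have hf1nn : 0 ≤ f1 := Nat.cast_nonneg _
  rcases dichotomy hm (show 3 ≤ q by omega) hsmall hy₀ hT hd with ⟨h, -⟩ | ⟨h, hu⟩
  · obtain ⟨hT₀, hU₀⟩ := h y₀ hy₀ hd
    have hstab : α.stab y₀ = ⊥ := (AddSubgroup.eq_bot_iff_forall _).2 fun r hr => by
      have ha : r.1 ∈ uSub P y₀ := (mem_uSub_iff_stab P).2 ⟨r.2, hr⟩
      rw [hU₀, AddSubgroup.mem_bot] at ha
      have ht : r.2 ∈ T0 P y₀ := by
        have e : iota P r • y₀ = y₀ := hr
        rwa [show r = ((0 : P.perp), r.2) from Prod.ext ha rfl, iota_centre] at e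
      rw [hT₀, AddSubgroup.mem_bot] at ht
      exact Prod.ext ha ht
    have hall : ∀ z : P.perp × F, z ∈ ρ.ann (α.stab y₀) := fun z a ha => by
      rw [hstab, AddSubgroup.mem_bot] at ha
      rw [ha]; exact ρ.zerol z
    have h1 : ∀ z : P.perp, (Nat.card (P.perp × F) : ℤ) ≤ α.mult ρ (z, (1 : F)) := fun z => by
      have h := α.card_le_mult ρ (z := (z, (1 : F))) {y₀} (fun x hx => by rw [Finset.mem_singleton.1 hx]; exact hall _)
        (by rw [Finset.coe_singleton]; exact Set.pairwiseDisjoint_singleton _ _)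
      rw [Finset.card_singleton, one_mul] at h
      exact_mod_cast h
    have hdis : Disjoint (α.orb y₀) (α.orb y₁) := Set.disjoint_left.2 fun w hw hw' => by
      rw [orb_radAct] at hw hw'
      exact hd ((dSub_qorb P hw).symm.trans ((dSub_qorb P hw').trans hy₁))
    have hne' : y₀ ≠ y₁ := fun e => hd (e ▸ hy₁)
    have h2 : 2 * (Nat.card (P.perp × F) : ℤ) ≤ α.mult ρ (z₁, (1 : F)) := by
      have h := α.card_le_mult ρ (z := (z₁, (1 : F))) ({y₀, y₁} : Finset X) (fun x hx => by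
        rcases Finset.mem_insert.1 hx with rfl | hx
        · exact hall _
        · rw [Finset.mem_singleton.1 hx]; exact hz₁)
        (by
          rw [Finset.coe_pair]
          exact Set.pairwiseDisjoint_insert_of_notMem (by simpa using hne') |>.2
            ⟨Set.pairwiseDisjoint_singleton _ _, fun j hj => by rw [Set.mem_singleton_iff.1 hj]; exact hdis⟩)
      rw [Finset.card_pair hne'] at h
      exact_mod_cast h
    have hp1 := h1 zp
    have hm1' := h1 zm
    rw [hA] at hp1 hm1' h2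
    rw [hmult, hzp] at hp1
    rw [hmult, hzm] at hm1'
    have hpos : (0 : ℤ) < p := by linarith
    have hsum : (q : ℤ) * (p * p) * (3 * p - 1) ≤ 2 * p * (Φ + Δ) := by
      rcases hpm z₁ with h | h <;> rw [hmult, h] at h2 <;>
        nlinarith [mul_le_mul_of_nonneg_left hp1 (show (0 : ℤ) ≤ p - 1 by linarith),
          mul_le_mul_of_nonneg_left hm1' (show (0 : ℤ) ≤ p - 1 by linarith)]
    have hXle : Φ + Δ ≤ (Nat.card X : ℤ) := by rw [hΦ]; linarith
    have h4 : ((q : ℤ) - 1) * ((q : ℤ) * (p * p) * (3 * p - 1)) < 2 * p * ((q : ℤ) * q * (p * p)) := by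
      refine lt_of_le_of_lt (mul_le_mul_of_nonneg_left
        (hsum.trans (mul_le_mul_of_nonneg_left hXle (by linarith))) (by linarith)) ?_
      nlinarith
    have h5 : ((q : ℤ) - 1) * (3 * p - 1) < 2 * p * q := by
      refine lt_of_mul_lt_mul_left (a := (q : ℤ) * (p * p)) ?_ (mul_nonneg (by linarith) (mul_self_nonneg p))
      linear_combination h4
    nlinarith
  · obtain ⟨-, v, hv0, hv⟩ := h y₀ hy₀ hd
    have hm2 : m = 2 := line_dim hm (by omega) P hy₀ hT hd hv hu
    have hpq' : p = q := by rw [hp, hm2, pow_one]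
    obtain ⟨s, hsA, hsd, hsr⟩ := exists_reps P {z : X | Moves P.e z ∧ dSub P z ≠ ⊥}
    have hR : ∀ z ∈ s, Nat.card (mSub P z) = q ∧ Nat.card (dSub P z) = q := fun z hz => by
      obtain ⟨hTz, w, hw0, hw⟩ := h z (hsA hz).1 (hsA hz).2
      refine ⟨?_, ?_⟩
      · have h' := card_mSub P z
        rwa [hTz, AddSubgroup.card_bot, one_mul] at h'
      · rw [← Nat.card_eq_fintype_card (α := F)]
        refine (Nat.card_congr (Equiv.ofBijective (fun c : F => (⟨c • w, (hw _).2 ⟨c, rfl⟩⟩ : dSub P z))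
          ⟨fun a b h => smul_left_injective F hw0 (congrArg Subtype.val h), fun ⟨u, hu⟩ => ?_⟩)).symm
        obtain ⟨k, rfl⟩ := (hw u).1 hu
        exact ⟨k, rfl⟩
    have hcov := sum_dSub_ge hm1 s 1 fun w hw => by
      obtain ⟨g, hg, hgv⟩ := levi_dSub ((hv v).2 ⟨1, (one_smul F v).symm⟩) hv0 hw
      obtain ⟨z, hz, hgz⟩ := hsr (g • y₀) ⟨hg.moves hy₀, cls_dSub ⟨g, hg, mem_qorb_self P _⟩ hd⟩
      exact Finset.card_pos.2 ⟨z, Finset.mem_filter.2 ⟨hz, by rwa [dSub_qorb P hgz] at hgv⟩⟩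
    rw [Finset.sum_congr rfl fun z hz => (hR z hz).2, Finset.sum_const, smul_eq_mul, one_mul, hm2] at hcov
    norm_num at hcov
    have hmv := sum_orbits hm1 s hsd {z : X | Moves P.e z ∧ dSub P z ≠ ⊥} fun z hz x hx =>
      ⟨moves_qorb P (hsA hz).1 hx, by rw [dSub_qorb P hx]; exact (hsA hz).2⟩
    rw [Finset.sum_congr rfl fun z hz => by rw [(hR z hz).1, (hR z hz).2], Finset.sum_const, smul_eq_mul] at hmv
    obtain ⟨t₀, ht₀⟩ := hy
    have ht0 : t₀ ≠ 0 := fun h => ht₀ (by rw [h, tv_zero, one_smul])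
    obtain ⟨d, hdd⟩ := exists_sq_unit (inv_ne_zero ht0)
    have hy₂ : tv P.e (1 : F) • P.torus d • y ≠ P.torus d • y := by
      intro h
      refine ht₀ (smul_left_cancel (P.torus d) ?_)
      rw [← P.qe_tv t₀, ← torus_qe_smul d P.perp.zero_mem, smul_zero, P.qe_tv, hdd, inv_mul_cancel₀ ht0]
      exact h
    have hmoved : {z : X | Moves P.e z ∧ dSub P z ≠ ⊥}.ncard + 1 + fixN X (tv P.e (1 : F)) ≤ Nat.card X := by
      rw [fixN, ← Set.ncard_insert_of_notMem (s := {z : X | Moves P.e z ∧ dSub P z ≠ ⊥}) (a := P.torus d • y)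
        (fun h => h.2 (torus_dSub_bot d hbot)) (Set.toFinite _),
        show Nat.card {x : X // tv P.e (1 : F) • x = x} = {x : X | tv P.e (1 : F) • x = x}.ncard from
          Nat.card_coe_set_eq _,
        ← Set.ncard_union_eq ?_ (Set.toFinite _) (Set.toFinite _), ← Set.ncard_univ]
      · exact Set.ncard_le_ncard (Set.subset_univ _) (Set.toFinite _)
      · refine Set.disjoint_left.2 fun z hz hfix => ?_
        rcases hz with rfl | ⟨hzm, hzd⟩
        · exact hy₂ hfix
        · obtain ⟨hTz, -⟩ := h z hzm hzd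
          have h1 : (1 : F) ∈ T0 P z := hfix
          rw [hTz, AddSubgroup.mem_bot] at h1
          exact one_ne_zero h1
    have hK : (q : ℤ) + 1 ≤ s.card := by
      have h' : ((q ^ 2 : ℕ) : ℤ) - 1 + s.card ≤ (s.card : ℤ) * q := by
        have h1 : 1 ≤ q ^ 2 := Nat.one_le_pow _ _ (by omega)
        zify [h1] at hcov
        exact_mod_cast hcov
      push_cast at h'
      nlinarith
    have hlow : (q : ℤ) * q * (q + 1) + 1 ≤ (Nat.card X : ℤ) - f1 := by
      have h1 : ((s.card * (q * q) + 1 + fixN X (tv P.e (1 : F)) : ℕ) : ℤ) ≤ (Nat.card X : ℤ) := by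
        exact_mod_cast le_trans (by omega) hmoved
      push_cast at h1
      rw [hf1]
      nlinarith
    have hhigh : (Nat.card X : ℤ) ≤ (q : ℤ) * q * (q + 1) + q := by
      rw [hpq'] at hs
      nlinarith
    have hdvd : ∀ z : P.perp, ((q : ℤ) * (p * p)) ∣ (α.mult ρ (z, (1 : F)) : ℤ) := fun z => by
      rw [← hA]
      exact Int.natCast_dvd_natCast.2 (card_dvd_mult P (z, (1 : F)))
    have hdp := hdvd zp
    have hdm := hdvd zm
    rw [hmult, hzp, hpq'] at hdp
    rw [hmult, hzm, hpq'] at hdm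
    obtain ⟨A, hA'⟩ := hdp
    obtain ⟨B, hB'⟩ := hdm
    have hval : 2 * ((Nat.card X : ℤ) - f1) = (q : ℤ) * q * ((q + 1) * A + ((q : ℤ) - 1) * B) := by
      refine mul_left_cancel₀ (show (q : ℤ) ≠ 0 by linarith) ?_
      have e : (Nat.card X : ℤ) - f1 = Φ + Δ := by rw [hΦ]; ring
      rw [e]
      linear_combination ((q : ℤ) + 1) * hA' + ((q : ℤ) - 1) * hB'
    set W := ((q : ℤ) + 1) * A + ((q : ℤ) - 1) * B
    have hW1 : 2 * ((q : ℤ) + 1) < W := by nlinarith
    nlinarith [mul_le_mul_of_nonneg_left (show 2 * ((q : ℤ) + 1) + 1 ≤ W by omega)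
      (mul_nonneg (show (0 : ℤ) ≤ q by linarith) (show (0 : ℤ) ≤ q by linarith))]

/-- A small action in characteristic two has free moved orbits. -/
theorem freeMoved_even (hm : 2 ≤ m) (hq : 4 ≤ q) (hsmall : Small m F X)
    [MulAction.IsPretransitive (Matrix.symplecticGroup (Fin m) F) X] : FreeMoved m F X := by
  refine freeMoved_of hm (by omega) (fun h => by omega) hsmall
    (fun P y hy => dSub_ne_bot_even hm hq hsmall P hy) (fun P y hy => ?_) fun P y hy hd hu => ?_
  · exact exists_free_centre hm (by omega) hsmall fun μ hμ => by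
      obtain ⟨c, hc⟩ := exists_torus_mSub hy hμ
      exact ⟨P.torus c • y, torus_moves c hy, hc, dSub_ne_bot_even hm hq hsmall P (torus_moves c hy)⟩
  · obtain ⟨y₀, hy₀, hT, hd₀⟩ := exists_free_centre hm (by omega) hsmall (P := P) fun μ hμ => by
      obtain ⟨c, hc⟩ := exists_torus_mSub hy hμ
      exact ⟨P.torus c • y, torus_moves c hy, hc, dSub_ne_bot_even hm hq hsmall P (torus_moves c hy)⟩
    rcases dichotomy hm (show 3 ≤ q by omega) hsmall hy₀ hT hd₀ with ⟨h, -⟩ | ⟨h, -⟩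
    · exfalso
      have h1 := card_dSub P (show 1 ≤ m by omega) y
      rw [(h y hy (dSub_ne_bot_even hm hq hsmall P hy)).2, AddSubgroup.card_bot, one_mul] at h1
      rw [h1] at hd
      exact absurd hd (not_le.2 (lt_of_eq_of_lt (pow_one q).symm (Nat.pow_lt_pow_right (by omega) (by omega))))
    · obtain ⟨hTy, v, hv0, hv⟩ := h y hy (dSub_ne_bot_even hm hq hsmall P hy)
      exact line_dim hm (by omega) P hy hTy (dSub_ne_bot_even hm hq hsmall P hy) hv hu

end CfsgLib.PGroup.SpIndex
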