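import Cfsg.Agent.Lib.PGroup.SpIndex.Assemble
import Cfsg.Agent.Lib.Classical.OddOrthEven

/-!
The radical at a vector in characteristic two as an abelian group, and the multiplicities of its characters.
-/

set_option autoImplicit false
set_option linter.unusedSectionVars false

namespace CfsgLib.PGroup.SpIndex

open Matrix CfsgLib.Sp CfsgLib.Classical.OddOrthEven

attribute [local instance] _root_.Classical.propDecidable

variable {m : ℕ} {F : Type*} [Field F] [Fintype F] [CharP F 2]

local notation "V" => (Fin m ⊕ Fin m → F)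
local notation "G" => Matrix.symplecticGroup (Fin m) F
local notation "q" => Fintype.card F

theorem neg_self (a : F) : -a = a := CharTwo.neg_eq a

theorem vec_add_self (a : Fin m ⊕ Fin m → F) : a + a = 0 := funext fun i => CharTwo.add_self_eq_zero (a i)

theorem sf_comm' (u v : V) : sf u v = sf v u := by rw [sf_swap, neg_self]

theorem exists_sq (a : F) : ∃ c : F, c * c = a := by
  obtain ⟨c, hc⟩ := FiniteField.isSquare_of_char_two (ringChar.eq F 2) a
  exact ⟨c, hc.symm⟩

theorem exists_sq_unit {a : F} (ha : a ≠ 0) : ∃ c : Fˣ, (c : F) * c = a := by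
  obtain ⟨c, hc⟩ := exists_sq a
  exact ⟨Units.mk0 c fun h => ha (by rw [← hc, h, mul_zero]), hc⟩

theorem psi_cases (x : F) : psi F x = 1 ∨ psi F x = -1 := by
  refine mul_self_eq_one_iff.1 ?_
  rw [← AddChar.map_add_eq_mul, CharTwo.add_self_eq_zero, AddChar.map_zero_eq_one]

variable (F) in
/-- The primitive character with integral values. -/
noncomputable def psiZ : AddChar F ℤ where
  toFun x := if psi F x = 1 then 1 else -1
  map_zero_eq_one' := by rw [if_pos (AddChar.map_zero_eq_one _)]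
  map_add_eq_mul' x y := by
    rcases psi_cases x with hx | hx <;> rcases psi_cases y with hy | hy <;>
      simp [AddChar.map_add_eq_mul, hx, hy] <;> norm_num

theorem psiZ_eq_one {x : F} : psiZ F x = 1 ↔ psi F x = 1 := by
  show (if psi F x = 1 then (1 : ℤ) else -1) = 1 ↔ _
  split_ifs with h <;> simp [h]

theorem psiZ_separates {a : F} (h : ∀ c : F, psiZ F (a * c) = 1) : a = 0 :=
  psi_separates fun c => psiZ_eq_one.1 (h c)

theorem sum_psiZ_mul {μ : F} (hμ : μ ≠ 0) : ∑ t : F, psiZ F (μ * t) = 0 := by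
  obtain ⟨c, hc⟩ : ∃ c : F, psiZ F (μ * c) ≠ 1 := by
    by_contra h
    simp only [not_exists, not_not] at h
    exact hμ (psiZ_separates h)
  have h : psiZ F (μ * c) * ∑ t : F, psiZ F (μ * t) = ∑ t : F, psiZ F (μ * t) := by
    rw [Finset.mul_sum]
    exact Fintype.sum_equiv (Equiv.addLeft c) _ _ fun t => by
      rw [Equiv.coe_addLeft, mul_add, AddChar.map_add_eq_mul]
  exact (mul_eq_zero.1 (show (psiZ F (μ * c) - 1) * ∑ t : F, psiZ F (μ * t) = 0 by
    rw [sub_mul, one_mul, h, sub_self])).resolve_left (sub_ne_zero.2 hc)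

/-- The pairing of the orthogonal of a pair with integral values. -/
noncomputable def perpZ (P : Pair m F) : Pairing P.perp ℤ where
  e a b := psiZ F (sf a.1 b.1)
  addl a b z := by rw [Submodule.coe_add, sf_add_left, AddChar.map_add_eq_mul]
  addr a z w := by rw [Submodule.coe_add, sf_add_right, AddChar.map_add_eq_mul]
  zerol z := by rw [Submodule.coe_zero, sf_zero_left, AddChar.map_zero_eq_one]
  zeror a := by rw [Submodule.coe_zero, sf_zero_right, AddChar.map_zero_eq_one]
  ndl a h := (perpPairing P).ndl a fun z => psiZ_eq_one.1 (h z)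

/-- The pairing of the radical with itself. -/
noncomputable def radPairing (P : Pair m F) : Pairing (P.perp × F) ℤ where
  e p z := psiZ F (p.2 * z.2 + sf p.1.1 z.1.1)
  addl a b z := by
    rw [← AddChar.map_add_eq_mul]
    simp only [Prod.fst_add, Prod.snd_add, Submodule.coe_add, sf_add_left]; ring_nf
  addr a z w := by
    rw [← AddChar.map_add_eq_mul]
    simp only [Prod.fst_add, Prod.snd_add, Submodule.coe_add, sf_add_right]; ring_nf
  zerol z := by simp [sf_zero_left]
  zeror a := by simp [sf_zero_right]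
  ndl p h := by
    have h2 : p.2 = 0 := psiZ_separates fun c => by simpa [sf_zero_right] using h (0, c)
    refine Prod.ext ((perpZ P).ndl p.1 fun z => ?_) h2
    have := h (z, 0)
    simpa [perpZ] using this

variable {X : Type*} [MulAction (Matrix.symplecticGroup (Fin m) F) X] (P : Pair m F)

/-- The radical in additive coordinates. -/
def iota (p : P.perp × F) : G := P.qe p.1.1 (p.2 + hq p.1.1)

theorem iota_add (p r : P.perp × F) : iota P (p + r) = iota P p * iota P r := by
  rw [iota, iota, iota, P.qe_mul p.1.2.1 r.1.2.1, Prod.fst_add, Prod.snd_add, Submodule.coe_add, hq_add,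
    sf_comm' r.1.1 p.1.1]
  congr 1
  ring

theorem iota_zero : iota P (0 : P.perp × F) = 1 := by
  rw [iota, Prod.fst_zero, Prod.snd_zero, Submodule.coe_zero, hq, zero_add]
  simp [P.qe_zero]

theorem iota_centre (t : F) : iota P (0, t) = tv P.e t := by
  rw [iota, Submodule.coe_zero, show hq (0 : V) = (0 : F) by simp [hq], add_zero, P.qe_tv]

theorem qe_eq_iota (a : P.perp) (t : F) : P.qe a.1 t = iota P (a, t + hq a.1) := by
  rw [iota, add_assoc, CharTwo.add_self_eq_zero, add_zero]

/-- The radical acting on the points. -/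
def radAct : AAct (P.perp × F) X where
  act p x := iota P p • x
  act_zero x := by rw [iota_zero, one_smul]
  act_add p r x := by rw [iota_add, mul_smul]

theorem mem_uSub_iff_stab {y : X} {a : P.perp} : a ∈ uSub P y ↔ ∃ t, (a, t) ∈ (radAct (X := X) P).stab y := by
  constructor
  · rintro ⟨t, ht⟩
    exact ⟨t + hq a.1, show iota P (a, t + hq a.1) • y = y by rw [← qe_eq_iota]; exact ht⟩
  · rintro ⟨t, ht⟩
    exact ⟨t + hq a.1, ht⟩

theorem orb_radAct (y : X) : (radAct (X := X) P).orb y = qorb P y := by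
  ext z
  constructor
  · rintro ⟨p, rfl⟩
    exact ⟨(p.1, p.2 + hq p.1.1), rfl⟩
  · rintro ⟨p, rfl⟩
    exact ⟨(p.1, p.2 + hq p.1.1), by show iota P _ • y = _; rw [← qe_eq_iota]⟩

/-- The characters seen with trivial central part. -/
theorem mem_dSub_of_ann {y : X} {d : P.perp} (h : (d, (0 : F)) ∈ (radPairing P).ann ((radAct (X := X) P).stab y)) :
    d ∈ dSub P y := fun a ha => by
  obtain ⟨t, ht⟩ := (mem_uSub_iff_stab P).1 ha
  have := h _ ht
  change psiZ F (t * 0 + sf a.1 d.1) = 1 at this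
  rw [mul_zero, zero_add] at this
  exact psiZ_eq_one.1 this

/-- A character of the centre seen at a point extends to the radical. -/
theorem exists_lift {y : X} {μ : F} (hμ : μ ∈ mSub P y) :
    ∃ z : P.perp, (z, μ) ∈ (radPairing P).ann ((radAct (X := X) P).stab y) := by
  set A := (radPairing P).annGp ((radAct (X := X) P).stab y)
  let M' : AddSubgroup F := A.map (AddMonoidHom.snd P.perp F)
  suffices μ ∈ M' by
    obtain ⟨⟨z, ν⟩, h, rfl⟩ := this
    exact ⟨z, h⟩
  refine (scalarPairing F).mem_of_ann M' fun t ht => ?_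
  have hmem : ((0 : P.perp), t) ∈ (radAct (X := X) P).stab y := (radPairing P).mem_of_ann _ fun z hz => by
    show psiZ F (t * z.2 + sf (0 : V) z.1.1) = 1
    rw [sf_zero_left, add_zero, psiZ_eq_one, mul_comm]
    exact ht z.2 ⟨z, hz, rfl⟩
  have htT : t ∈ T0 P y := by
    have h : iota P ((0 : P.perp), t) • y = y := hmem
    rwa [iota_centre] at h
  show psi F (μ * t) = 1
  rw [mul_comm]
  exact (mem_mSub P).1 hμ t htT

/-- The number of fixed points. -/
noncomputable def fixN (X : Type*) [MulAction (Matrix.symplecticGroup (Fin m) F) X]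
    (h : Matrix.symplecticGroup (Fin m) F) : ℕ := Nat.card {x : X // h • x = x}

theorem fixN_conj (g h : G) : fixN X (g * h * g⁻¹) = fixN X h :=
  Nat.card_congr
    { toFun := fun x => ⟨g⁻¹ • x.1, by
        conv_rhs => rw [← x.2]
        rw [mul_smul, mul_smul, inv_smul_smul]⟩
      invFun := fun x => ⟨g • x.1, by rw [mul_smul, mul_smul, inv_smul_smul, x.2]⟩
      left_inv := fun x => Subtype.ext (smul_inv_smul g x.1)
      right_inv := fun x => Subtype.ext (inv_smul_smul g x.1) }

theorem fixN_one : fixN X (1 : G) = Nat.card X :=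
  Nat.card_congr (Equiv.subtypeUnivEquiv fun x => one_smul G x)

theorem fixN_tv {t : F} (ht : t ≠ 0) : fixN X (tv P.e t) = fixN X (tv P.e (1 : F)) := by
  obtain ⟨c, hc⟩ := exists_sq_unit ht
  rw [← fixN_conj (P.torus c) (tv P.e (1 : F)), tv_conj, P.torus_e, tv_smul, hc, mul_one]

theorem fixN_qe {a a₁ : V} (ha : a ∈ P.perp) (ha0 : a ≠ 0) (ha₁ : a₁ ∈ P.perp) (ha₁0 : a₁ ≠ 0) (s : F) :
    fixN X (P.qe a s) = fixN X (P.qe a₁ (if s = 0 then 0 else 1)) := by
  split_ifs with hs
  · subst hs
    obtain ⟨g, he, -, hg⟩ := P.exists_levi ha₁ ha₁0 ha ha0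
    rw [← fixN_conj g (P.qe a₁ 0), P.qe_conj he, hg]
  · obtain ⟨c, hc⟩ := exists_sq_unit hs
    obtain ⟨g, he, -, hg⟩ := P.exists_levi ha₁ ha₁0 (P.perp.smul_mem ((c⁻¹ : Fˣ) : F) ha)
      (smul_ne_zero (Units.ne_zero _) ha0)
    rw [← fixN_conj (P.torus c * g) (P.qe a₁ 1), show P.torus c * g * P.qe a₁ 1 * (P.torus c * g)⁻¹ =
      P.torus c * (g * P.qe a₁ 1 * g⁻¹) * (P.torus c)⁻¹ by group, P.qe_conj he, hg,
      P.torus_qe_conj c (P.perp.smul_mem _ ha), smul_smul, c.mul_inv, one_smul, mul_one, hc]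

/-- The Gauss sum of a character. -/
noncomputable def gauss (μ : F) (z : P.perp) : ℤ := ∑ a : P.perp, psiZ F (μ * hq a.1 + sf a.1 z.1)

theorem gauss_sq (hm : 1 ≤ m) {μ : F} (hμ : μ ≠ 0) (z : P.perp) :
    gauss P μ z * gauss P μ z = (q : ℤ) ^ (2 * (m - 1)) := by
  simp only [gauss]
  rw [Finset.sum_mul_sum]
  have h1 : ∀ a b : P.perp, psiZ F (μ * hq a.1 + sf a.1 z.1) * psiZ F (μ * hq (a + b).1 + sf (a + b).1 z.1) =
      psiZ F (μ * hq b.1 + sf b.1 z.1) * (perpZ P).e a (μ • b) := fun a b => by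
    show _ = _ * psiZ F (sf a.1 (μ • b : P.perp).1)
    rw [← AddChar.map_add_eq_mul, ← AddChar.map_add_eq_mul, Submodule.coe_add, hq_add, Submodule.coe_smul,
      sf_smul_right, sf_add_left]
    congr 1
    linear_combination (μ * hq a.1 + sf a.1 z.1) * (CharTwo.two_eq_zero : (2 : F) = 0)
  rw [Finset.sum_congr rfl fun a _ => (Fintype.sum_equiv (Equiv.addLeft a) (fun b => psiZ F (μ * hq a.1 + sf a.1 z.1) *
      psiZ F (μ * hq (a + b).1 + sf (a + b).1 z.1)) _ fun b => rfl).symm]
  simp only [h1]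
  rw [Finset.sum_comm, Finset.sum_eq_single (0 : P.perp) (fun b _ hb => ?_) (fun h => absurd (Finset.mem_univ _) h)]
  · rw [smul_zero, show hq ((0 : P.perp).1) = (0 : F) by simp [hq]]
    simp only [(perpZ P).zeror, mul_one, Submodule.coe_zero, sf_zero_left, mul_zero, add_zero, AddChar.map_zero_eq_one,
      Finset.sum_const, Finset.card_univ, nsmul_eq_mul]
    rw [← Nat.card_eq_fintype_card, P.card_perp_eq hm]
    push_cast
    ring
  · rw [← Finset.mul_sum]
    have h : ∑ a : P.perp, (perpZ P).e a (μ • b) = ∑ a : P.perp, (perpZ P).e (μ • b) a :=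
      Finset.sum_congr rfl fun a _ => by show psiZ F _ = psiZ F _; rw [sf_comm']
    rw [h, (perpZ P).sum_right (smul_ne_zero hμ hb), mul_zero]

theorem sum_gauss (hm : 1 ≤ m) (μ : F) : ∑ z : P.perp, gauss P μ z = (q : ℤ) ^ (2 * (m - 1)) := by
  simp only [gauss, AddChar.map_add_eq_mul]
  rw [Finset.sum_comm, Finset.sum_eq_single (0 : P.perp) (fun a _ ha => ?_) (fun h => absurd (Finset.mem_univ _) h)]
  · simp only [Submodule.coe_zero, sf_zero_left, AddChar.map_zero_eq_one, mul_one,
      show hq (0 : V) = (0 : F) by simp [hq], mul_zero, Finset.sum_const, Finset.card_univ, nsmul_eq_mul]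
    rw [← Nat.card_eq_fintype_card, P.card_perp_eq hm]
    push_cast
    rfl
  · rw [← Finset.mul_sum]
    exact mul_eq_zero_of_right _ ((perpZ P).sum_right ha)

theorem exists_hq_one (hm : 2 ≤ m) : ∃ w : P.perp, hq w.1 = 1 := by
  obtain ⟨a, ha⟩ : ∃ a : P.perp, hq a.1 ≠ 0 := by
    by_contra hcon
    simp only [not_exists, not_not] at hcon
    haveI : Nontrivial P.perp := Finite.one_lt_card_iff_nontrivial.1 (by
      rw [P.card_perp_eq (show 1 ≤ m by omega)]
      exact Nat.one_lt_pow (by omega) Fintype.one_lt_card)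
    obtain ⟨⟨a, ha⟩, hne⟩ := exists_ne (0 : P.perp)
    obtain ⟨b, hb, hba⟩ := P.perp_nd ha fun h => hne (Subtype.ext h)
    have h := hq_add b a
    rw [show hq (b + a) = 0 from hcon ⟨_, P.perp.add_mem hb ha⟩, show hq b = 0 from hcon ⟨_, hb⟩,
      show hq a = 0 from hcon ⟨_, ha⟩, hba, zero_add, zero_add] at h
    exact zero_ne_one h
  obtain ⟨c, hc⟩ := exists_sq (hq a.1)⁻¹
  exact ⟨c • a, by rw [Submodule.coe_smul, hq_smul, pow_two, hc, inv_mul_cancel₀ ha]⟩

variable {P} in
/-- The vectors orthogonal to a vector. -/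
def hyp (w : P.perp) : AddSubgroup P.perp where
  carrier := {z | sf w.1 z.1 = 0}
  zero_mem' := sf_zero_right _
  add_mem' {a b} ha hb := by
    show sf w.1 (a + b : P.perp).1 = 0
    rw [Submodule.coe_add, sf_add_right, show sf w.1 a.1 = 0 from ha, show sf w.1 b.1 = 0 from hb, add_zero]
  neg_mem' {a} ha := by
    show sf w.1 (-a : P.perp).1 = 0
    rw [Submodule.coe_neg, sf_neg_right, show sf w.1 a.1 = 0 from ha, neg_zero]

variable {P} in
theorem ann_hyp {w : P.perp} (hw : w ≠ 0) : (perpZ P).ann (hyp w) = Set.range fun r : F => r • w := by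
  refine Set.ext fun a => ⟨fun h => ?_, ?_⟩
  · obtain ⟨b, hb, hbw⟩ := P.perp_nd w.2 fun h => hw (Subtype.ext h)
    refine ⟨sf b a.1, (sub_eq_zero.1 ((perpZ P).ndl _ fun u => ?_)).symm⟩
    show psiZ F (sf (a - sf b a.1 • w : P.perp).1 u.1) = 1
    set u' : P.perp := u - sf u.1 w.1 • ⟨b, hb⟩ with hu'
    have hu'w : sf w.1 u'.1 = 0 := by
      rw [hu', Submodule.coe_sub, Submodule.coe_smul, sf_sub_right, sf_smul_right, sf_comm' w.1 b, hbw, mul_one,
        sf_comm' w.1 u.1, sub_self]
    have h1 := h u' hu'w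
    change psiZ F (sf u'.1 a.1) = 1 at h1
    convert h1 using 2
    rw [hu', Submodule.coe_sub, Submodule.coe_smul, Submodule.coe_sub, Submodule.coe_smul, sf_sub_left, sf_sub_left,
      sf_smul_left, sf_smul_left, sf_comm' w.1 u.1, sf_comm' a.1 u.1]
    ring
  · rintro ⟨r, rfl⟩ z hz
    show psiZ F (sf z.1 (r • w : P.perp).1) = 1
    rw [Submodule.coe_smul, sf_smul_right, sf_comm' z.1 w.1, show sf w.1 z.1 = 0 from hz, mul_zero,
      AddChar.map_zero_eq_one]

variable {P} in
theorem card_hyp (hm : 1 ≤ m) {w : P.perp} (hw : w ≠ 0) : Nat.card (hyp w) * q = q ^ (2 * (m - 1)) := by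
  rw [← P.card_perp_eq hm, ← (perpZ P).card_ann (hyp w), ann_hyp hw]
  congr 1
  rw [← Nat.card_coe_set_eq, Nat.card_range_of_injective (smul_left_injective F hw), Nat.card_eq_fintype_card]

variable {P} in
theorem sum_gauss_hyp {w : P.perp} (hw : hq w.1 = 1) {μ : F} (hμ : μ ≠ 0) :
    ∑ z ∈ Finset.univ.filter (· ∈ hyp w), gauss P μ z = 0 := by
  have hw0 : w ≠ 0 := fun h => zero_ne_one (by rw [← hw, h]; simp [hq] : (0 : F) = 1)
  simp only [gauss, AddChar.map_add_eq_mul]
  rw [Finset.sum_comm]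
  have h : ∀ a : P.perp, ∑ z ∈ Finset.univ.filter (· ∈ hyp w), psiZ F (μ * hq a.1) * psiZ F (sf a.1 z.1) =
      if a ∈ (perpZ P).ann (hyp w) then psiZ F (μ * hq a.1) * (Nat.card (hyp w) : ℤ) else 0 := fun a => by
    rw [← Finset.mul_sum, Finset.sum_subtype (p := (· ∈ hyp w)) (Finset.univ.filter (· ∈ hyp w)) (by simp)]
    have h2 := (perpZ P).sum_sub (hyp w) a
    rw [show ∑ z : hyp w, psiZ F (sf a.1 z.1.1) = ∑ z : hyp w, (perpZ P).e z.1 a from
      Finset.sum_congr rfl fun z _ => by show _ = psiZ F _; rw [sf_comm'], h2, mul_ite, mul_zero]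
  rw [Finset.sum_congr rfl fun a _ => h a, ← Finset.sum_filter, ← Finset.sum_mul,
    Finset.sum_congr (s₂ := Finset.univ.image fun r : F => r • w) (Finset.ext fun a => by
      rw [Finset.mem_filter, ann_hyp hw0]; simp) fun _ _ => rfl,
    Finset.sum_image fun a _ b _ h => smul_left_injective F hw0 h]
  refine mul_eq_zero_of_left ?_ _
  simp only [Submodule.coe_smul, hq_smul, hw, mul_one]
  refine Eq.trans ?_ (sum_psiZ_mul hμ)
  exact Fintype.sum_bijective (fun r : F => r ^ 2) ((Finite.injective_iff_bijective).1 fun a b h => sq_inj h) _ _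
    fun r => rfl

variable [Finite X]

/-- Fixed points of a class with a non-zero vector. -/
noncomputable def delta (a₁ : Fin m ⊕ Fin m → F) : ℤ :=
  (fixN X (P.qe a₁ 0) : ℤ) - fixN X (P.qe a₁ 1)

/-- The multiplicity of a character with a central part. -/
theorem mult_formula [Fintype X] {a₁ : V} (ha₁ : a₁ ∈ P.perp) (ha₁0 : a₁ ≠ 0) {μ : F} (hμ : μ ≠ 0) (z : P.perp) :
    ((radAct (X := X) P).mult (radPairing P) (z, μ) : ℤ) =
      (Nat.card X : ℤ) - fixN X (tv P.e (1 : F)) + delta (X := X) P a₁ * (gauss P μ z - 1) := by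
  rw [AAct.mult_eq_sum, Fintype.sum_prod_type]
  have hfix : ∀ p : P.perp × F, (radAct (X := X) P).fix p = fixN X (iota P p) := fun p => rfl
  simp only [hfix]
  rw [← Finset.add_sum_erase Finset.univ _ (Finset.mem_univ (0 : P.perp))]
  have hz : ∑ t : F, (fixN X (iota P ((0 : P.perp), t)) : ℤ) * (radPairing P).e (0, t) (z, μ) =
      (Nat.card X : ℤ) - fixN X (tv P.e (1 : F)) := by
    have e : ∀ t : F, (fixN X (iota P ((0 : P.perp), t)) : ℤ) * (radPairing P).e (0, t) (z, μ) =
        (fixN X (tv P.e (1 : F)) : ℤ) * psiZ F (μ * t) +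
          if t = 0 then (Nat.card X : ℤ) - fixN X (tv P.e (1 : F)) else 0 := fun t => by
      show _ * psiZ F (t * μ + sf (0 : V) z.1) = _
      rw [iota_centre, sf_zero_left, add_zero, mul_comm t μ]
      split_ifs with ht
      · rw [ht, tv_zero, fixN_one, mul_zero, AddChar.map_zero_eq_one]; ring
      · rw [fixN_tv P ht, add_zero]
    rw [Finset.sum_congr rfl fun t _ => e t, Finset.sum_add_distrib, ← Finset.mul_sum, sum_psiZ_mul hμ,
      Finset.sum_ite_eq' Finset.univ (0 : F), if_pos (Finset.mem_univ _), mul_zero, zero_add]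
  have ha : ∀ a ∈ (Finset.univ : Finset P.perp).erase 0,
      ∑ t : F, (fixN X (iota P (a, t)) : ℤ) * (radPairing P).e (a, t) (z, μ) =
      delta (X := X) P a₁ * psiZ F (μ * hq a.1 + sf a.1 z.1) := fun a ha => by
    have ha0 : a.1 ≠ 0 := fun h => Finset.ne_of_mem_erase ha (Subtype.ext h)
    have e : ∀ t : F, (fixN X (iota P (a, t)) : ℤ) * (radPairing P).e (a, t) (z, μ) =
        (fixN X (P.qe a₁ 1) : ℤ) * psiZ F (sf a.1 z.1) * psiZ F (μ * t) +
          if t = hq a.1 then delta (X := X) P a₁ * psiZ F (μ * hq a.1 + sf a.1 z.1) else 0 := fun t => by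
      show _ * psiZ F (t * μ + sf a.1 z.1) = _
      rw [iota, fixN_qe P a.2 ha0 ha₁ ha₁0]
      rcases eq_or_ne t (hq a.1) with rfl | h
      · rw [if_pos (CharTwo.add_self_eq_zero _), if_pos rfl, delta, AddChar.map_add_eq_mul, AddChar.map_add_eq_mul,
          mul_comm (hq a.1) μ]
        ring
      · rw [if_neg fun h' => h (CharTwo.add_eq_zero.1 h'), if_neg h, AddChar.map_add_eq_mul, mul_comm t μ]
        ring
    rw [Finset.sum_congr rfl fun t _ => e t, Finset.sum_add_distrib, ← Finset.mul_sum, sum_psiZ_mul hμ,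
      Finset.sum_ite_eq' Finset.univ (hq a.1), if_pos (Finset.mem_univ _), mul_zero, zero_add]
  rw [hz, Finset.sum_congr rfl ha, ← Finset.mul_sum, Finset.sum_erase_eq_sub (Finset.mem_univ _)]
  simp only [Submodule.coe_zero, sf_zero_left, show hq (0 : V) = (0 : F) by simp [hq], mul_zero, add_zero,
    AddChar.map_zero_eq_one, gauss]

/-- Multiplicities count orbits. -/
theorem card_dvd_mult [Fintype X] (z : P.perp × F) :
    Nat.card (P.perp × F) ∣ (radAct (X := X) P).mult (radPairing P) z := by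
  set α := radAct (X := X) P
  unfold AAct.mult
  rw [← Finset.sum_fiberwise_of_maps_to (t := (Finset.univ : Finset X).image α.orb) fun x hx =>
    Finset.mem_image_of_mem _ hx]
  refine Finset.dvd_sum fun O hO => ?_
  obtain ⟨x, -, rfl⟩ := Finset.mem_image.1 hO
  have hO' : (Finset.univ.filter fun y => α.orb y = α.orb x) = (α.orb x).toFinset := Finset.ext fun y => by
    simp only [Finset.mem_filter, Finset.mem_univ, true_and, Set.mem_toFinset]
    exact ⟨fun h => h ▸ α.mem_orb_self y, α.orb_eq_of_mem⟩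
  rw [hO', Finset.sum_congr rfl fun y hy => by rw [α.stab_of_mem_orb (Set.mem_toFinset.1 hy)], Finset.sum_const,
    smul_eq_mul, ← Set.ncard_eq_toFinset_card']
  split_ifs
  · rw [α.ncard_orb]
  · rw [mul_zero]; exact dvd_zero _

end CfsgLib.PGroup.SpIndex
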