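import Cfsg.Agent.Lib.PGroup.SpIndex.EvenBase

/-!
The centre orbits of a small action in characteristic two: some moved point sees a vector.
-/

set_option autoImplicit false
set_option linter.unusedSectionVars false

namespace CfsgLib.PGroup.SpIndex

open Matrix CfsgLib.Sp CfsgLib.Classical.OddOrthEven

attribute [local instance] _root_.Classical.propDecidable

variable {m : ℕ} {F : Type*} [Field F] [Fintype F]

local notation "V" => (Fin m ⊕ Fin m → F)
local notation "G" => Matrix.symplecticGroup (Fin m) F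
local notation "q" => Fintype.card F

variable {X : Type*} [MulAction (Matrix.symplecticGroup (Fin m) F) X] (P : Pair m F)

/-- The centre of the radical acting on the points. -/
def centreAct : AAct F X where
  act t x := tv P.e t • x
  act_zero x := by rw [tv_zero, one_smul]
  act_add t s x := by rw [← tv_mul, mul_smul]

theorem stab_centreAct (x : X) : (centreAct P).stab x = T0 P x := rfl

/-- The orbits of the centre. -/
abbrev COrb (X : Type*) [MulAction (Matrix.symplecticGroup (Fin m) F) X] (P : Pair m F) : Type _ :=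
  Set.range ((centreAct (X := X) P).orb)

/-- The orbit of a point. -/
def corb (x : X) : COrb X P := ⟨(centreAct P).orb x, x, rfl⟩

theorem corb_eq_of_mem {x y : X} (h : y ∈ (centreAct P).orb x) : corb P y = corb P x :=
  Subtype.ext ((centreAct P).orb_eq_of_mem h)

theorem image_orb {h : G} (hc : ∀ t : F, Commute h (tv P.e t)) (x : X) :
    (fun y => h • y) '' (centreAct P).orb x = (centreAct P).orb (h • x) := by
  ext z
  constructor
  · rintro ⟨_, ⟨t, rfl⟩, rfl⟩
    exact ⟨t, by show tv P.e t • h • x = h • tv P.e t • x; rw [← mul_smul, ← (hc t).eq, mul_smul]⟩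
  · rintro ⟨t, rfl⟩
    exact ⟨_, ⟨t, rfl⟩, by show h • tv P.e t • x = tv P.e t • h • x; rw [← mul_smul, (hc t).eq, mul_smul]⟩

/-- A commuting element on the orbits of the centre. -/
def cmap {h : G} (hc : ∀ t : F, Commute h (tv P.e t)) (B : COrb X P) : COrb X P :=
  ⟨(fun y => h • y) '' B.1, by
    obtain ⟨x, hx⟩ := B.2
    exact ⟨h • x, by rw [← hx, image_orb P hc]⟩⟩

theorem cmap_corb {h : G} (hc : ∀ t : F, Commute h (tv P.e t)) (x : X) :
    cmap P hc (corb P x) = corb P (h • x) := Subtype.ext (image_orb P hc x)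

theorem mem_orb_of_corb_eq {x y : X} (h : corb P y = corb P x) : y ∈ (centreAct P).orb x := by
  have h' := congrArg Subtype.val h
  change (centreAct P).orb y = (centreAct P).orb x at h'
  rw [← h']
  exact (centreAct P).mem_orb_self y

theorem corb_surjective : Function.Surjective (corb (X := X) P) := fun B => by
  obtain ⟨x, hx⟩ := B.2
  exact ⟨x, Subtype.ext hx⟩

/-- Fixed centre orbits count the fixed points of a whole coset of the centre. -/
theorem card_fixed_corb [Finite X] {h : G} (hc : ∀ t : F, Commute h (tv P.e t)) :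
    q * Nat.card {B : COrb X P // cmap P hc B = B} = ∑ s : F, fixN X (tv P.e s * h) := by
  classical
  haveI : Fintype X := Fintype.ofFinite X
  haveI : Fintype (COrb X P) := Fintype.ofFinite _
  set ζ := centreAct (X := X) P
  have hx : ∀ x : X, (∑ s : F, if (tv P.e s * h) • x = x then 1 else 0) =
      if cmap P hc (corb P x) = corb P x then Nat.card (ζ.stab x) else 0 := fun x => by
    rw [← Finset.card_filter, ← Fintype.card_subtype, ← Nat.card_eq_fintype_card, cmap_corb P hc]
    split_ifs with hB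
    · have hm' : h • x ∈ ζ.orb x := mem_orb_of_corb_eq P hB
      obtain ⟨t, ht⟩ := hm'
      change tv P.e t • x = h • x at ht
      refine Nat.card_congr ((Equiv.addRight t).subtypeEquiv fun s => ?_)
      show (tv P.e s * h) • x = x ↔ tv P.e (s + t) • x = x
      rw [mul_smul, ← ht, ← mul_smul, tv_mul]
    · rw [Nat.card_eq_zero]
      refine Or.inl ⟨fun s => hB (corb_eq_of_mem P ⟨-s.1, ?_⟩)⟩
      show tv P.e (-s.1) • x = h • x
      have h' := congrArg (fun y => tv P.e (-s.1) • y) s.2
      rw [mul_smul, ← mul_smul (tv P.e (-s.1)), tv_mul, neg_add_cancel, tv_zero, one_smul] at h'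
      exact h'.symm
  have hR : ∑ s : F, fixN X (tv P.e s * h) =
      ∑ x : X, if cmap P hc (corb P x) = corb P x then Nat.card (ζ.stab x) else 0 := by
    simp only [← hx]
    rw [Finset.sum_comm]
    refine Finset.sum_congr rfl fun s _ => ?_
    rw [← Finset.card_filter, ← Fintype.card_subtype, ← Nat.card_eq_fintype_card]
    rfl
  rw [hR, ← Finset.sum_fiberwise (s := (Finset.univ : Finset X)) (g := corb P), Nat.card_eq_fintype_card,
    Fintype.card_subtype, Finset.card_filter, Finset.mul_sum]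
  refine Finset.sum_congr rfl fun B _ => ?_
  obtain ⟨x, rfl⟩ := corb_surjective P B
  have hfib : (Finset.univ.filter fun y => corb P y = corb P x) = (ζ.orb x).toFinset := Finset.ext fun y => by
    simp only [Finset.mem_filter, Finset.mem_univ, true_and, Set.mem_toFinset]
    exact ⟨mem_orb_of_corb_eq P, corb_eq_of_mem P⟩
  rw [hfib, Finset.sum_congr rfl fun y hy => by
    rw [corb_eq_of_mem P (Set.mem_toFinset.1 hy), ζ.stab_of_mem_orb (Set.mem_toFinset.1 hy)], Finset.sum_const,
    ← Set.ncard_eq_toFinset_card', smul_eq_mul]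
  split_ifs
  · rw [mul_one, ζ.ncard_orb, Nat.card_eq_fintype_card]
  · rw [mul_zero, mul_zero]

variable [CharP F 2]

theorem iota_comm (p : P.perp × F) (t : F) : Commute (iota P p) (tv P.e t) :=
  (qe_commute_tv P p.1.2.1 _ _).symm

/-- The radical on the orbits of the centre. -/
def corbAct : AAct P.perp (COrb X P) where
  act a := cmap P (iota_comm P (a, 0))
  act_zero B := by
    obtain ⟨x, rfl⟩ := corb_surjective P B
    rw [cmap_corb, show ((0 : P.perp), (0 : F)) = 0 from rfl, iota_zero, one_smul]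
  act_add a b B := by
    obtain ⟨x, rfl⟩ := corb_surjective P B
    rw [cmap_corb, cmap_corb, cmap_corb, show (a + b, (0 : F)) = (a, (0 : F)) + (b, 0) by
      rw [Prod.mk_add_mk, add_zero], iota_add, mul_smul]

/-- The transvection at a vector of value one, on the orthogonal of the pair. -/
def shear (w : P.perp) : P.perp ≃+ P.perp where
  toFun a := a + sf a.1 w.1 • w
  invFun a := a + sf a.1 w.1 • w
  left_inv a := Subtype.ext (by
    simp only [Submodule.coe_add, Submodule.coe_smul, sf_add_left, sf_smul_left, sf_self, mul_zero, add_zero]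
    rw [add_assoc, vec_add_self, add_zero])
  right_inv a := Subtype.ext (by
    simp only [Submodule.coe_add, Submodule.coe_smul, sf_add_left, sf_smul_left, sf_self, mul_zero, add_zero]
    rw [add_assoc, vec_add_self, add_zero])
  map_add' a b := by rw [Submodule.coe_add, sf_add_left, add_smul]; abel

theorem hq_shear {w : P.perp} (hw : hq w.1 = 1) (a : P.perp) : hq (shear P w a).1 = hq a.1 := by
  show hq (a.1 + sf a.1 w.1 • w.1) = hq a.1
  rw [hq_add, hq_smul, hw, sf_smul_right, mul_one]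
  linear_combination (sf a.1 w.1 * sf a.1 w.1) * (CharTwo.two_eq_zero : (2 : F) = 0)

theorem shear_levi (w : P.perp) : IsLevi P (tv w.1 (1 : F)) :=
  ⟨by rw [tv_mulVec, sf_symm_zero w.2.1, mul_zero, zero_smul, add_zero],
    by rw [tv_mulVec, sf_symm_zero w.2.2, mul_zero, zero_smul, add_zero]⟩

theorem shear_mul {w : P.perp} (hw : hq w.1 = 1) (a : P.perp) (t : F) :
    tv w.1 (1 : F) * iota P (a, t) = iota P (shear P w a, t) * tv w.1 (1 : F) := by
  rw [← mul_inv_eq_iff_eq_mul, iota, iota, P.qe_conj (shear_levi P w).e_eq, hq_shear P hw]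
  congr 1
  rw [tv_mulVec, one_mul]
  rfl

theorem li_two {x y : V} (hx : sf x P.f ≠ 0) (hy : sf y P.f = 0) (hy0 : y ≠ 0) :
    LinearIndependent F ![x, y] := by
  refine LinearIndependent.pair_iff.2 fun a b h => ?_
  have h1 := congrArg (fun v => sf v P.f) h
  simp only [sf_add_left, sf_smul_left, hy, mul_zero, add_zero, sf_zero_left] at h1
  have ha := (mul_eq_zero.1 h1).resolve_right hx
  rw [ha, zero_smul, zero_add] at h
  exact ⟨ha, (smul_eq_zero.1 h).resolve_right hy0⟩

theorem fixN_two {a₁ : V} (ha₁ : a₁ ∈ P.perp) (ha₁0 : a₁ ≠ 0) {w : P.perp} (hw0 : w ≠ 0) {s : F} (hs : s ≠ 0) :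
    fixN X (tv P.e s * tv w.1 (1 : F)) = fixN X (P.qe a₁ 1) := by
  obtain ⟨c, hc⟩ := exists_sq_unit hs
  have e : sf ((c : F) • P.e) P.f ≠ 0 := by rw [sf_smul_left, P.hef, mul_one]; exact c.ne_zero
  obtain ⟨g, hg⟩ := CfsgLib.Classical.SympCount.exists_move_tuple
    (li_two P e w.2.2 fun h => hw0 (Subtype.ext h))
    (li_two P (x := P.e + a₁) (by rw [sf_add_left, P.hef, ha₁.2, add_zero]; exact one_ne_zero) ha₁.2 ha₁0) (by
    intro i j
    fin_cases i <;> fin_cases j <;>
      simp [sf_self, sf_add_left, sf_add_right, sf_smul_left, sf_smul_right, w.2.1, sf_symm_zero w.2.1, ha₁.1,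
        sf_symm_zero ha₁.1])
  have h0 : g.1 *ᵥ ((c : F) • P.e) = P.e + a₁ := hg 0
  have h1 : g.1 *ᵥ w.1 = a₁ := hg 1
  rw [← fixN_conj g, show g * (tv P.e s * tv w.1 (1 : F)) * g⁻¹ = (g * tv P.e s * g⁻¹) * (g * tv w.1 (1 : F) * g⁻¹) by
    group, show tv P.e s = tv ((c : F) • P.e) 1 by rw [tv_smul, hc, mul_one], tv_conj, tv_conj, h0, h1,
    show tv a₁ (1 : F) = tv a₁ (-1) by rw [neg_self], tv_add_eq ha₁.1]
  rfl

theorem sum_ite_zero {F : Type*} [Fintype F] [Zero F] (a b : ℤ) :
    (∑ t : F, if t = 0 then a else b) = a + ((Fintype.card F : ℤ) - 1) * b := by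
  have e : ∀ t : F, (if t = 0 then a else b) = (if t = 0 then a - b else 0) + b := fun t => by
    split_ifs <;> ring
  rw [Finset.sum_congr rfl fun t _ => e t, Finset.sum_add_distrib, Finset.sum_ite_eq' Finset.univ (0 : F),
    if_pos (Finset.mem_univ _), Finset.sum_const, Finset.card_univ, nsmul_eq_mul]
  ring

/-- Both signs of the Gauss sums occur. -/
theorem gauss_signs (hm : 2 ≤ m) {μ : F} (hμ : μ ≠ 0) :
    (∀ z : P.perp, gauss P μ z = (q : ℤ) ^ (m - 1) ∨ gauss P μ z = -((q : ℤ) ^ (m - 1))) ∧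
      (∃ z : P.perp, gauss P μ z = (q : ℤ) ^ (m - 1)) ∧ ∃ z : P.perp, gauss P μ z = -((q : ℤ) ^ (m - 1)) := by
  have hpm : ∀ z : P.perp, gauss P μ z = (q : ℤ) ^ (m - 1) ∨ gauss P μ z = -((q : ℤ) ^ (m - 1)) := fun z =>
    mul_self_eq_mul_self_iff.1 (by rw [gauss_sq P (show 1 ≤ m by omega) hμ, ← pow_add, two_mul])
  have hsum := sum_gauss P (show 1 ≤ m by omega) μ
  have h1 : (1 : ℤ) < (q : ℤ) ^ (m - 1) :=
    one_lt_pow₀ (by exact_mod_cast Fintype.one_lt_card) (by omega)
  have hN : (Fintype.card P.perp : ℤ) = (q : ℤ) ^ (2 * (m - 1)) := by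
    rw [← Nat.card_eq_fintype_card, P.card_perp_eq (show 1 ≤ m by omega)]
    push_cast
    rfl
  have hNpos : (0 : ℤ) < (q : ℤ) ^ (2 * (m - 1)) := pow_pos (by exact_mod_cast Fintype.card_pos) _
  refine ⟨hpm, ?_, ?_⟩ <;> by_contra hcon
  · rw [Finset.sum_congr rfl fun z _ => (hpm z).resolve_left fun h => hcon ⟨z, h⟩, Finset.sum_const,
      Finset.card_univ, nsmul_eq_mul, hN] at hsum
    nlinarith
  · rw [Finset.sum_congr rfl fun z _ => (hpm z).resolve_right fun h => hcon ⟨z, h⟩, Finset.sum_const,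
      Finset.card_univ, nsmul_eq_mul, hN] at hsum
    nlinarith

variable [Finite X]

/-- Some moved point sees a vector. -/
theorem exists_dSub_ne (hm : 2 ≤ m) (hq2 : 2 < q) {y : X} (hy : Moves P.e y) : ∃ x : X, Moves P.e x ∧ dSub P x ≠ ⊥ := by
  by_contra hcon
  simp only [not_exists, not_and, not_not] at hcon
  haveI : Fintype X := Fintype.ofFinite X
  haveI : Fintype (COrb X P) := Fintype.ofFinite _
  have hm1 : 1 ≤ m := by omega
  obtain ⟨w, hw⟩ := exists_hq_one P hm
  have hw0 : w ≠ 0 := fun h => zero_ne_one (by rw [← hw, h]; simp [hq] : (0 : F) = 1)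
  have hw0' : w.1 ≠ 0 := fun h => hw0 (Subtype.ext h)
  set g := tv w.1 (1 : F) with hgdef
  have hgc : ∀ t : F, Commute g (tv P.e t) := fun t => tv_commute w.2.1 _ _
  set κ := cmap (X := X) P hgc
  set β := corbAct (X := X) P with hβ
  set π := perpZ P
  set α := radAct (X := X) P with hα
  set ρ := radPairing P
  have hcomm : ∀ a B, κ (β.act a B) = β.act (shear P w a) (κ B) := fun a B => by
    obtain ⟨x, rfl⟩ := corb_surjective P B
    show cmap P hgc (cmap P (iota_comm P (a, 0)) (corb P x)) =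
      cmap P (iota_comm P (shear P w a, 0)) (cmap P hgc (corb P x))
    rw [cmap_corb, cmap_corb, cmap_corb, cmap_corb, ← mul_smul, shear_mul P hw, mul_smul]
  -- the upper bound
  set K := hyp w
  let st : COrb X P → Prop := fun B => κ B ∈ β.orb B
  have hfix := β.fix_le κ (shear P w) hcomm π
  have hinv : ∀ B : COrb X P, {z | z ∈ π.ann (β.stab B) ∧ ∀ a, π.e (shear P w a) z = π.e a z}.ncard ≤
      (Finset.univ.filter fun z => z ∈ K ∧ z ∈ π.ann (β.stab B)).card := fun B => by
    rw [← Set.ncard_coe_finset]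
    refine Set.ncard_le_ncard (fun z hz => ?_) (Set.toFinite _)
    simp only [Finset.coe_filter, Finset.mem_univ, true_and, Set.mem_ofPred_eq]
    refine ⟨psiZ_separates fun c => ?_, hz.1⟩
    obtain ⟨b, hb, hbw⟩ := P.perp_nd w.2 hw0'
    have h := hz.2 (c • ⟨b, hb⟩)
    change psiZ F (sf ((c • b) + sf (c • b) w.1 • w.1) z.1) = psiZ F (sf (c • b) z.1) at h
    rw [sf_add_left, AddChar.map_add_eq_mul, sf_smul_left (sf (c • b) w.1) w.1 z.1, sf_smul_left c b w.1, hbw,
      mul_one] at h
    have h0 : psiZ F (sf (c • b) z.1) ≠ 0 := fun h0 => by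
      have h' : psiZ F (sf (c • b) z.1) * psiZ F (sf (c • b) z.1) = 1 := by
        rw [← AddChar.map_add_eq_mul, CharTwo.add_self_eq_zero, AddChar.map_zero_eq_one]
      rw [h0, mul_zero] at h'
      exact zero_ne_one h'
    show psiZ F (sf w.1 z.1 * c) = 1
    rw [mul_comm]
    exact mul_left_cancel₀ h0 (h.trans (mul_one _).symm)
  let U' : ℕ := ∑ B : COrb X P, if st B then 0 else Nat.card (β.stab B)
  have hup : Nat.card P.perp * Nat.card {B : COrb X P // κ B = B} + U' ≤
      ∑ z ∈ Finset.univ.filter (· ∈ K), β.mult π z := by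
    refine le_trans (Nat.add_le_add_right hfix _) ?_
    simp only [AAct.mult, U']
    rw [← Finset.sum_add_distrib, Finset.sum_comm (s := Finset.univ.filter (· ∈ K))]
    refine Finset.sum_le_sum fun B _ => ?_
    rw [Finset.sum_ite, Finset.sum_const_zero, add_zero, Finset.sum_const, smul_eq_mul, Finset.filter_filter,
      mul_comm _ (Nat.card (β.stab B))]
    by_cases h : κ B ∈ β.orb B
    · rw [if_pos h, if_pos h, add_zero]
      exact Nat.mul_le_mul_left _ (hinv B)
    · rw [if_neg h, if_neg h, zero_add]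
      exact le_mul_of_one_le_right (Nat.zero_le _) (Finset.card_pos.2 ⟨0, Finset.mem_filter.2
        ⟨Finset.mem_univ _, K.zero_mem, π.zero_mem_ann _⟩⟩)
  haveI : Nontrivial P.perp := ⟨⟨w, 0, hw0⟩⟩
  set fa : ℤ := (fixN X (P.qe w.1 (0 : F)) : ℤ) with hfa
  set fc : ℤ := (fixN X (P.qe w.1 (1 : F)) : ℤ) with hfc
  set f1 : ℤ := (fixN X (tv P.e (1 : F)) : ℤ) with hf1
  have hW : ∀ a : P.perp, (q : ℤ) * β.fix a =
      if a = 0 then (Nat.card X : ℤ) + ((q : ℤ) - 1) * f1 else fa + ((q : ℤ) - 1) * fc := fun a => by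
    have h := card_fixed_corb (X := X) P (iota_comm P (a, 0))
    have h' : q * β.fix a = ∑ s : F, fixN X (tv P.e s * iota P (a, 0)) := h
    have h'' : (q : ℤ) * β.fix a = ∑ s : F, (fixN X (iota P (a, s)) : ℤ) := by
      rw [← Nat.cast_mul, h', Nat.cast_sum]
      refine Finset.sum_congr rfl fun s _ => ?_
      rw [← iota_centre, ← iota_add, Prod.mk_add_mk, zero_add, add_zero]
    rw [h'']
    split_ifs with ha
    · subst ha
      refine Eq.trans (Finset.sum_congr rfl fun s _ => ?_) (sum_ite_zero (F := F) _ _)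
      rw [iota_centre]
      split_ifs with hs
      · rw [hs, tv_zero, fixN_one]
      · rw [fixN_tv P hs]
    · refine Eq.trans ?_ (sum_ite_zero (F := F) fa fc)
      refine Fintype.sum_equiv (Equiv.addRight (hq a.1)) _ _ fun s => ?_
      rw [Equiv.coe_addRight, iota, fixN_qe P a.2 (fun h => ha (Subtype.ext h)) w.2 hw0']
      split_ifs <;> rfl
  have hG : (q : ℤ) * Nat.card {B : COrb X P // κ B = B} = f1 + ((q : ℤ) - 1) * fc := by
    rw [← Nat.cast_mul, card_fixed_corb P hgc, Nat.cast_sum]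
    refine Eq.trans (Finset.sum_congr rfl fun s _ => ?_) (sum_ite_zero (F := F) f1 fc)
    split_ifs with hs
    · rw [hs, tv_zero, one_mul, hf1]
      obtain ⟨k, hk⟩ := exists_move P.e_ne hw0'
      rw [hgdef, ← hk, ← tv_conj, fixN_conj]
    · rw [hgdef, fixN_two P w.2 hw0' hw0 hs]
  have hK := card_hyp (show 1 ≤ m by omega) hw0
  have hmultK : (q : ℤ) * ∑ z ∈ Finset.univ.filter (· ∈ K), (β.mult π z : ℤ) = (Nat.card K : ℤ) *
      ((Nat.card X : ℤ) + ((q : ℤ) - 1) * f1 + ((q : ℤ) - 1) * (fa + ((q : ℤ) - 1) * fc)) := by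
    simp only [AAct.mult_eq_sum]
    rw [Finset.sum_comm, Finset.mul_sum]
    have h : ∀ a : P.perp, (q : ℤ) * ∑ z ∈ Finset.univ.filter (· ∈ K), (β.fix a : ℤ) * π.e a z =
        if a ∈ π.ann K then ((q : ℤ) * β.fix a) * (Nat.card K : ℤ) else 0 := fun a => by
      rw [← Finset.mul_sum, Finset.sum_subtype (p := (· ∈ K)) (Finset.univ.filter (· ∈ K)) (by simp),
        show ∑ z : K, π.e a z.1 = ∑ z : K, π.e z.1 a from Finset.sum_congr rfl fun z _ => by
          show psiZ F _ = psiZ F _; rw [sf_comm'], π.sum_sub, mul_ite, mul_zero, mul_ite, mul_zero, ← mul_assoc]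
    rw [Finset.sum_congr rfl fun a _ => h a, ← Finset.sum_filter,
      Finset.sum_congr (s₂ := Finset.univ.image fun r : F => r • w) (Finset.ext fun a => by
        rw [Finset.mem_filter, ann_hyp hw0]; simp) fun _ _ => rfl,
      Finset.sum_image fun a _ b _ h => smul_left_injective F hw0 h, ← Finset.sum_mul, mul_comm]
    congr 1
    refine Eq.trans (Finset.sum_congr rfl fun r _ => (hW _).trans (if_congr ?_ rfl rfl)) (sum_ite_zero (F := F) _ _)
    exact smul_eq_zero.trans (or_iff_left hw0)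
  -- the lower bound
  have hstabx : ∀ x : X, Moves P.e x → ((centreAct P).orb x).ncard * Nat.card (α.stab x) = Nat.card (P.perp × F) :=
    fun x hx => by
      have h1 := α.ncard_orb x
      rw [orb_radAct, ncard_qorb P hm1, hcon x hx, AddSubgroup.card_bot, mul_one] at h1
      have h2 := (centreAct (X := X) P).ncard_orb x
      rw [stab_centreAct, Nat.card_eq_fintype_card (α := F), ← card_mSub P x, mul_comm (Nat.card (T0 P x))] at h2
      rw [Nat.eq_of_mul_eq_mul_right Nat.card_pos h2]
      exact h1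
  have hU : ∀ x : X, Moves P.e x → Nat.card (β.stab (corb P x)) = Nat.card P.perp := fun x hx => by
    have hu : uSub P x = ⊤ := by
      have h1 := card_dSub P hm1 x
      rw [hcon x hx, AddSubgroup.card_bot, mul_one,
        ← P.card_perp_eq hm1] at h1
      exact AddSubgroup.eq_top_of_card_eq _ h1
    refine Nat.card_congr (Equiv.subtypeUnivEquiv fun a => ?_)
    show cmap P (iota_comm P (a, 0)) (corb P x) = corb P x
    rw [cmap_corb]
    obtain ⟨t, ht⟩ := (mem_uSub_iff_stab P).1 (show a ∈ uSub P x from hu ▸ AddSubgroup.mem_top a)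
    refine corb_eq_of_mem P ⟨t, ?_⟩
    show tv P.e t • x = iota P (a, 0) • x
    have e : iota P (a, 0) • x = iota P ((0 : P.perp), t) • iota P (a, t) • x := by
      rw [← mul_smul, ← iota_add, Prod.mk_add_mk, zero_add, CharTwo.add_self_eq_zero]
    rw [e, show iota P (a, t) • x = x from ht, iota_centre]
  have hmoved : ∀ (x : X) (z : P.perp), (z, (1 : F)) ∈ ρ.ann (α.stab x) → Moves P.e x := by
    intro x z hz
    by_contra hm'
    refine one_ne_zero (psiZ_separates (F := F) fun c => ?_)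
    have h := hz ((0 : P.perp), c) (show iota P ((0 : P.perp), c) • x = x by
      rw [iota_centre]; exact not_moves_iff.1 hm' c)
    change psiZ F (c * 1 + sf (0 : V) z.1) = 1 at h
    rw [sf_zero_left, add_zero, mul_one] at h
    rwa [one_mul]
  have huns : ∀ (x : X) (z : P.perp), z ∉ K → (z, (1 : F)) ∈ ρ.ann (α.stab x) → ¬ st (corb P x) := by
    intro x z hzK hz hst
    refine hzK (psiZ_separates (F := F) fun c => ?_)
    obtain ⟨b, hb, hbw⟩ := P.perp_nd w.2 hw0'
    set a : P.perp := c • ⟨b, hb⟩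
    have hu := hU x (hmoved x z hz)
    obtain ⟨a', ha'⟩ := hst
    change cmap P (iota_comm P (a', (0 : F))) (corb P x) = cmap P hgc (corb P x) at ha'
    rw [cmap_corb, cmap_corb] at ha'
    have hgx : g • x ∈ (centreAct P).orb (iota P (a', (0 : F)) • x) := mem_orb_of_corb_eq P ha'.symm
    obtain ⟨t', ht'⟩ := hgx
    change tv P.e t' • iota P (a', (0 : F)) • x = g • x at ht'
    have hsame : α.stab (g • x) = α.stab x := by
      rw [← ht', ← iota_centre, ← mul_smul, ← iota_add]
      exact α.stab_act _ x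
    obtain ⟨t, ht⟩ : ∃ t, (a, t) ∈ α.stab x := by
      refine (mem_uSub_iff_stab P).1 ?_
      have h1 := card_dSub P hm1 x
      rw [hcon x (hmoved x z hz), AddSubgroup.card_bot,
        mul_one, ← P.card_perp_eq hm1] at h1
      rw [AddSubgroup.eq_top_of_card_eq _ h1]
      exact AddSubgroup.mem_top a
    have ht2 : (shear P w a, t) ∈ α.stab x := by
      rw [← hsame]
      show iota P (shear P w a, t) • g • x = g • x
      rw [← mul_smul, ← shear_mul P hw, mul_smul, show iota P (a, t) • x = x from ht]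
    have h := hz _ ((α.stab x).add_mem ht ht2)
    change psiZ F ((t + t) * 1 + sf (a.1 + (a.1 + sf a.1 w.1 • w.1)) z.1) = 1 at h
    rw [CharTwo.add_self_eq_zero, zero_mul, zero_add, ← add_assoc, vec_add_self, zero_add, sf_smul_left,
      show sf a.1 w.1 = c by show sf (c • b) w.1 = c; rw [sf_smul_left, hbw, mul_one]] at h
    rwa [mul_comm]
  have hlow : ∑ z ∈ Finset.univ.filter (· ∉ K), α.mult ρ (z, (1 : F)) ≤ q * U' := by
    simp only [AAct.mult]
    rw [Finset.sum_comm]
    have hx : ∀ x : X, ∑ z ∈ Finset.univ.filter (· ∉ K),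
        (if (z, (1 : F)) ∈ ρ.ann (α.stab x) then Nat.card (α.stab x) else 0) ≤
        if Moves P.e x ∧ ¬ st (corb P x) then Nat.card (α.stab x) else 0 := fun x => by
      rw [Finset.sum_ite, Finset.sum_const_zero, add_zero, Finset.sum_const, smul_eq_mul]
      rcases (Finset.filter (fun z => (z, (1 : F)) ∈ ρ.ann (α.stab x)) (Finset.univ.filter (· ∉ K))).eq_empty_or_nonempty
        with h | ⟨z, hz⟩
      · rw [h, Finset.card_empty, zero_mul]; exact Nat.zero_le _
      · obtain ⟨hzK, hz'⟩ := Finset.mem_filter.1 hz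
        rw [if_pos ⟨hmoved x z hz', huns x z (Finset.mem_filter.1 hzK).2 hz'⟩]
        refine le_of_le_of_eq (Nat.mul_le_mul_right _ (Finset.card_le_one.2 fun u hu v hv => ?_)) (one_mul _)
        have h := ρ.add_mem_ann (Finset.mem_filter.1 hu).2 (ρ.neg_mem_ann (Finset.mem_filter.1 hv).2)
        rw [Prod.neg_mk, Prod.mk_add_mk, add_neg_cancel] at h
        have h' := mem_dSub_of_ann P h
        rw [hcon x (hmoved x z hz'), AddSubgroup.mem_bot] at h'
        exact add_neg_eq_zero.1 h'
    refine le_trans (Finset.sum_le_sum fun x _ => hx x) ?_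
    simp only [U', Finset.mul_sum]
    rw [← Finset.sum_fiberwise (s := (Finset.univ : Finset X)) (g := corb P)]
    refine Finset.sum_le_sum fun B _ => ?_
    by_cases hst : st B
    · rw [if_pos hst, mul_zero]
      refine le_of_eq (Finset.sum_eq_zero fun x hx' => if_neg fun h => h.2 ?_)
      rw [(Finset.mem_filter.1 hx').2]; exact hst
    rw [if_neg hst]
    obtain ⟨x, rfl⟩ := corb_surjective P B
    by_cases hxm : Moves P.e x
    · have hfib : (Finset.univ.filter fun y => corb P y = corb P x) = ((centreAct P).orb x).toFinset :=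
        Finset.ext fun y => by
          simp only [Finset.mem_filter, Finset.mem_univ, true_and, Set.mem_toFinset]
          exact ⟨mem_orb_of_corb_eq P, corb_eq_of_mem P⟩
      rw [hfib]
      refine le_of_le_of_eq (Finset.sum_le_card_nsmul _ _ (Nat.card (α.stab x)) fun y hy => ?_) ?_
      · obtain ⟨t, rfl⟩ := Set.mem_toFinset.1 hy
        have e : α.stab (tv P.e t • x) = α.stab x := by rw [← iota_centre]; exact α.stab_act _ x
        split_ifs
        · exact le_of_eq (congrArg (fun K : AddSubgroup (P.perp × F) => Nat.card K) e)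
        · exact Nat.zero_le _
      · rw [← Set.ncard_eq_toFinset_card', smul_eq_mul, hstabx x hxm, hU x hxm, Nat.card_prod,
          Nat.card_eq_fintype_card (α := F), mul_comm]
    · refine le_of_eq_of_le (Finset.sum_eq_zero fun y hy => if_neg fun h => hxm ?_) (Nat.zero_le _)
      have hy' : y ∈ (centreAct P).orb x := mem_orb_of_corb_eq P (Finset.mem_filter.1 hy).2
      rw [moves_iff_T0, ← stab_centreAct, ← (centreAct P).stab_of_mem_orb hy', stab_centreAct, ← moves_iff_T0]
      exact h.1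
  -- the comparison
  set Δ : ℤ := fa - fc with hΔ
  set Φ : ℤ := (Nat.card X : ℤ) - f1 - Δ with hΦ
  have hmult : ∀ z : P.perp, (α.mult ρ (z, (1 : F)) : ℤ) = Φ + Δ * gauss P 1 z := fun z => by
    rw [hα, mult_formula P w.2 hw0' one_ne_zero, hΦ, hΔ, hfa, hfc, hf1, delta]
    ring
  obtain ⟨hpm, ⟨zp, hzp⟩, ⟨zm, hzm⟩⟩ := gauss_signs P hm (one_ne_zero (α := F))
  have hNq : (Fintype.card P.perp : ℤ) = (Nat.card K : ℤ) * q := by
    rw [← Nat.card_eq_fintype_card, P.card_perp_eq hm1, ← hK]; push_cast; ring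
  have hsumall : ∑ z : P.perp, (α.mult ρ (z, (1 : F)) : ℤ) = (Nat.card K : ℤ) * q * (Φ + Δ) := by
    simp only [hmult]
    rw [Finset.sum_add_distrib, ← Finset.mul_sum, sum_gauss P hm1, Finset.sum_const, Finset.card_univ,
      nsmul_eq_mul, hNq]
    rw [show ((q : ℤ) ^ (2 * (m - 1))) = (Nat.card K : ℤ) * q by
      rw [← hNq, ← Nat.card_eq_fintype_card (α := P.perp), P.card_perp_eq hm1, Nat.cast_pow]]
    ring
  have hsumK : ∑ z ∈ Finset.univ.filter (· ∈ K), (α.mult ρ (z, (1 : F)) : ℤ) = (Nat.card K : ℤ) * Φ := by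
    simp only [hmult]
    rw [Finset.sum_add_distrib, ← Finset.mul_sum, sum_gauss_hyp hw one_ne_zero, mul_zero, add_zero,
      Finset.sum_const, nsmul_eq_mul, Nat.card_eq_fintype_card (α := K), Fintype.card_subtype]
  have hsplit := Finset.sum_filter_add_sum_filter_not (Finset.univ : Finset P.perp) (· ∈ K)
    (fun z => (α.mult ρ (z, (1 : F)) : ℤ))
  have hlow' : ∑ z ∈ Finset.univ.filter (· ∉ K), (α.mult ρ (z, (1 : F)) : ℤ) ≤ (q : ℤ) * U' := by exact_mod_cast hlow
  have hup' : (Fintype.card P.perp : ℤ) * Nat.card {B : COrb X P // κ B = B} + U' ≤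
      ∑ z ∈ Finset.univ.filter (· ∈ K), (β.mult π z : ℤ) := by
    rw [← Nat.card_eq_fintype_card]; exact_mod_cast hup
  have hqpos : (0 : ℤ) < q := by exact_mod_cast Fintype.card_pos
  have hKpos : (0 : ℤ) < Nat.card K := by exact_mod_cast Nat.card_pos
  have hΦle : (Nat.card K : ℤ) * (((q : ℤ) - 2) * Φ) ≤ 0 := by
    have h1 := mul_le_mul_of_nonneg_left hup' hqpos.le
    rw [mul_add, hmultK, hNq, ← mul_assoc, ← mul_assoc, mul_comm (q : ℤ) (Nat.card K : ℤ),
      mul_assoc (_ * (q : ℤ)) (q : ℤ), hG] at h1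
    rw [hsumall, hsumK] at hsplit
    have hXe : (Nat.card X : ℤ) = Φ + f1 + (fa - fc) := by rw [hΦ, hΔ]; ring
    rw [hXe] at h1
    rw [hΔ] at hsplit
    linear_combination h1 + hlow' - hsplit
  have hp := hmult zp
  have hmn := hmult zm
  rw [hzp] at hp
  rw [hzm] at hmn
  have hp0 : (0 : ℤ) ≤ Φ + Δ * (q : ℤ) ^ (m - 1) := hp ▸ Nat.cast_nonneg _
  have hm0 : (0 : ℤ) ≤ Φ + Δ * -((q : ℤ) ^ (m - 1)) := hmn ▸ Nat.cast_nonneg _
  have hq3 : (2 : ℤ) < q := by
    by_contra h
    have h2 : q ≤ 2 := by exact_mod_cast not_lt.1 h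
    exact absurd h2 (not_le.2 hq2)
  have hΦ0 : Φ ≤ 0 := by
    have := (mul_nonpos_iff_pos_imp_nonpos.1 hΦle).1 hKpos
    exact (mul_nonpos_iff_pos_imp_nonpos.1 this).1 (by linarith)
  obtain ⟨μ, hμ, hμ0⟩ := exists_mSub P hy
  obtain ⟨c, hc⟩ := exists_sq_unit hμ0
  have h1 := torus_mSub c hμ
  rw [← hc, show ((c⁻¹ : Fˣ) : F) * ((c⁻¹ : Fˣ) : F) * ((c : F) * c) = ((c : F) * ((c⁻¹ : Fˣ) : F)) *
    ((c : F) * ((c⁻¹ : Fˣ) : F)) by ring, c.mul_inv, one_mul] at h1
  obtain ⟨z, hz⟩ := exists_lift P h1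
  have hpos : (0 : ℤ) < α.mult ρ (z, (1 : F)) := by
    have h := α.card_le_mult ρ {P.torus c • y} (fun x hx => by rw [Finset.mem_singleton.1 hx]; exact hz)
      (by rw [Finset.coe_singleton]; exact Set.pairwiseDisjoint_singleton _ _)
    rw [Finset.card_singleton, one_mul] at h
    exact_mod_cast lt_of_lt_of_le Nat.card_pos h
  rw [hmult] at hpos
  rcases hpm z with h | h <;> rw [h] at hpos <;> linarith

end CfsgLib.PGroup.SpIndex
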