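import Cfsg.Agent.Lib.PGroup.SpIndex.Basic

/-!
The element scaling a hyperbolic pair, and scalars of prime power order.
-/

set_option autoImplicit false
set_option linter.unusedSectionVars false

namespace CfsgLib.PGroup.SpIndex

open Matrix CfsgLib.Sp

variable {m : ℕ} {F : Type*} [Field F]

local notation "V" => (Fin m ⊕ Fin m → F)

namespace Pair

variable (P : Pair m F)

/-- The linear map multiplying `e` by `c` and `f` by `c⁻¹` and fixing their orthogonal. -/
def torusLin (c : Fˣ) : (Fin m ⊕ Fin m → F) →ₗ[F] (Fin m ⊕ Fin m → F) where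
  toFun v := v + (((c : F) - 1) * sf v P.f) • P.e - ((((c⁻¹ : Fˣ) : F) - 1) * sf v P.e) • P.f
  map_add' u v := by simp only [sf_add_left]; module
  map_smul' a v := by simp only [sf_smul_left, RingHom.id_apply]; module

/-- The symplectic map multiplying `e` by `c` and `f` by `c⁻¹`. -/
def torus (c : Fˣ) : Matrix.symplecticGroup (Fin m) F :=
  ⟨LinearMap.toMatrix' (P.torusLin c), mem_sp_iff.2 fun u v => by
    rw [LinearMap.toMatrix'_mulVec, LinearMap.toMatrix'_mulVec]
    simp only [torusLin, LinearMap.coe_mk, AddHom.coe_mk, sf_add_left, sf_sub_left, sf_smul_left,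
      sf_add_right, sf_sub_right, sf_smul_right, sf_self, P.hef, P.hfe, sf_swap P.e v, sf_swap P.f v]
    linear_combination (sf u P.e * sf v P.f - sf u P.f * sf v P.e) * c.mul_inv⟩

theorem torus_mulVec (c : Fˣ) (v : V) : (P.torus c).1 *ᵥ v =
    v + (((c : F) - 1) * sf v P.f) • P.e - ((((c⁻¹ : Fˣ) : F) - 1) * sf v P.e) • P.f :=
  LinearMap.toMatrix'_mulVec _ _

theorem torus_fix (c : Fˣ) {a : V} (ha : a ∈ P.perp) : (P.torus c).1 *ᵥ a = a := by
  rw [torus_mulVec, ha.1, ha.2]; module

theorem torus_e (c : Fˣ) : (P.torus c).1 *ᵥ P.e = (c : F) • P.e := by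
  rw [torus_mulVec, P.hef, sf_self]; module

theorem torus_f (c : Fˣ) : (P.torus c).1 *ᵥ P.f = ((c⁻¹ : Fˣ) : F) • P.f := by
  rw [torus_mulVec, P.hfe, sf_self]; module

/-- The scalings form a group. -/
def torusHom : Fˣ →* Matrix.symplecticGroup (Fin m) F where
  toFun := P.torus
  map_one' := sp_ext_vec fun v => by simp [torus_mulVec, sp_one_mulVec]
  map_mul' c d := sp_ext_vec fun v => by
    simp only [sp_mul_mulVec, torus_mulVec, Units.val_mul, _root_.mul_inv_rev, sf_add_left, sf_sub_left, sf_smul_left,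
      sf_self, P.hef, P.hfe]
    module

/-- The scaling of a pair acts on the radical at its first vector. -/
theorem torus_qe_conj (c : Fˣ) {a : V} (ha : a ∈ P.perp) (t : F) :
    P.torus c * P.qe a t * (P.torus c)⁻¹ = P.qe ((c : F) • a) ((c : F) * (c : F) * t) := by
  rw [qe, qe, show P.torus c * (el P.e a * tv P.e t) * (P.torus c)⁻¹ =
    (P.torus c * el P.e a * (P.torus c)⁻¹) * (P.torus c * tv P.e t * (P.torus c)⁻¹) by group,
    el_conj, tv_conj, P.torus_e, P.torus_fix c ha, el_smul_left ha.1, tv_smul]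

end Pair

variable [Fintype F]

/-- A unit whose order is a power of a prime different from the characteristic, not of order one or two. -/
theorem exists_unit (hq : 4 ≤ Fintype.card F) :
    ∃ c : Fˣ, ∃ l j : ℕ, l.Prime ∧ orderOf c = l ^ j ∧ ¬ l ∣ Fintype.card F ∧ (c : F) * c ≠ 1 := by
  classical
  obtain ⟨g, hg⟩ := IsCyclic.exists_generator (α := Fˣ)
  have hn : orderOf g = Fintype.card F - 1 := by
    rw [orderOf_eq_card_of_forall_mem_zpowers hg, Nat.card_units, Nat.card_eq_fintype_card]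
  obtain ⟨l, j, hl, hd, h2⟩ : ∃ l j, Nat.Prime l ∧ l ^ j ∣ Fintype.card F - 1 ∧ 2 < l ^ j := by
    rcases Nat.eq_two_pow_or_exists_odd_prime_and_dvd (Fintype.card F - 1) with ⟨k, hk⟩ | ⟨l, hl, hd, ho⟩
    · refine ⟨2, k, Nat.prime_two, hk ▸ dvd_rfl, ?_⟩
      rw [← hk]; omega
    · refine ⟨l, 1, hl, by rwa [pow_one], ?_⟩
      rw [pow_one]
      have := hl.two_le
      obtain ⟨r, hr⟩ := ho
      omega
  have hord : orderOf (g ^ ((Fintype.card F - 1) / l ^ j)) = l ^ j := by
    rw [orderOf_pow' g (Nat.div_pos (Nat.le_of_dvd (by omega) hd) (by omega)).ne', hn,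
      Nat.gcd_eq_right (Nat.div_dvd_of_dvd hd), Nat.div_div_self hd (by omega)]
  refine ⟨_, l, j, hl, hord, fun h => ?_, fun h => ?_⟩
  · have hj : j ≠ 0 := by rintro rfl; simp at h2
    have h1 : l ∣ Fintype.card F - 1 := (dvd_pow_self l hj).trans hd
    have := Nat.dvd_sub h h1
    rw [show Fintype.card F - (Fintype.card F - 1) = 1 by omega] at this
    exact hl.ne_one (Nat.dvd_one.1 this)
  · have h3 : (g ^ ((Fintype.card F - 1) / l ^ j)) ^ 2 = 1 := Units.ext (by rw [pow_two]; simpa using h)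
    have := Nat.le_of_dvd (by norm_num) (orderOf_dvd_of_pow_eq_one h3)
    omega

/-- An element of prime power order has a fixed point on a set of coprime size. -/
theorem exists_fixed {G X : Type*} [Group G] [MulAction G X] [Finite X] {g : G} {l j : ℕ} (hl : l.Prime)
    (hg : g ^ l ^ j = 1) (hX : ¬ l ∣ Nat.card X) : ∃ x : X, g • x = x := by
  haveI : Fact l.Prime := ⟨hl⟩
  have hp : IsPGroup l (Subgroup.zpowers g) := fun h => ⟨j, Subtype.ext (by
    obtain ⟨z, hz⟩ := h.2
    rw [SubgroupClass.coe_pow, ← show g ^ z = h.1 from hz, ← zpow_natCast, ← _root_.zpow_mul, mul_comm, _root_.zpow_mul,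
      zpow_natCast, hg, _root_.one_zpow, Subgroup.coe_one])⟩
  obtain ⟨x, hx⟩ := hp.nonempty_fixed_point_of_prime_not_dvd_card X hX
  exact ⟨x, hx ⟨g, Subgroup.mem_zpowers g⟩⟩

end CfsgLib.PGroup.SpIndex
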