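import Cfsg.Agent.Lib.PGroup.SpIndex.Dual
import Cfsg.Agent.Lib.PGroup.SpIndex.Torus
import Mathlib.Analysis.Fourier.FiniteAbelian.PontryaginDuality

/-!
A small action in which the radicals act freely on the moved points is trivial.
-/

set_option autoImplicit false
set_option linter.unusedSectionVars false

namespace CfsgLib.PGroup.SpIndex

open Matrix CfsgLib.Sp

variable {m : ℕ} {F : Type*} [Field F] [Fintype F]

local notation "V" => (Fin m ⊕ Fin m → F)
local notation "G" => Matrix.symplecticGroup (Fin m) F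
local notation "q" => Fintype.card F

theorem exists_psi : ∃ ψ : AddChar F ℂ, ψ.IsPrimitive := by
  obtain ⟨ψ, hψ⟩ := (AddChar.exists_apply_ne_zero (a := (1 : F))).2 one_ne_zero
  exact ⟨ψ, AddChar.IsPrimitive.of_ne_one fun h => hψ (by rw [h, AddChar.one_apply])⟩

variable (F) in
/-- A primitive additive character. -/
noncomputable def psi : AddChar F ℂ := (exists_psi (F := F)).choose

theorem psi_separates {a : F} (h : ∀ c : F, psi F (a * c) = 1) : a = 0 := by
  by_contra ha
  refine (exists_psi (F := F)).choose_spec ha ?_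
  ext c
  rw [AddChar.mulShift_apply, AddChar.one_apply]
  exact h c

/-- The pairing of the orthogonal of a pair with itself by the form. -/
noncomputable def perpPairing (P : Pair m F) : Pairing P.perp ℂ where
  e a b := psi F (sf a.1 b.1)
  addl a b z := by rw [Submodule.coe_add, sf_add_left, AddChar.map_add_eq_mul]
  addr a z w := by rw [Submodule.coe_add, sf_add_right, AddChar.map_add_eq_mul]
  zerol z := by rw [Submodule.coe_zero, sf_zero_left, AddChar.map_zero_eq_one]
  zeror a := by rw [Submodule.coe_zero, sf_zero_right, AddChar.map_zero_eq_one]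
  ndl a h := by
    by_contra ha
    obtain ⟨b, hb, hba⟩ := P.perp_nd a.2 fun h0 => ha (Subtype.ext h0)
    refine one_ne_zero (psi_separates (F := F) fun c => ?_)
    rw [one_mul]
    have := h ((-c) • ⟨b, hb⟩)
    rwa [Submodule.coe_smul, sf_smul_right, sf_swap a.1 b, hba, neg_mul_neg, mul_one] at this

variable (m F) in
/-- Fewer points than the projective space has. -/
def Small (X : Type*) : Prop := Nat.card X * (Fintype.card F - 1) < Fintype.card F ^ (2 * m) - 1

variable {X : Type*} [MulAction (Matrix.symplecticGroup (Fin m) F) X]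

variable (m F X) in
/-- The radicals act freely on the points moved by their transvections. -/
def FreeMoved : Prop :=
  ∀ (P : Pair m F) (y : X), Moves P.e y → ∀ a ∈ P.perp, ∀ t : F, P.qe a t • y = y → a = 0 ∧ t = 0

section Rad

variable (P : Pair m F)

theorem moves_qe {a : V} (ha : sf a P.e = 0) (t : F) {y : X} (hy : Moves P.e y) :
    Moves P.e (P.qe a t • y) := by
  have h := moves_map hy (P.qe a t)
  simpa [P.qe_mulVec ha, sf_self, sf_symm_zero ha] using h

variable (X) in
/-- The points fixed by the transvections at the first vector. -/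
abbrev FixT : Type _ := {x : X // ¬ Moves P.e x}

theorem fixT_el {x : X} (hx : ¬ Moves P.e x) {a : V} (ha : sf a P.e = 0) : ¬ Moves P.e (el P.e a • x) :=
  not_moves_iff.2 fun t => by
    rw [← mul_smul, ← (el_comm_tv ha t).eq, mul_smul, not_moves_iff.1 hx]

variable (X) in
/-- The orthogonal of the pair acting on the points fixed by the transvections. -/
def fixAct : AAct P.perp (FixT X P) where
  act a x := ⟨el P.e a.1 • x.1, fixT_el P x.2 a.2.1⟩
  act_zero x := Subtype.ext (show el P.e (0 : V) • x.1 = x.1 by rw [el_zero, one_smul])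
  act_add a b x := Subtype.ext (show el P.e (a.1 + b.1) • x.1 = el P.e a.1 • el P.e b.1 • x.1 by
    rw [← mul_smul, el_mul a.2.1 b.2.1, mul_smul, not_moves_iff.1 x.2])

/-- A fixed point not fixed by the radical needs many fixed points. -/
theorem card_fixT [Finite X] {x : X} (hx : ¬ Moves P.e x) {a : V} (ha : a ∈ P.perp) (hax : el P.e a • x ≠ x) :
    Nat.card P.perp ≤ Nat.card (FixT X P) := by
  classical
  haveI : Fintype (FixT X P) := Fintype.ofFinite _
  haveI : Fintype P.perp := Fintype.ofFinite _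
  set α := fixAct X P
  set π := perpPairing P
  obtain ⟨z, hz, hza⟩ := π.exists_ann_ne (α.stab ⟨x, hx⟩) (b := ⟨a, ha⟩) fun h => hax (congrArg Subtype.val h)
  have hz0 : z.1 ≠ 0 := fun h => hza (by rw [show z = 0 from Subtype.ext h, π.zeror])
  have hall : ∀ w : P.perp, Nat.card P.perp ≤ α.mult π w := by
    intro w
    obtain ⟨y, hy⟩ : ∃ y, w ∈ π.ann (α.stab y) := by
      rcases eq_or_ne w.1 0 with h | h
      · exact ⟨⟨x, hx⟩, by rw [show w = 0 from Subtype.ext h]; exact π.zero_mem_ann _⟩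
      obtain ⟨g, hge, hgf, hgz⟩ := P.exists_levi z.2 hz0 w.2 h
      have hgx : ¬ Moves P.e (g • x) := fun h' => hx ((moves_map_iff g).1 (by rw [hge]; exact h'))
      refine ⟨⟨g • x, hgx⟩, fun b hb => ?_⟩
      have hge' : (g⁻¹).1 *ᵥ P.e = P.e := by conv_lhs => rw [← hge, sp_inv_mulVec]
      have hgf' : (g⁻¹).1 *ᵥ P.f = P.f := by conv_lhs => rw [← hgf, sp_inv_mulVec]
      have hb' : el P.e b.1 • g • x = g • x := congrArg Subtype.val hb
      have h1 : (⟨(g⁻¹).1 *ᵥ b.1, P.map_mem_perp hge' hgf' b.2⟩ : P.perp) ∈ α.stab ⟨x, hx⟩ := Subtype.ext (by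
        show el P.e ((g⁻¹).1 *ᵥ b.1) • x = x
        rw [show el P.e ((g⁻¹).1 *ᵥ b.1) = g⁻¹ * el P.e b.1 * g by
          conv_rhs => rw [show g⁻¹ * el P.e b.1 * g = g⁻¹ * el P.e b.1 * g⁻¹⁻¹ by rw [inv_inv], el_conj, hge'],
          mul_smul, mul_smul, hb', inv_smul_smul])
      have h2 := hz _ h1
      show psi F (sf b.1 w.1) = 1
      rw [← hgz]
      conv_lhs => rw [← sp_mulVec_inv g b.1, sf_sp]
      exact h2
    have h := α.card_le_mult π {y} (fun x' hx' => by rw [Finset.mem_singleton.1 hx']; exact hy)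
      (by rw [Finset.coe_singleton]; exact Set.pairwiseDisjoint_singleton y _)
    rwa [Finset.card_singleton, one_mul] at h
  have h := Finset.sum_le_sum (s := Finset.univ) fun w _ => hall w
  rw [α.sum_mult, Finset.sum_const, Finset.card_univ, ← Nat.card_eq_fintype_card, smul_eq_mul] at h
  exact Nat.le_of_mul_le_mul_left h Nat.card_pos

end Rad

variable [Finite X] (hm : 2 ≤ m) (hq : 3 ≤ Fintype.card F) (hsmall : Small m F X) (hfree : FreeMoved m F X)
include hm hq hsmall hfree

theorem pow_top : q ^ (2 * m) = q ^ (2 * (m - 1)) * q * q := by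
  rw [mul_assoc, ← pow_two, ← pow_add]; congr 1; omega

theorem free_inj (P : Pair m F) {y : X} (hy : Moves P.e y) {a b : V} (ha : a ∈ P.perp) (hb : b ∈ P.perp)
    {t s : F} (h : P.qe a t • y = P.qe b s • y) : a = b ∧ t = s := by
  have h' : ((P.qe b s)⁻¹ * P.qe a t) • y = y := by rw [mul_smul, h, inv_smul_smul]
  rw [P.qe_inv hb.1, P.qe_mul (P.perp.neg_mem hb).1 ha.1] at h'
  obtain ⟨h1, h2⟩ := hfree P y hy _ (P.perp.add_mem (P.perp.neg_mem hb) ha) _ h'
  obtain rfl : a = b := (neg_add_eq_zero.1 h1).symm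
  rw [sf_neg_right, sf_self, neg_zero, add_zero] at h2
  exact ⟨rfl, (neg_add_eq_zero.1 h2).symm⟩

/-- The points moved at a vector form one orbit. -/
theorem moved_orbit (P : Pair m F) {y z : X} (hy : Moves P.e y) (hz : Moves P.e z) :
    ∃ a ∈ P.perp, ∃ t, z = P.qe a t • y := by
  classical
  by_contra hcon
  simp only [not_exists, not_and] at hcon
  let toX : (P.perp × F) ⊕ (P.perp × F) → X := fun p => match p with
    | .inl a => P.qe a.1.1 a.2 • y
    | .inr a => P.qe a.1.1 a.2 • z
  have hcross : ∀ a b : P.perp × F, P.qe a.1.1 a.2 • y = P.qe b.1.1 b.2 • z → False := fun a b h => by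
    have h' : z = ((P.qe b.1.1 b.2)⁻¹ * P.qe a.1.1 a.2) • y := by rw [mul_smul, h, inv_smul_smul]
    rw [P.qe_inv b.1.2.1, P.qe_mul (P.perp.neg_mem b.1.2).1 a.1.2.1] at h'
    exact hcon _ (P.perp.add_mem (P.perp.neg_mem b.1.2) a.1.2) _ h'
  have hinj : Function.Injective toX := by
    rintro (a | a) (b | b) h <;> simp only [toX] at h
    · obtain ⟨h1, h2⟩ := free_inj hm hq hsmall hfree P hy a.1.2 b.1.2 h
      exact congrArg Sum.inl (Prod.ext (Subtype.ext h1) h2)
    · exact (hcross a b h).elim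
    · exact (hcross b a h.symm).elim
    · obtain ⟨h1, h2⟩ := free_inj hm hq hsmall hfree P hz a.1.2 b.1.2 h
      exact congrArg Sum.inr (Prod.ext (Subtype.ext h1) h2)
  have h := Nat.card_le_card_of_injective toX hinj
  rw [Nat.card_sum, Nat.card_prod, P.card_perp_eq (by omega), Nat.card_eq_fintype_card (α := F)] at h
  have hs : Nat.card X * (q - 1) < q ^ (2 * m) - 1 := hsmall
  rw [pow_top hm hq hsmall hfree] at hs
  have h1 := Nat.mul_le_mul_right (q - 1) h
  have h2 : q * (q ^ (2 * (m - 1)) * q) ≤ 2 * (q - 1) * (q ^ (2 * (m - 1)) * q) :=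
    Nat.mul_le_mul_right _ (by omega)
  rw [← two_mul, mul_right_comm] at h1
  rw [mul_comm q (_ * q)] at h2
  omega

theorem moved_card (P : Pair m F) {y : X} (hy : Moves P.e y) :
    Nat.card {x : X // Moves P.e x} = q ^ (2 * (m - 1)) * q := by
  rw [← P.card_perp_eq (show 1 ≤ m by omega), ← Nat.card_eq_fintype_card (α := F), ← Nat.card_prod]
  refine (Nat.card_congr (Equiv.ofBijective (fun p : P.perp × F =>
    (⟨P.qe p.1.1 p.2 • y, moves_qe P p.1.2.1 p.2 hy⟩ : {x : X // Moves P.e x})) ⟨fun a b h => ?_, fun x => ?_⟩)).symm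
  · obtain ⟨h1, h2⟩ := free_inj hm hq hsmall hfree P hy a.1.2 b.1.2 (congrArg Subtype.val h)
    exact Prod.ext (Subtype.ext h1) h2
  · obtain ⟨a, ha, t, h⟩ := moved_orbit hm hq hsmall hfree P hy x.2
    exact ⟨(⟨a, ha⟩, t), Subtype.ext h.symm⟩

variable (hq3 : ¬ (m = 2 ∧ Fintype.card F = 3)) [MulAction.IsPretransitive (Matrix.symplecticGroup (Fin m) F) X]
include hq3

/-- Some point is fixed by the transvections at some vector. -/
theorem exists_not_moves (x₀ : X) : ∃ (x : X) (z : V), z ≠ 0 ∧ ¬ Moves z x := by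
  classical
  by_contra hcon
  simp only [not_exists, not_and, not_not] at hcon
  obtain ⟨v, hv⟩ : ∃ v : V, v ≠ 0 := by
    refine ⟨Pi.single (Sum.inl ⟨0, by omega⟩) 1, fun h => ?_⟩
    simpa using congrFun h (Sum.inl ⟨0, by omega⟩)
  obtain ⟨P, -⟩ := exists_pair hv
  have hbig : q ^ 2 ≤ Nat.card P.perp := by
    rw [P.card_perp_eq (show 1 ≤ m by omega)]
    exact Nat.pow_le_pow_right (by omega) (by omega)
  haveI : Nontrivial P.perp := Finite.one_lt_card_iff_nontrivial.1
    (lt_of_lt_of_le (Nat.one_lt_pow (by norm_num) (by omega)) hbig)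
  obtain ⟨⟨f₂, hf₂⟩, hne⟩ := exists_ne (0 : P.perp)
  obtain ⟨e₂, he₂, hef⟩ := P.perp_nd hf₂ fun h => hne (Subtype.ext h)
  let P₂ : Pair m F := ⟨e₂, f₂, hef⟩
  have he : P.e ∈ P₂.perp := ⟨sf_symm_zero he₂.1, sf_symm_zero hf₂.1⟩
  have hf : P.f ∈ P₂.perp := ⟨sf_symm_zero he₂.2, sf_symm_zero hf₂.2⟩
  have hX : Nat.card X = q ^ (2 * (m - 1)) * q := by
    rw [← moved_card hm hq hsmall hfree P (hcon x₀ _ P.e_ne)]
    exact (Nat.card_congr (Equiv.subtypeUnivEquiv fun x => hcon x _ P.e_ne)).symm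
  have hnd : ∀ l : ℕ, l.Prime → ¬ l ∣ q → ¬ l ∣ Nat.card X := fun l hl hlq h => by
    rw [hX, ← pow_succ] at h
    exact hlq (hl.dvd_of_dvd_pow h)
  have key : ∀ (c : Fˣ) (y : X), P₂.torus c • y = y → ∀ a ∈ P.perp, a ∈ P₂.perp → ∀ t : F,
      ∃ b ∈ P₂.perp, ∃ s : F, P.qe a t • y = P₂.qe b s • y ∧ (c : F) • b = b ∧ (c : F) * c * s = s := by
    intro c y hy a ha ha' t
    obtain ⟨b, hb, s, hbs⟩ := moved_orbit hm hq hsmall hfree P₂ (hcon y _ P₂.e_ne) (hcon (P.qe a t • y) _ P₂.e_ne)
    have h1 : P₂.torus c • P.qe a t • y = P.qe a t • y := by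
      have h2 := P.qe_conj (g := P₂.torus c) (P₂.torus_fix c he) a t
      rw [P₂.torus_fix c ha'] at h2
      conv_rhs => rw [← h2]
      rw [mul_smul, mul_smul, inv_smul_eq_iff.2 hy.symm]
    rw [hbs, ← mul_smul, show P₂.torus c * P₂.qe b s = P₂.qe ((c : F) • b) ((c : F) * c * s) * P₂.torus c by
      rw [← P₂.torus_qe_conj c hb s, inv_mul_cancel_right], mul_smul, hy] at h1
    obtain ⟨h3, h4⟩ := free_inj hm hq hsmall hfree P₂ (hcon y _ P₂.e_ne) (P₂.perp.smul_mem _ hb) hb h1
    exact ⟨b, hb, s, hbs, h3, h4⟩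
  by_cases hq4 : 4 ≤ q
  · obtain ⟨c, l, j, hl, hc, hlq, hcc⟩ := exists_unit hq4
    obtain ⟨y, hy⟩ := exists_fixed (X := X) (g := P₂.torus c) hl
      (by rw [show P₂.torus c = P₂.torusHom c from rfl, ← map_pow, ← hc, pow_orderOf_eq_one, map_one])
      (hnd l hl hlq)
    obtain ⟨b, hb, s, hbs, h1, h2⟩ := key c y hy 0 P.perp.zero_mem P₂.perp.zero_mem 1
    have hb0 : b = 0 := by
      have h3 : ((c : F) - 1) • b = 0 := by rw [sub_smul, one_smul, h1, sub_self]
      exact (smul_eq_zero.1 h3).resolve_left (sub_ne_zero.2 fun h => hcc (by rw [h, one_mul]))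
    have hs0 : s = 0 := by
      have h3 : ((c : F) * c - 1) * s = 0 := by rw [sub_mul, one_mul, h2, sub_self]
      exact (mul_eq_zero.1 h3).resolve_left (sub_ne_zero.2 hcc)
    rw [hb0, hs0, P₂.qe_zero, one_smul] at hbs
    exact one_ne_zero (hfree P y (hcon y _ P.e_ne) 0 P.perp.zero_mem 1 hbs).2
  have hF3 : q = 3 := by omega
  have h20 : (2 : F) ≠ 0 := Ring.two_ne_zero fun h => by
    have h' := FiniteField.even_card_iff_char_two.1 h
    omega
  have hm3 : 3 ≤ m := by
    by_contra h
    exact hq3 ⟨by omega, hF3⟩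
  obtain ⟨y, hy⟩ := exists_fixed (X := X) (g := P₂.torus (-1)) (l := 2) (j := 1) Nat.prime_two
    (by rw [show P₂.torus (-1) = P₂.torusHom (-1) from rfl, ← map_pow, pow_one, neg_one_sq, map_one])
    (hnd 2 Nat.prime_two (by rw [hF3]; norm_num))
  have hval : ∀ a ∈ P.perp, a ∈ P₂.perp → ∃ s : F, el P.e a • y = tv P₂.e s • y := fun a ha ha' => by
    obtain ⟨b, hb, s, hbs, h1, -⟩ := key (-1) y hy a ha ha' 0
    have hb0 : b = 0 := (smul_eq_zero.1 (show (2 : F) • b = 0 by
      rw [two_smul]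
      nth_rewrite 1 [← h1]
      simp)).resolve_left h20
    rw [hb0, P.qe_el, P₂.qe_tv] at hbs
    exact ⟨s, hbs⟩
  -- two vectors of the common orthogonal with a non-zero value
  obtain ⟨u, hu, hu₂, hu0⟩ : ∃ u ∈ P.perp, u ∈ P₂.perp ∧ u ≠ 0 := by
    by_contra hcon'
    simp only [not_exists, not_and, not_not] at hcon'
    have hproj : ∀ a : P.perp, a.1 = sf a.1 P₂.f • P₂.e - sf a.1 P₂.e • P₂.f := fun a => by
      have hmem : P₂.proj a.1 ∈ P.perp := P.perp.add_mem (P.perp.sub_mem a.2 (P.perp.smul_mem _ he₂))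
        (P.perp.smul_mem _ hf₂)
      conv_lhs => rw [P₂.decomp a.1, hcon' _ hmem (P₂.proj_mem _), zero_add]
    have h := Nat.card_le_card_of_injective (fun a : P.perp => (sf a.1 P₂.f, sf a.1 P₂.e)) fun a b h => by
      simp only [Prod.mk.injEq] at h
      exact Subtype.ext (by rw [hproj a, hproj b, h.1, h.2])
    rw [Nat.card_prod, Nat.card_eq_fintype_card (α := F), P.card_perp_eq (show 1 ≤ m by omega), ← pow_two] at h
    have := (Nat.pow_le_pow_iff_right (show 1 < q by omega)).1 h
    omega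
  obtain ⟨w, hw, hwu⟩ := P.perp_nd hu hu0
  have hv₂ := P₂.proj_mem w
  have hv : P₂.proj w ∈ P.perp :=
    P.perp.add_mem (P.perp.sub_mem hw (P.perp.smul_mem _ he₂)) (P.perp.smul_mem _ hf₂)
  set v := P₂.proj w
  have hvu : sf v u = 1 := by rw [P₂.sf_proj hu₂, hwu]
  obtain ⟨cu, hcu⟩ := hval u hu hu₂
  obtain ⟨cv, hcv⟩ := hval v hv hv₂
  have hcomm : ∀ a ∈ P.perp, a ∈ P₂.perp → ∀ s : F, Commute (el P.e a) (tv P₂.e s) := fun a ha ha' s => by
    have h1 : el P.e a * tv P₂.e s * (el P.e a)⁻¹ = tv P₂.e s := by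
      rw [tv_conj, el_mulVec ha.1, show sf P₂.e P.e = 0 from he₂.1, show sf P₂.e a = 0 from sf_symm_zero ha'.1,
        zero_smul, zero_smul, add_zero, add_zero]
    show _ * _ = _ * _
    conv_rhs => rw [← h1, inv_mul_cancel_right]
  have h : P.qe u 0 • P.qe v 0 • y = P.qe v 0 • P.qe u 0 • y := by
    simp only [P.qe_el]
    rw [hcv, ← mul_smul, (hcomm u hu hu₂ cv).eq, mul_smul, hcu, ← mul_smul (el P.e v), (hcomm v hv hv₂ cu).eq,
      mul_smul, hcv, ← mul_smul, ← mul_smul, tv_mul, tv_mul, add_comm]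
  rw [← mul_smul, ← mul_smul, P.qe_mul hu.1 hv.1, P.qe_mul hv.1 hu.1, add_comm v u] at h
  have h3 := (free_inj hm hq hsmall hfree P (hcon y _ P.e_ne) (P.perp.add_mem hu hv) (P.perp.add_mem hu hv) h).2
  rw [sf_swap u v, hvu] at h3
  exact h20 (by linear_combination h3)

/-- A fixed point of the transvections at a vector is fixed by the radical there. -/
theorem fix_full (P : Pair m F) {x : X} (hx : ¬ Moves P.e x) {y : X} (hy : Moves P.e y) {a : V}
    (ha : a ∈ P.perp) : el P.e a • x = x := by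
  classical
  by_contra hax
  haveI : Fintype X := Fintype.ofFinite _
  have hF := card_fixT P hx ha hax
  rw [P.card_perp_eq (show 1 ≤ m by omega)] at hF
  have hmv := moved_card hm hq hsmall hfree P hy
  have htot : q ^ (2 * (m - 1)) * q + q ^ (2 * (m - 1)) ≤ Nat.card X := by
    rw [← hmv, ← Nat.card_congr (Equiv.sumCompl fun z : X => Moves P.e z), Nat.card_sum]
    exact Nat.add_le_add_left hF _
  -- the vectors fixing a point form a subspace
  have hline : ∀ {f g : V}, ¬ Moves f x → ¬ Moves g x → ¬ Moves (f + g) x := by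
    intro f g hf hg
    rcases eq_or_ne (sf g f) 0 with h | h
    · intro hm'
      obtain ⟨P', hP'⟩ := exists_pair (neg_ne_zero.2 hm'.ne_zero)
      have hmv' : Moves P'.e x := by
        rw [hP', ← neg_one_smul F (f + g)]
        exact moves_of_smul (c := -1) (by rw [smul_smul, neg_one_mul, neg_neg, one_smul]; exact hm')
      have hfe : sf f P'.e = 0 := by
        rw [hP', sf_neg_right, sf_add_right, sf_self, sf_symm_zero h, add_zero, neg_zero]
      have hef : P'.e + f = -g := by rw [hP']; abel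
      have hfix : P'.qe (P'.proj f) (2 * sf f P'.f + 1) • x = x := by
        have h2 : P'.qe (P'.proj f) (2 * sf f P'.f) * tv P'.e 1 = P'.qe (P'.proj f) (2 * sf f P'.f + 1) := by
          rw [Pair.qe, Pair.qe, mul_assoc, tv_mul]
        rw [← h2, ← P'.el_eq_qe hfe, ← tv_add_eq hfe, mul_smul, not_moves_iff.1 hf, hef]
        exact not_moves_iff.1 (by rw [← neg_one_smul F g]; exact not_moves_smul hg _) 1
      obtain ⟨h1, -⟩ := hfree P' x hmv' _ (P'.proj_mem f) _ hfix
      have hf' : f = sf f P'.f • P'.e := by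
        conv_lhs => rw [P'.decomp f, h1, hfe, zero_smul, zero_add, sub_zero]
      rcases eq_or_ne (sf f P'.f) 0 with h0 | h0
      · rw [h0, zero_smul] at hf'
        rw [hf', zero_add] at hm'
        exact hg hm'
      · refine not_moves_smul hf (sf f P'.f)⁻¹ ?_
        rw [hf', smul_smul]
        have e : (sf (sf f P'.f • P'.e) P'.f)⁻¹ * sf f P'.f = 1 := by rw [← hf', inv_mul_cancel₀ h0]
        rw [e, one_smul]
        exact hmv'
    · intro hm'
      obtain ⟨t, ht⟩ := hm'
      refine ht ?_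
      have e : f + g = (tv f (sf g f)⁻¹).1 *ᵥ g := by
        rw [tv_mulVec, inv_mul_cancel₀ h, one_smul, add_comm]
      rw [e, ← tv_conj, mul_smul, mul_smul]
      rw [show (tv f (sf g f)⁻¹)⁻¹ • x = x from inv_smul_eq_iff.2 (not_moves_iff.1 hf _).symm,
        not_moves_iff.1 hg, not_moves_iff.1 hf]
  let Z : Submodule F V :=
    { carrier := {v | ¬ Moves v x}
      zero_mem' := fun h => h.ne_zero rfl
      add_mem' := fun ha hb => hline ha hb
      smul_mem' := fun c v hv => not_moves_smul hv c }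
  -- count the pairs of a vector and a point moved there
  have hcount : Nat.card X * (q ^ (2 * m) - Nat.card Z) = (q ^ (2 * m) - 1) * (q ^ (2 * (m - 1)) * q) := by
    have hV : Nat.card V = q ^ (2 * m) := by
      rw [Nat.card_fun, Nat.card_sum, Nat.card_fin, Nat.card_eq_fintype_card, two_mul]
    have hrow : ∀ v : V, v ≠ 0 → Nat.card {z : X // Moves v z} = q ^ (2 * (m - 1)) * q := fun v hv => by
      obtain ⟨P', rfl⟩ := exists_pair hv
      obtain ⟨g, hg⟩ := exists_move P.e_ne hv
      exact moved_card hm hq hsmall hfree P' (y := g • y) (hg ▸ moves_map hy g)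
    have hcol : ∀ z : X, Nat.card {v : V // Moves v z} = q ^ (2 * m) - Nat.card Z := fun z => by
      obtain ⟨g, rfl⟩ := MulAction.exists_smul_eq (Matrix.symplecticGroup (Fin m) F) x z
      rw [Nat.card_congr (show {v : V // Moves v (g • x)} ≃ {v : V // Moves v x} from
        { toFun := fun v => ⟨(g⁻¹).1 *ᵥ v.1, (moves_map_iff g).1 (by rw [sp_mulVec_inv]; exact v.2)⟩
          invFun := fun v => ⟨g.1 *ᵥ v.1, moves_map v.2 g⟩
          left_inv := fun v => Subtype.ext (sp_mulVec_inv g v.1)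
          right_inv := fun v => Subtype.ext (sp_inv_mulVec g v.1) }), ← hV]
      have h := Nat.card_congr (Equiv.sumCompl fun v : V => Moves v x)
      rw [Nat.card_sum] at h
      have h2 : Nat.card Z = Nat.card {v : V // ¬ Moves v x} :=
        Nat.card_congr (Equiv.subtypeEquivRight fun v => Iff.rfl)
      omega
    have e1 : ∀ z : X, Nat.card {v : V // Moves v z} = ∑ v : V, if Moves v z then 1 else 0 := fun z => by
      rw [Nat.card_eq_fintype_card (α := {v : V // Moves v z}), Fintype.card_subtype, Finset.card_filter]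
    have e2 : ∀ v : V, Nat.card {z : X // Moves v z} = ∑ z : X, if Moves v z then 1 else 0 := fun v => by
      rw [Nat.card_eq_fintype_card (α := {z : X // Moves v z}), Fintype.card_subtype, Finset.card_filter]
    have h0 : Nat.card {z : X // Moves (0 : V) z} = 0 := Nat.card_eq_zero.2 (Or.inl ⟨fun z => z.2.ne_zero rfl⟩)
    calc Nat.card X * (q ^ (2 * m) - Nat.card Z) = ∑ z : X, Nat.card {v : V // Moves v z} := by
          rw [Finset.sum_congr rfl fun z _ => hcol z, Finset.sum_const, Finset.card_univ, smul_eq_mul,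
            Nat.card_eq_fintype_card (α := X)]
      _ = ∑ v : V, Nat.card {z : X // Moves v z} := by
          simp only [e1, e2]
          exact Finset.sum_comm
      _ = _ := by
          rw [← Finset.sum_erase_add Finset.univ _ (Finset.mem_univ (0 : V)),
            Finset.sum_congr rfl fun v hv => hrow v (Finset.ne_of_mem_erase hv), Finset.sum_const,
            Finset.card_erase_of_mem (Finset.mem_univ _), Finset.card_univ, smul_eq_mul, h0, add_zero,
            ← Nat.card_eq_fintype_card (α := V), hV]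
  have hZ : Nat.card Z = q ^ Module.finrank F Z := by
    rw [Module.natCard_eq_pow_finrank (K := F), Nat.card_eq_fintype_card]
  have hd : Module.finrank F Z ≤ 2 * m := by
    refine (Submodule.finrank_le Z).trans (le_of_eq ?_)
    rw [Module.finrank_fintype_fun_eq_card, Fintype.card_sum, Fintype.card_fin, two_mul]
  have hs : Nat.card X * (q - 1) < q ^ (2 * m) - 1 := hsmall
  have htop := pow_top hm hq hsmall hfree
  obtain ⟨l, hl⟩ : ∃ l, 2 * m = Module.finrank F Z + l := ⟨2 * m - Module.finrank F Z, by omega⟩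
  rw [hl, pow_add] at hcount hs htop
  rw [hZ] at hcount
  set D := q ^ Module.finrank F Z with hD
  have hD1 : 1 ≤ D := Nat.one_le_pow _ _ (by omega)
  have hM : 1 ≤ q ^ (2 * (m - 1)) := Nat.one_le_pow _ _ (by omega)
  generalize q ^ (2 * (m - 1)) = M at hcount hs htop htot hM
  rcases l with _ | _ | l
  · rw [pow_zero, mul_one, Nat.sub_self, mul_zero] at hcount
    rcases mul_eq_zero.1 hcount.symm with h | h
    · rw [pow_zero, mul_one] at hs
      omega
    · nlinarith
  · rw [pow_one] at hcount hs htop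
    rw [← Nat.mul_sub_one, mul_comm D, ← mul_assoc, mul_comm _ (M * q)] at hcount
    rw [show M * q = D from (Nat.eq_of_mul_eq_mul_right (show 0 < q by omega) htop).symm, mul_comm _ D] at hcount
    have := Nat.eq_of_mul_eq_mul_left (by omega : 0 < D) hcount
    omega
  · set L := q ^ (l + 2)
    have hL : q * q ≤ L := by
      rw [← pow_two]
      exact Nat.pow_le_pow_right (by omega) (by omega)
    rw [← Nat.mul_sub_one] at hcount
    have h1 : (M * q + M) * (D * (L - 1)) < D * L * (M * q) := by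
      refine lt_of_le_of_lt ((Nat.mul_le_mul_right _ htot).trans hcount.le) (Nat.mul_lt_mul_of_pos_right ?_ (by positivity))
      have : 0 < D * L := by positivity
      omega
    have h2 : (q + 1) * (L - 1) < L * q := by
      refine Nat.lt_of_mul_lt_mul_left (a := M * D) ?_
      calc M * D * ((q + 1) * (L - 1)) = (M * q + M) * (D * (L - 1)) := by ring
        _ < D * L * (M * q) := h1
        _ = _ := by ring
    rw [Nat.mul_sub_one, add_mul, one_mul, mul_comm L] at h2
    have : q * 3 ≤ q * q := Nat.mul_le_mul_left _ hq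
    omega

/-- A small action with free moved orbits is trivial. -/
theorem all_fix (z : V) (x : X) (t : F) : tv z t • x = x := by
  by_contra hne
  have hmv : Moves z x := ⟨t, hne⟩
  obtain ⟨x₀, e₀, he₀, hx₀⟩ := exists_not_moves hm hq hsmall hfree hq3 x
  -- the vectors orthogonal to a fixing vector are fixing
  have step : ∀ {e w : V}, e ≠ 0 → ¬ Moves e x₀ → sf w e = 0 → ¬ Moves w x₀ := by
    intro e w he hfix hwe hmw
    obtain ⟨P, rfl⟩ := exists_pair he
    obtain ⟨g, hg⟩ := exists_move hmv.ne_zero P.e_ne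
    have hyP : Moves P.e (g • x) := hg ▸ moves_map hmv g
    have hel : el P.e w • x₀ = x₀ := by
      rw [P.el_eq_qe hwe, Pair.qe, mul_smul, not_moves_iff.1 hfix,
        fix_full hm hq hsmall hfree hq3 P hfix hyP (P.proj_mem w)]
    obtain ⟨Pw, rfl⟩ := exists_pair hmw.ne_zero
    rw [el_symm hwe, Pw.el_eq_qe (sf_symm_zero hwe)] at hel
    obtain ⟨h1, -⟩ := hfree Pw x₀ hmw _ (Pw.proj_mem _) _ hel
    have he' : P.e = sf P.e Pw.f • Pw.e := by
      conv_lhs => rw [Pw.decomp P.e, h1, sf_symm_zero hwe, zero_smul, zero_add, sub_zero]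
    refine hfix ?_
    rw [he']
    have hc : sf P.e Pw.f ≠ 0 := fun h => he (by rw [he', h, zero_smul])
    exact moves_of_smul (c := (sf P.e Pw.f)⁻¹) (by rwa [smul_smul, inv_mul_cancel₀ hc, one_smul])
  obtain ⟨g, rfl⟩ := MulAction.exists_smul_eq (Matrix.symplecticGroup (Fin m) F) x₀ x
  have hmv' : Moves ((g⁻¹).1 *ᵥ z) x₀ := (moves_map_iff g).1 (by rwa [sp_mulVec_inv])
  obtain ⟨u, hu0, hu1, hu2⟩ := exists_orth_two hm e₀ ((g⁻¹).1 *ᵥ z)
  exact step hu0 (step he₀ hx₀ hu1) (sf_symm_zero hu2) hmv'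

end CfsgLib.PGroup.SpIndex
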