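import Cfsg.Agent.Lib.PGroup.SpIndex.Classes

/-!
In dimension four the moved points do not see lines.
-/

set_option autoImplicit false
set_option linter.unusedSectionVars false

namespace CfsgLib.PGroup.SpIndex

open Matrix CfsgLib.Sp

attribute [local instance] _root_.Classical.propDecidable

variable {m : ℕ} {F : Type*} [Field F] [Fintype F]

local notation "V" => (Fin m ⊕ Fin m → F)
local notation "G" => Matrix.symplecticGroup (Fin m) F
local notation "q" => Fintype.card F

variable {X : Type*} [MulAction (Matrix.symplecticGroup (Fin m) F) X]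

variable (m F X) in
/-- The moved points see lines, one orbit for each. -/
def LineType : Prop :=
  ∀ P : Pair m F, (∀ z : X, Moves P.e z → T0 P z = ⊥ ∧
      ∃ v : P.perp, v ≠ 0 ∧ ∀ w, w ∈ dSub P z ↔ ∃ c : F, w = c • v) ∧
    ∀ z z' : X, Moves P.e z → Moves P.e z' → dSub P z = dSub P z' → z' ∈ qorb P z

/-- The image of the stabiliser of a point seeing a line is its orthogonal. -/
theorem uSub_of_line {P : Pair m F} {z : X} {v : P.perp} (hv : ∀ w, w ∈ dSub P z ↔ ∃ c : F, w = c • v)
    (a : P.perp) : a ∈ uSub P z ↔ sf a.1 v.1 = 0 := by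
  constructor
  · intro ha
    refine psi_separates (F := F) fun c => ?_
    have := (mem_dSub P).1 ((hv (c • v)).2 ⟨c, rfl⟩) a ha
    rwa [Submodule.coe_smul, sf_smul_right, mul_comm] at this
  · intro h
    refine mem_uSub_of_dSub P fun w hw => ?_
    obtain ⟨c, rfl⟩ := (hv w).1 hw
    rw [Submodule.coe_smul, sf_smul_right, h, mul_zero, AddChar.map_zero_eq_one]

variable [Finite X] (hq : 4 ≤ Fintype.card F) (hL : LineType m F X) (hm2 : m = 2)
include hL hm2

/-- The moved points are counted by the lines. -/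
theorem line_count (P : Pair m F) (hne : ∃ z : X, Moves P.e z) :
    (∀ v : P.perp, v ≠ 0 → ∃ z : X, Moves P.e z ∧ v ∈ dSub P z) ∧
    (∀ s : Finset X, (∀ z ∈ s, Moves P.e z) → (s : Set X).PairwiseDisjoint (qorb P) → s.card ≤ q + 1) ∧
    Nat.card {z : X // Moves P.e z} = q * q * (q + 1) := by
  haveI : Fintype X := Fintype.ofFinite X
  obtain ⟨hl, hu⟩ := hL P
  have hcov : ∀ v : P.perp, v ≠ 0 → ∃ z : X, Moves P.e z ∧ v ∈ dSub P z := fun v hv => by
    obtain ⟨z, hz⟩ := hne
    obtain ⟨-, w, hw0, hw⟩ := hl z hz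
    obtain ⟨g, hg, hgv⟩ := levi_dSub ((hw w).2 ⟨1, (one_smul F w).symm⟩) hw0 hv
    exact ⟨g • z, hg.moves hz, hgv⟩
  have hsame : ∀ {z z' : X}, Moves P.e z → Moves P.e z' → ∀ {v : P.perp}, v ≠ 0 → v ∈ dSub P z →
      v ∈ dSub P z' → z' ∈ qorb P z := by
    intro z z' hz hz' v hv hvz hvz'
    refine hu z z' hz hz' ?_
    have key : ∀ {x : X}, Moves P.e x → v ∈ dSub P x → ∀ w, w ∈ dSub P x ↔ ∃ c : F, w = c • v := by
      intro x hx hvx w
      obtain ⟨-, u, hu0, hu⟩ := hl x hx
      obtain ⟨c, rfl⟩ := (hu v).1 hvx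
      rw [hu]
      have hc : c ≠ 0 := fun h => hv (by rw [h, zero_smul])
      constructor
      · rintro ⟨d, rfl⟩; exact ⟨d / c, by rw [smul_smul, div_mul_cancel₀ _ hc]⟩
      · rintro ⟨d, rfl⟩; exact ⟨d * c, by rw [smul_smul]⟩
    exact SetLike.ext fun w => (key hz hvz w).trans (key hz' hvz' w).symm
  have hd : ∀ z : X, Moves P.e z → Nat.card (dSub P z) = q := fun z hz => by
    obtain ⟨-, v, hv0, hv⟩ := hl z hz
    rw [← Nat.card_eq_fintype_card (α := F)]
    refine (Nat.card_congr (Equiv.ofBijective (fun c : F => (⟨c • v, (hv _).2 ⟨c, rfl⟩⟩ : dSub P z)) ⟨?_, ?_⟩)).symm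
    · intro a b h
      exact smul_left_injective F hv0 (congrArg Subtype.val h)
    · rintro ⟨w, hw⟩
      obtain ⟨c, rfl⟩ := (hv w).1 hw
      exact ⟨c, rfl⟩
  have hN : q ^ (2 * (m - 1)) = q * q := by rw [hm2]; norm_num [pow_two]
  have hpart : ∀ s : Finset X, (∀ z ∈ s, Moves P.e z) → (s : Set X).PairwiseDisjoint (qorb P) →
      s.card * (q - 1) ≤ q * q - 1 := by
    intro s hs hsd
    have hdis : (s : Set X).PairwiseDisjoint fun z => ((Finset.univ : Finset P.perp).erase 0).filter (· ∈ dSub P z) :=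
      fun a ha b hb hab => Finset.disjoint_left.2 fun v hva hvb => by
        simp only [Finset.mem_filter, Finset.mem_erase] at hva hvb
        exact Set.disjoint_left.1 (hsd ha hb hab) (hsame (hs a ha) (hs b hb) hva.1.1 hva.2 hvb.2)
          (mem_qorb_self P b)
    have h : ((s.biUnion fun z => ((Finset.univ : Finset P.perp).erase 0).filter (· ∈ dSub P z))).card ≤
        ((Finset.univ : Finset P.perp).erase 0).card :=
      Finset.card_le_card (Finset.biUnion_subset.2 fun z _ => Finset.filter_subset _ _)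
    rw [Finset.card_biUnion hdis, Finset.card_erase_of_mem (Finset.mem_univ _), Finset.card_univ,
      ← Nat.card_eq_fintype_card (α := P.perp), P.card_perp_eq (by omega), hN] at h
    refine le_trans (le_of_eq ?_) h
    rw [← smul_eq_mul, ← Finset.sum_const]
    refine Finset.sum_congr rfl fun z hz => ?_
    rw [← hd z (hs z hz), Finset.filter_erase, Finset.card_erase_of_mem (by simp), Nat.card_eq_fintype_card,
      Fintype.card_subtype]
  have hq2 : 2 ≤ q := Fintype.one_lt_card
  have hfac : q * q - 1 = (q + 1) * (q - 1) := by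
    have := Nat.sq_sub_sq q 1
    simpa [pow_two] using this
  have hle : ∀ s : Finset X, (∀ z ∈ s, Moves P.e z) → (s : Set X).PairwiseDisjoint (qorb P) → s.card ≤ q + 1 :=
    fun s hs hsd => Nat.le_of_mul_le_mul_right (hfac ▸ hpart s hs hsd) (by omega)
  refine ⟨hcov, hle, ?_⟩
  obtain ⟨s, hsA, hsd, hs⟩ := exists_reps P {z : X | Moves P.e z}
  have hcard : s.card = q + 1 := by
    refine le_antisymm (hle s (fun z hz => hsA hz) hsd) (Nat.le_of_mul_le_mul_right ?_ (show 0 < q - 1 by omega))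
    rw [← hfac, ← hN, ← P.card_perp_eq (show 1 ≤ m by omega), Nat.card_eq_fintype_card, ← Finset.card_univ,
      ← Finset.card_erase_of_mem (Finset.mem_univ (0 : P.perp))]
    refine le_trans (Finset.card_le_card (t := s.biUnion fun z => (Finset.univ.filter (· ∈ dSub P z)).erase 0)
      fun v hv => ?_) (Finset.card_biUnion_le.trans (le_of_eq ?_))
    · obtain ⟨z, hz, hvz⟩ := hcov v (Finset.ne_of_mem_erase hv)
      obtain ⟨x, hx, hzx⟩ := hs z hz
      exact Finset.mem_biUnion.2 ⟨x, hx, Finset.mem_erase.2 ⟨Finset.ne_of_mem_erase hv,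
        Finset.mem_filter.2 ⟨Finset.mem_univ _, dSub_qorb P hzx ▸ hvz⟩⟩⟩
    · rw [← smul_eq_mul, ← Finset.sum_const]
      refine Finset.sum_congr rfl fun z hz => ?_
      rw [← hd z (hsA hz), Finset.card_erase_of_mem (by simp), Nat.card_eq_fintype_card (α := dSub P z),
        Fintype.card_subtype]
  rw [Nat.card_eq_fintype_card, Fintype.card_subtype,
    show (Finset.univ.filter fun z : X => Moves P.e z) = s.biUnion fun z => (qorb P z).toFinset from
      Finset.ext fun x => by
        simp only [Finset.mem_filter, Finset.mem_univ, true_and, Finset.mem_biUnion, Set.mem_toFinset]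
        exact ⟨hs x, fun ⟨y, hy, h⟩ => moves_qorb P (hsA hy) h⟩,
    Finset.card_biUnion fun a ha b hb hab => Set.disjoint_toFinset.2 (hsd ha hb hab), ← hcard, mul_comm _ s.card,
    ← smul_eq_mul, ← Finset.sum_const]
  refine Finset.sum_congr rfl fun z hz => ?_
  rw [← Set.ncard_eq_toFinset_card', ncard_qorb P (by omega), hd z (hsA hz)]
  congr 1
  have h := card_mSub P z
  rwa [(hl z (hsA hz)).1, Nat.card_congr (Equiv.ofUnique (⊥ : AddSubgroup F) Unit), Nat.card_unique, one_mul] at h

include hq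

/-- In dimension four there is no small action of this type. -/
theorem no_lineType (hsmall : Small m F X) [MulAction.IsPretransitive (Matrix.symplecticGroup (Fin m) F) X]
    {e₀ : V} {x₀ : X} (hx₀ : Moves e₀ x₀) : False := by
  haveI : Fintype X := Fintype.ofFinite X
  have hne : ∀ P : Pair m F, ∃ z : X, Moves P.e z := fun P => by
    obtain ⟨g, hg⟩ := exists_move hx₀.ne_zero P.e_ne
    exact ⟨g • x₀, hg ▸ moves_map hx₀ g⟩
  have hP : ∀ v : V, v ≠ 0 → Nat.card {z : X // Moves v z} = q * q * (q + 1) := fun v hv => by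
    obtain ⟨P, rfl⟩ := exists_pair hv
    exact (line_count hL hm2 P (hne P)).2.2
  have hs : Nat.card X * (q - 1) < q * q * q * q - 1 := by
    have h : Nat.card X * (q - 1) < q ^ (2 * m) - 1 := hsmall
    rwa [hm2, show q ^ (2 * 2) = q * q * q * q by ring] at h
  obtain ⟨P, -⟩ := exists_pair hx₀.ne_zero
  have hPc := hP P.e P.e_ne
  have hle : q * q * (q + 1) ≤ Nat.card X :=
    hPc ▸ Nat.card_le_card_of_injective Subtype.val Subtype.val_injective
  obtain ⟨r, hr⟩ : ∃ r, q = r + 4 := ⟨q - 4, by omega⟩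
  by_cases hfix : q * q * (q + 1) < Nat.card X
  · -- double count
    have hV : Nat.card V = q * q * q * q := by
      rw [Nat.card_fun, Nat.card_sum, Nat.card_fin, Nat.card_eq_fintype_card, hm2]; ring
    have hdiv : Nat.card X ∣ (q * q * q * q - 1) * (q * q * (q + 1)) := by
      refine ⟨Nat.card {v : V // Moves v x₀}, ?_⟩
      have hcol : ∀ z : X, (∑ v : V, if Moves v z then 1 else 0) = Nat.card {v : V // Moves v x₀} := fun z => by
        obtain ⟨g, rfl⟩ := MulAction.exists_smul_eq (Matrix.symplecticGroup (Fin m) F) x₀ z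
        rw [← Finset.card_filter, ← Fintype.card_subtype, ← Nat.card_eq_fintype_card]
        exact Nat.card_congr
          { toFun := fun v => ⟨(g⁻¹).1 *ᵥ v.1, (moves_map_iff g).1 (by rw [sp_mulVec_inv]; exact v.2)⟩
            invFun := fun v => ⟨g.1 *ᵥ v.1, moves_map v.2 g⟩
            left_inv := fun v => Subtype.ext (sp_mulVec_inv g v.1)
            right_inv := fun v => Subtype.ext (sp_inv_mulVec g v.1) }
      have hrow : ∀ v : V, v ≠ 0 → (∑ z : X, if Moves v z then 1 else 0) = q * q * (q + 1) := fun v hv => by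
        rw [← Finset.card_filter, ← Fintype.card_subtype, ← Nat.card_eq_fintype_card]
        exact hP v hv
      calc (q * q * q * q - 1) * (q * q * (q + 1))
          = ∑ v : V, ∑ z : X, if Moves v z then 1 else 0 := by
            rw [← Finset.sum_erase_add Finset.univ _ (Finset.mem_univ (0 : V)),
              Finset.sum_congr rfl fun v hv => hrow v (Finset.ne_of_mem_erase hv), Finset.sum_const,
              Finset.card_erase_of_mem (Finset.mem_univ _), Finset.card_univ,
              ← Nat.card_eq_fintype_card (α := V), hV, smul_eq_mul,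
              Finset.sum_eq_zero (s := (Finset.univ : Finset X)) fun z _ => if_neg fun h => h.ne_zero rfl,
              add_zero]
        _ = _ := by
          rw [Finset.sum_comm, Finset.sum_congr rfl fun z _ => hcol z, Finset.sum_const, Finset.card_univ,
            smul_eq_mul, Nat.card_eq_fintype_card (α := X)]
    obtain ⟨f, hf⟩ : ∃ f, Nat.card X = q * q * (q + 1) + f := ⟨_, (Nat.add_sub_cancel' hle).symm⟩
    have hfq : f ≤ q := by
      by_contra h
      have h2 : (q * q * (q + 1) + (q + 1)) * (q - 1) ≤ Nat.card X * (q - 1) :=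
        Nat.mul_le_mul_right _ (by omega)
      have e : (q * q * (q + 1) + (q + 1)) * (q - 1) = q * q * q * q - 1 := by
        rw [hr, show r + 4 - 1 = r + 3 by omega]
        refine (Nat.sub_eq_of_eq_add ?_).symm
        ring
      omega
    obtain ⟨g, hg⟩ : ∃ g, q + 1 = f + g := ⟨q + 1 - f, by omega⟩
    have hd2 : Nat.card X ∣ (q - 1) * g * f := by
      have e1 : (q * q * q * q - 1) * (q * q * (q + 1)) + (q * q * q * q - 1) * f =
          (q * q * q * q - 1) * Nat.card X := by rw [hf]; ring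
      have h1 : Nat.card X ∣ (q * q * q * q - 1) * f := (Nat.dvd_add_right hdiv).1 (e1 ▸ dvd_mul_left _ _)
      have e2 : (q * q * q * q - 1) * f = Nat.card X * ((q - 1) * f) + (q - 1) * g * f := by
        have e3 : q * q * q * q - 1 = (q - 1) * (q * q * (q + 1) + (q + 1)) := by
          rw [hr, show r + 4 - 1 = r + 3 by omega]
          refine Nat.sub_eq_of_eq_add ?_
          ring
        rw [e3, hf, hg]; ring
      exact (Nat.dvd_add_right (dvd_mul_right _ _)).1 (e2 ▸ h1)
    have hpos : 0 < (q - 1) * g * f := Nat.mul_pos (Nat.mul_pos (by omega) (by omega)) (by omega)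
    have hlt := Nat.le_of_dvd hpos hd2
    have h3 : (q - 1) * g * f ≤ (q - 1) * (q + 1) * q := Nat.mul_le_mul (Nat.mul_le_mul_left _ (by omega)) hfq
    have h4 : (q - 1) * (q + 1) * q < q * q * (q + 1) := by
      rw [mul_comm q q, show q * q * (q + 1) = q * (q + 1) * q by ring]
      exact Nat.mul_lt_mul_of_pos_right (Nat.mul_lt_mul_of_pos_right (by omega) (by omega)) (by omega)
    omega
  -- every transvection moves every point
  have hall : ∀ (v : V), v ≠ 0 → ∀ z : X, Moves v z := by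
    intro v hv z
    by_contra h
    refine hfix (lt_of_eq_of_lt (hP v hv).symm ?_)
    rw [Nat.card_eq_fintype_card, Nat.card_eq_fintype_card]
    exact Fintype.card_subtype_lt h
  obtain ⟨c, l, j, hl, hc, hlq, hcc⟩ := exists_unit hq
  haveI : Nontrivial P.perp := Finite.one_lt_card_iff_nontrivial.1 (by
    rw [P.card_perp_eq (show 1 ≤ m by omega)]
    exact Nat.one_lt_pow (by omega) (by omega))
  obtain ⟨⟨f₂, hf₂⟩, hne2⟩ := exists_ne (0 : P.perp)
  obtain ⟨e₂, he₂, hef⟩ := P.perp_nd hf₂ fun h => hne2 (Subtype.ext h)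
  let P₂ : Pair m F := ⟨e₂, f₂, hef⟩
  set τ := P₂.torus c
  have hτ : IsLevi P τ := ⟨P₂.torus_fix c ⟨sf_symm_zero he₂.1, sf_symm_zero hf₂.1⟩,
    P₂.torus_fix c ⟨sf_symm_zero he₂.2, sf_symm_zero hf₂.2⟩⟩
  have hτpow : τ ^ l ^ j = 1 := by
    rw [show τ = P₂.torusHom c from rfl, ← map_pow, ← hc, pow_orderOf_eq_one, map_one]
  obtain ⟨hl1, hu1⟩ := hL P
  obtain ⟨hcov, -, -⟩ := line_count hL hm2 P (hne P)
  -- two stable orbits at `e`
  have hstable : ∀ (v : P.perp), v ≠ 0 → (∃ d : F, hτ.map v = d • v) →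
      ∃ y : X, τ • y = y ∧ v ∈ dSub P y := by
    intro v hv hev
    obtain ⟨d, hd⟩ := hev
    obtain ⟨z, hz, hvz⟩ := hcov v hv
    obtain ⟨-, u, hu0, hu⟩ := hl1 z hz
    have hτz : τ • z ∈ qorb P z := by
      refine hu1 z (τ • z) hz (hτ.moves hz) (SetLike.ext fun w => ?_)
      obtain ⟨c₀, rfl⟩ := (hu v).1 hvz
      have hc0 : c₀ ≠ 0 := fun h => hv (by rw [h, zero_smul])
      have hu' : hτ.map u = d • u := by
        refine Subtype.ext (smul_right_injective V hc0 ?_)
        have h := congrArg Subtype.val hd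
        change τ.1 *ᵥ (c₀ • u.1) = d • c₀ • u.1 at h
        rw [Matrix.mulVec_smul, smul_comm d c₀] at h
        exact h
      have hd0 : d ≠ 0 := fun h => hv (Subtype.ext (by
        have h' := congrArg Subtype.val hd
        change τ.1 *ᵥ (c₀ • u.1) = d • c₀ • u.1 at h'
        rw [h, zero_smul] at h'
        show c₀ • u.1 = 0
        rw [← sp_inv_mulVec τ (c₀ • u.1), h', Matrix.mulVec_zero]))
      rw [← hτ.map_inv w, hτ.mem_dSub, hτ.map_inv, hu, hu]
      constructor
      · rintro ⟨a, rfl⟩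
        refine ⟨a / d, ?_⟩
        have e : hτ.inv.map u = d⁻¹ • u := by
          refine Subtype.ext ?_
          show (τ⁻¹).1 *ᵥ u.1 = d⁻¹ • u.1
          have h' : τ.1 *ᵥ u.1 = d • u.1 := congrArg Subtype.val hu'
          conv_lhs => rw [show u.1 = d⁻¹ • (d • u.1) by rw [inv_smul_smul₀ hd0], ← h', Matrix.mulVec_smul,
            sp_inv_mulVec]
        refine Subtype.ext ?_
        show (τ⁻¹).1 *ᵥ (a • u.1) = (a / d) • u.1
        rw [Matrix.mulVec_smul, show (τ⁻¹).1 *ᵥ u.1 = d⁻¹ • u.1 from congrArg Subtype.val e, smul_smul,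
          div_eq_mul_inv]
      · rintro ⟨a, ha⟩
        refine ⟨a * d, ?_⟩
        have h' := congrArg hτ.map ha
        rw [hτ.map_inv] at h'
        rw [h']
        refine Subtype.ext ?_
        show τ.1 *ᵥ (a • u.1) = (a * d) • u.1
        rw [Matrix.mulVec_smul, show τ.1 *ᵥ u.1 = d • u.1 from congrArg Subtype.val hu', smul_smul]
    have hS : ∀ x : X, x ∈ qorb P z ↔ τ • x ∈ qorb P z := fun x => by
      constructor
      · exact fun h => qorb_trans P hτz (hτ.qorb_map h)
      · intro h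
        have h' := hτ.inv.qorb_map (qorb_trans P (qorb_symm P hτz) h)
        rwa [inv_smul_smul, inv_smul_smul] at h'
    let σ : Equiv.Perm (qorb P z) := (MulAction.toPerm τ).subtypePerm fun x => (hS x).symm
    have hσ : ∀ (n : ℕ) (x : qorb P z), ((σ ^ n) x).1 = τ ^ n • x.1 := fun n => by
      induction n with
      | zero => intro x; rw [pow_zero, pow_zero, one_smul]; rfl
      | succ n ih => intro x; rw [pow_succ', pow_succ', mul_smul, ← ih]; rfl
    obtain ⟨y, hy⟩ := exists_fixed (X := qorb P z) (g := σ) hl (show σ ^ l ^ j = 1 from Equiv.ext fun x => Subtype.ext (by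
      rw [hσ, hτpow, one_smul]; rfl)) (by
        rw [Nat.card_coe_set_eq, ncard_qorb P (by omega)]
        intro h
        have h1 : Nat.card (mSub P z) ∣ q := ⟨_, ((mul_comm _ _).trans (card_mSub P z)).symm⟩
        have h2 : Nat.card (dSub P z) ∣ q * q := by
          refine ⟨Nat.card (uSub P z), ?_⟩
          rw [mul_comm (Nat.card (dSub P z)) (Nat.card (uSub P z)), card_dSub P (by omega) z, hm2]
          norm_num [pow_two]
        rcases hl.dvd_mul.1 h with h | h
        · exact hlq (h.trans h1)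
        · exact hlq ((hl.dvd_mul.1 (h.trans h2)).elim id id))
    exact ⟨y.1, congrArg Subtype.val hy, by rw [dSub_qorb P y.2]; exact hvz⟩
  have he2 : (⟨e₂, he₂⟩ : P.perp) ≠ 0 := fun h => P₂.e_ne (congrArg Subtype.val h)
  have hf2 : (⟨f₂, hf₂⟩ : P.perp) ≠ 0 := fun h => P₂.f_ne (congrArg Subtype.val h)
  obtain ⟨y₁, hy₁, hv₁⟩ := hstable ⟨e₂, he₂⟩ he2 ⟨c, Subtype.ext (P₂.torus_e c)⟩
  obtain ⟨y₂, hy₂, hv₂⟩ := hstable ⟨f₂, hf₂⟩ hf2 ⟨((c⁻¹ : Fˣ) : F), Subtype.ext (P₂.torus_f c)⟩
  have hcomm : ∀ t : F, Commute τ (tv P.e t) := fun t => by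
    have h := tv_conj τ P.e t
    rw [hτ.e_eq] at h
    exact mul_inv_eq_iff_eq_mul.1 h
  let pts : F ⊕ F → {x : X // τ • x = x} := fun
    | .inl t => ⟨tv P.e t • y₁, by rw [← mul_smul, (hcomm t).eq, mul_smul, hy₁]⟩
    | .inr t => ⟨tv P.e t • y₂, by rw [← mul_smul, (hcomm t).eq, mul_smul, hy₂]⟩
  have hTb : ∀ (y : X) (t s : F), tv P.e t • y = tv P.e s • y → t = s := fun y t s h => by
    have h1 : -s + t ∈ T0 P y := (mem_T0 P).2 (by rw [← tv_mul, mul_smul, h, ← mul_smul, tv_mul, neg_add_cancel,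
      tv_zero, one_smul])
    rw [(hl1 y (hall _ P.e_ne y)).1, AddSubgroup.mem_bot] at h1
    exact (neg_add_eq_zero.1 h1).symm
  have hpts : Function.Injective pts := by
    have hcross : ∀ t s : F, tv P.e t • y₁ ≠ tv P.e s • y₂ := by
      intro t s h
      have h1 : ∀ (y : X) (t : F), tv P.e t • y ∈ qorb P y := fun y t =>
        (mem_qorb P).2 ⟨0, P.perp.zero_mem, t, by rw [P.qe_tv]⟩
      have h2 : y₂ ∈ qorb P y₁ := qorb_trans P (h1 y₁ t) (qorb_symm P (h ▸ h1 y₂ s))
      rw [dSub_qorb P h2] at hv₂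
      obtain ⟨-, u, hu0, hu⟩ := hl1 y₁ (hall _ P.e_ne y₁)
      obtain ⟨a, ha⟩ := (hu _).1 hv₁
      obtain ⟨b, hb⟩ := (hu _).1 hv₂
      have h3 := hef
      rw [show e₂ = a • u.1 from congrArg Subtype.val ha, show f₂ = b • u.1 from congrArg Subtype.val hb,
        sf_smul_left, sf_smul_right, sf_self, mul_zero, mul_zero] at h3
      exact zero_ne_one h3
    rintro (t | t) (s | s) h <;> simp only [pts, Subtype.mk.injEq] at h
    · rw [hTb _ _ _ h]
    · exact (hcross t s h).elim
    · exact (hcross s t h.symm).elim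
    · rw [hTb _ _ _ h]
  have h2q : 2 * q ≤ Nat.card {x : X // τ • x = x} := by
    refine le_trans (le_of_eq ?_) (Nat.card_le_card_of_injective pts hpts)
    rw [Nat.card_sum, Nat.card_eq_fintype_card, two_mul]
  -- at most one fixed point on each orbit at `e₂`
  obtain ⟨hl2, hu2⟩ := hL P₂
  obtain ⟨-, hle2, -⟩ := line_count hL hm2 P₂ (hne P₂)
  have hsep : ∀ x x' : X, τ • x = x → τ • x' = x' → x' ∈ qorb P₂ x → x' = x := by
    intro x x' hx hx' h
    obtain ⟨a, ha, t, rfl⟩ := (mem_qorb P₂).1 h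
    obtain ⟨hTx, v, hv0, hv⟩ := hl2 x (hall _ P₂.e_ne x)
    have h1 : P₂.qe ((c : F) • a) ((c : F) * c * t) • x = P₂.qe a t • x := by
      conv_lhs => rw [← hx, torus_qe_smul c ha t x, hx']
    have hau : (⟨a, ha⟩ : P₂.perp) ∈ uSub P₂ x := by
      rw [uSub_of_line hv]
      have h2 : (⟨-a + (c : F) • a, P₂.perp.add_mem (P₂.perp.neg_mem ha) (P₂.perp.smul_mem _ ha)⟩ : P₂.perp) ∈
          uSub P₂ x := ⟨-t + (c : F) * c * t + sf ((c : F) • a) (-a), by
        show P₂.qe (-a + (c : F) • a) _ • x = x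
        rw [← P₂.qe_mul (P₂.perp.neg_mem ha).1 (P₂.perp.smul_mem _ ha).1, ← P₂.qe_inv ha.1, mul_smul, h1,
          inv_smul_smul]⟩
      rw [uSub_of_line hv] at h2
      change sf (-a + (c : F) • a) v.1 = 0 at h2
      rw [sf_add_left, sf_neg_left, sf_smul_left] at h2
      show sf a v.1 = 0
      refine (mul_eq_zero.1 (show ((c : F) - 1) * sf a v.1 = 0 by linear_combination h2)).resolve_left
        (sub_ne_zero.2 fun hc1 => hcc (by rw [hc1, one_mul]))
    obtain ⟨s, hs⟩ := (mem_uSub P₂).1 hau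
    change P₂.qe a s • x = x at hs
    have e : P₂.qe a t • x = tv P₂.e (t - s) • x := by
      rw [show P₂.qe a t = tv P₂.e (t - s) * P₂.qe a s by
        rw [(qe_commute_tv P₂ ha.1 s _).eq, Pair.qe, Pair.qe, mul_assoc, tv_mul, add_sub_cancel], mul_smul, hs]
    have h3 : tv P₂.e ((c : F) * c * (t - s)) • x = tv P₂.e (t - s) • x := by
      rw [e] at hx'
      conv_lhs => rw [← hx, ← P₂.qe_tv, ← smul_zero ((c : F)), torus_qe_smul c P₂.perp.zero_mem, P₂.qe_tv, hx']
    have h4 : -(t - s) + (c : F) * c * (t - s) ∈ T0 P₂ x := (mem_T0 P₂).2 (by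
      rw [← tv_mul, mul_smul, h3, ← mul_smul, tv_mul, neg_add_cancel, tv_zero, one_smul])
    rw [hTx, AddSubgroup.mem_bot] at h4
    have h5 : t - s = 0 := (mul_eq_zero.1 (show ((c : F) * c - 1) * (t - s) = 0 by linear_combination h4)).resolve_left
      (sub_ne_zero.2 hcc)
    rw [e, h5, tv_zero, one_smul]
  have hfix2 : Nat.card {x : X // τ • x = x} ≤ q + 1 := by
    rw [Nat.card_eq_fintype_card, Fintype.card_subtype]
    refine hle2 _ (fun z _ => hall _ P₂.e_ne z) fun a ha b hb hab => Set.disjoint_left.2 fun x hxa hxb => hab ?_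
    simp only [Finset.coe_filter, Finset.mem_univ, true_and, Set.mem_ofPred_eq] at ha hb
    exact (hsep a b ha hb (qorb_trans P₂ hxa (qorb_symm P₂ hxb))).symm
  omega

end CfsgLib.PGroup.SpIndex
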