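import Cfsg.Agent.Lib.PGroup.SpIndex.Odd
import Cfsg.Agent.Lib.PGroup.SpIndex.Even
import Cfsg.Agent.Lib.Classical.SympPoints
import Cfsg.Agent.Lib.Perm.Trans.SympGen

/-!
The least index of a proper subgroup of a symplectic group over a field with more than two elements.
-/

set_option autoImplicit false
set_option linter.unusedSectionVars false

namespace CfsgLib.PGroup.SpIndex

open Matrix CfsgLib.Sp CfsgLib.Classical.SympCount
open scoped LinearAlgebra.Projectivization

variable {m : ℕ} {F : Type*} [Field F] [Fintype F]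

local notation "q" => Fintype.card F

/-- A small action fixes every point by every transvection. -/
theorem small_trivial {X : Type*} [MulAction (Matrix.symplecticGroup (Fin m) F) X] [Finite X]
    [MulAction.IsPretransitive (Matrix.symplecticGroup (Fin m) F) X] (hm : 2 ≤ m) (hq : 3 ≤ q)
    (hexc : ¬ (m = 2 ∧ q = 3)) (hsmall : Small m F X) (z : Fin m ⊕ Fin m → F) (x : X) (t : F) :
    tv z t • x = x := by
  refine all_fix hm hq hsmall ?_ hexc z x t
  by_cases h2 : (2 : F) = 0
  · haveI : CharP F 2 := CharTwo.of_one_ne_zero_of_two_eq_zero one_ne_zero h2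
    have heven : q % 2 = 0 := FiniteField.even_card_iff_char_two.1 (ringChar.eq F 2)
    exact freeMoved_even hm (by omega) hsmall
  · exact freeMoved_odd h2 hm hq hexc hsmall

/-- The comparison map as a homomorphism. -/
def toSpGLHom (m : ℕ) (F : Type*) [Field F] : Matrix.symplecticGroup (Fin m) F →* Cfsg.spGL m F where
  toFun := toSpGL
  map_one' := Subtype.ext (Units.ext rfl)
  map_mul' A B := Subtype.ext (Units.ext (sp_mul_val A B))

/-- The stabiliser of a point of the projective space. -/
theorem exists_index (hm : 1 ≤ m) : ∃ H : Subgroup (Matrix.symplecticGroup (Fin m) F),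
    Subgroup.center (Matrix.symplecticGroup (Fin m) F) ≤ H ∧ H.index = (q ^ (2 * m) - 1) / (q - 1) := by
  letI : MulAction (Matrix.symplecticGroup (Fin m) F) (ℙ F (Fin m ⊕ Fin m → F)) :=
    MulAction.compHom _ (toSpGLHom m F)
  have hsmul : ∀ (A : Matrix.symplecticGroup (Fin m) F) (v : Fin m ⊕ Fin m → F) (hv : v ≠ 0),
      A • Projectivization.mk F v hv = Projectivization.mk F (A.1 *ᵥ v) (sp_mulVec_ne_zero A hv) :=
    fun A v hv => toSpGL_smul A v hv
  haveI : MulAction.IsPretransitive (Matrix.symplecticGroup (Fin m) F) (ℙ F (Fin m ⊕ Fin m → F)) := ⟨fun x y => by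
    obtain ⟨A, hA⟩ := exists_move x.rep_nonzero y.rep_nonzero
    refine ⟨A, ?_⟩
    conv_lhs => rw [← x.mk_rep, hsmul]
    simp only [hA, Projectivization.mk_rep]⟩
  have hv0 : (Pi.single (Sum.inl ⟨0, by omega⟩) 1 : Fin m ⊕ Fin m → F) ≠ 0 := fun h => by
    simpa using congrFun h (Sum.inl ⟨0, by omega⟩)
  refine ⟨MulAction.stabilizer _ (Projectivization.mk F _ hv0), fun A hA => ?_, ?_⟩
  · rw [MulAction.mem_stabilizer_iff, hsmul, Projectivization.mk_eq_mk_iff']
    rcases center_scalar hm (fun v _ => (Subgroup.mem_center_iff.1 hA (tv v 1)).symm) with h | h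
    · exact ⟨1, by rw [h, Matrix.one_mulVec, one_smul]⟩
    · exact ⟨-1, by rw [h, Matrix.neg_mulVec, Matrix.one_mulVec, neg_smul, one_smul]⟩
  · rw [MulAction.index_stabilizer_of_transitive, Projectivization.card'', Nat.card_fun, Nat.card_sum, Nat.card_fin,
      Nat.card_eq_fintype_card, two_mul]

end CfsgLib.PGroup.SpIndex
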