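import Cfsg.Agent.Lib.PGroup.SpIndex.Assemble

/-!
Small actions in odd characteristic.
-/

set_option autoImplicit false
set_option linter.unusedSectionVars false

namespace CfsgLib.PGroup.SpIndex

open Matrix CfsgLib.Sp

attribute [local instance] _root_.Classical.propDecidable

variable {m : ℕ} {F : Type*} [Field F] [Fintype F]

local notation "V" => (Fin m ⊕ Fin m → F)
local notation "G" => Matrix.symplecticGroup (Fin m) F
local notation "q" => Fintype.card F

variable {X : Type*} [MulAction (Matrix.symplecticGroup (Fin m) F) X] (h2 : (2 : F) ≠ 0)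
include h2

/-- Two vectors of a point are orthogonal for its characters, so many characters are seen. -/
theorem pow_le_dSub (hm : 1 ≤ m) (P : Pair m F) {y : X} (hy : Moves P.e y) :
    q ^ (m - 1) ≤ Nat.card (dSub P y) := by
  obtain ⟨μ, hμ, hμ0⟩ := exists_mSub P hy
  have hcomm : ∀ a b : P.perp, a ∈ uSub P y → b ∈ uSub P y → 2 * sf a.1 b.1 ∈ T0 P y := by
    rintro a b ⟨t, ht⟩ ⟨s, hs⟩
    have h1 : P.qe (a.1 + b.1) (t + s + sf b.1 a.1) • y = y := by rw [← P.qe_mul a.2.1 b.2.1, mul_smul, hs, ht]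
    have h2' : P.qe (b.1 + a.1) (s + t + sf a.1 b.1) • y = y := by rw [← P.qe_mul b.2.1 a.2.1, mul_smul, ht, hs]
    rw [show P.qe (b.1 + a.1) (s + t + sf a.1 b.1) = tv P.e (2 * sf a.1 b.1) * P.qe (a.1 + b.1) (t + s + sf b.1 a.1) by
      rw [(qe_commute_tv P (P.perp.add_mem a.2 b.2).1 _ _).eq, Pair.qe, Pair.qe, mul_assoc, tv_mul, add_comm b.1,
        sf_swap b.1 a.1]
      ring_nf, mul_smul, h1] at h2'
    exact h2'
  have hle : Nat.card (uSub P y) ≤ Nat.card (dSub P y) := by
    refine Nat.card_le_card_of_injective (fun b => (⟨(2 * μ) • b.1, (mem_dSub P).2 fun a ha => ?_⟩ : dSub P y))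
      fun a b h => Subtype.ext (smul_right_injective P.perp (mul_ne_zero h2 hμ0) (congrArg Subtype.val h))
    have := (mem_mSub P).1 hμ _ (hcomm a b.1 ha b.2)
    rw [Submodule.coe_smul, sf_smul_right]
    rwa [show 2 * μ * sf a.1 b.1.1 = 2 * sf a.1 b.1.1 * μ by ring]
  have h := card_dSub P hm y
  have h' := Nat.mul_le_mul_right (Nat.card (dSub P y)) hle
  rw [h, mul_comm 2, pow_mul, pow_two] at h'
  by_contra hlt
  rw [not_le] at hlt
  exact absurd h' (not_le.2 (Nat.mul_lt_mul'' hlt hlt))

theorem dSub_ne_bot (hm : 2 ≤ m) (P : Pair m F) {y : X} (hy : Moves P.e y) : dSub P y ≠ ⊥ := by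
  intro h
  have h1 := pow_le_dSub h2 (by omega) P hy
  rw [h, Nat.card_congr (Equiv.ofUnique (⊥ : AddSubgroup P.perp) Unit), Nat.card_unique] at h1
  exact absurd h1 (not_le.2 (Nat.one_lt_pow (by omega) Fintype.one_lt_card))

/-- A binary form with non-zero discriminant represents everything. -/
theorem represents {α β γ : F} (h : β * β - 4 * α * γ ≠ 0) (μ : F) :
    ∃ x y : F, α * x * x + β * (x * y) + γ * y * y = μ := by
  rcases eq_or_ne α 0 with rfl | hα
  · have hβ : β ≠ 0 := fun hβ => h (by rw [hβ]; ring)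
    refine ⟨(μ - γ) / β, 1, ?_⟩
    field_simp
    ring
  have hF : q % 2 = 1 := by
    rcases Nat.mod_two_eq_zero_or_one q with h0 | h0
    · have hc : ringChar F = 2 := FiniteField.even_card_iff_char_two.2 h0
      exact absurd (show (2 : F) = 0 by rw [show (2 : F) = ((2 : ℕ) : F) by norm_num, ← hc]; exact ringChar.Nat.cast_ringChar) h2
    · exact h0
  set c := γ - β * β / (4 * α) with hc
  have h4 : (4 : F) ≠ 0 := by rw [show (4 : F) = 2 * 2 by norm_num]; exact mul_ne_zero h2 h2
  have hc0 : c ≠ 0 := fun h0 => h (by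
    rw [hc, sub_eq_zero, eq_div_iff (mul_ne_zero h4 hα)] at h0
    linear_combination -h0)
  obtain ⟨x', y', hxy⟩ := FiniteField.exists_root_sum_quadratic
    (f := Polynomial.C α * Polynomial.X ^ 2 - Polynomial.C μ) (g := Polynomial.C c * Polynomial.X ^ 2)
    (by rw [Polynomial.degree_sub_C] <;> rw [Polynomial.degree_C_mul_X_pow 2 hα] <;> norm_num)
    (Polynomial.degree_C_mul_X_pow 2 hc0) hF
  simp only [Polynomial.eval_sub, Polynomial.eval_mul, Polynomial.eval_C, Polynomial.eval_pow, Polynomial.eval_X]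
    at hxy
  refine ⟨x' - β * y' / (2 * α), y', ?_⟩
  rw [hc] at hxy
  field_simp at hxy ⊢
  linear_combination hxy

variable [Finite X]

/-- Every character of the centre is seen by some moved point. -/
theorem exists_moved_mSub (hm : 2 ≤ m) (P : Pair m F) {y : X} (hy : Moves P.e y) {μ : F} (hμ : μ ≠ 0) :
    ∃ y' : X, Moves P.e y' ∧ μ ∈ mSub P y' := by
  haveI : Fintype X := Fintype.ofFinite X
  obtain ⟨w, hw⟩ : ∃ w : P.perp, w ∉ uSub P y := by
    by_contra hcon
    simp only [not_exists, not_not] at hcon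
    exact dSub_ne_bot h2 hm P hy (dSub_eq_bot_of_uSub P (by omega) (eq_top_iff.2 fun a _ => hcon a))
  have hw0 : w.1 ≠ 0 := fun h => hw (by rw [show w = 0 from Subtype.ext h]; exact (uSub P y).zero_mem)
  let el3 : F × F × F → G := fun p => el P.e (p.1 • w.1) * tv P.e p.2.1 * tv w.1 p.2.2
  have hwe : ∀ a : F, sf (a • w.1) P.e = 0 := fun a => by rw [sf_smul_left, w.2.1, mul_zero]
  have hc1 : ∀ (a s : F), Commute (el P.e (a • w.1)) (tv w.1 s) := fun a s => by
    rw [← el_smul_left w.2.1, el_symm (by rw [sf_smul_right, w.2.1, mul_zero])]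
    exact el_comm_tv (by rw [sf_smul_left, sf_symm_zero w.2.1, mul_zero]) s
  have hadd : ∀ p r, el3 (p + r) = el3 p * el3 r := fun p r => by
    simp only [el3, Prod.fst_add, Prod.snd_add]
    have e1 : el P.e (p.1 • w.1) * el P.e (r.1 • w.1) = el P.e ((p.1 + r.1) • w.1) := by
      rw [el_mul (hwe _) (hwe _), add_smul, sf_smul_left, sf_smul_right, sf_self, mul_zero, mul_zero, tv_zero,
        mul_one]
    calc el P.e ((p.1 + r.1) • w.1) * tv P.e (p.2.1 + r.2.1) * tv w.1 (p.2.2 + r.2.2)
        = el P.e (p.1 • w.1) * (el P.e (r.1 • w.1) * tv P.e p.2.1) * tv P.e r.2.1 * (tv w.1 p.2.2 * tv w.1 r.2.2) := by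
          rw [← mul_assoc (el P.e (p.1 • w.1)), e1, mul_assoc _ (tv P.e p.2.1), tv_mul, tv_mul]
      _ = el P.e (p.1 • w.1) * tv P.e p.2.1 * ((el P.e (r.1 • w.1) * tv P.e r.2.1) * tv w.1 p.2.2) * tv w.1 r.2.2 := by
          rw [(el_comm_tv (hwe _) _).eq]
          simp only [mul_assoc]
      _ = _ := by
          rw [((hc1 _ _).mul_left (tv_commute (sf_symm_zero w.2.1) _ _)).eq]
          simp only [mul_assoc]
  let α : AAct (F × F × F) X :=
    { act := fun p x => el3 p • x
      act_zero := fun x => by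
        show el3 0 • x = x
        simp only [el3, Prod.fst_zero, Prod.snd_zero, zero_smul, el_zero, tv_zero, one_mul, one_smul]
      act_add := fun p r x => by
        show el3 (p + r) • x = el3 p • el3 r • x
        rw [hadd, mul_smul] }
  let π : Pairing (F × F × F) ℂ :=
    { e := fun a z => psi F (a.1 * z.1 + a.2.1 * z.2.1 + a.2.2 * z.2.2)
      addl := fun a b z => by
        rw [← AddChar.map_add_eq_mul]; simp only [Prod.fst_add, Prod.snd_add]; ring_nf
      addr := fun a z u => by
        rw [← AddChar.map_add_eq_mul]; simp only [Prod.fst_add, Prod.snd_add]; ring_nf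
      zerol := fun z => by simp
      zeror := fun z => by simp
      ndl := fun a h => by
        refine Prod.ext (psi_separates fun c => ?_) (Prod.ext (psi_separates fun c => ?_) (psi_separates fun c => ?_))
        · simpa using h (c, 0, 0)
        · simpa using h (0, c, 0)
        · simpa using h (0, 0, c) }
  by_cases hrk : ∃ B ∈ π.ann (α.stab y), B.1 * B.1 - 4 * B.2.1 * B.2.2 ≠ 0
  · obtain ⟨B, hB, hd⟩ := hrk
    obtain ⟨x₁, y₁, hval⟩ := represents h2 hd μ
    set z := x₁ • P.e + y₁ • w.1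
    have hz : z ≠ 0 := fun hz => hμ (by
      have h := congrArg (fun v => sf v P.f) hz
      simp only [z, sf_add_left, sf_smul_left, P.hef, w.2.2, sf_zero_left] at h
      have hx : x₁ = 0 := by linear_combination h
      rw [hx] at hval
      have hy' : y₁ • w.1 = 0 := by simpa [z, hx] using hz
      rw [(smul_eq_zero.1 hy').resolve_right hw0] at hval
      linear_combination -hval)
    have key : ∀ r : F, tv z r • y = y → psi F (r * μ) = 1 := fun r hr => by
      have e : tv z r = el3 (r * (x₁ * y₁), r * (x₁ * x₁), r * (y₁ * y₁)) := sp_ext_vec fun v => by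
        simp only [el3, sp_mul_mulVec, tv_mulVec, el_mulVec (hwe _), z, sf_add_left, sf_add_right, sf_smul_left,
          sf_smul_right, sf_self, w.2.1, sf_symm_zero w.2.1]
        module
      rw [e] at hr
      have h := hB _ hr
      change psi F _ = 1 at h
      rw [← hval]
      convert h using 2
      ring
    obtain ⟨g, hg⟩ := exists_move hz P.e_ne
    have hmem : μ ∈ mSub P (g • y) := (mem_mSub P).2 fun t ht => key t (by
      rw [← hg, ← tv_conj, mul_smul, mul_smul, inv_smul_smul, smul_left_cancel_iff] at ht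
      exact ht)
    refine ⟨g • y, ?_, hmem⟩
    rw [moves_iff_T0]
    intro htop
    refine hμ (psi_separates fun c => ?_)
    rw [mul_comm]
    exact (mem_mSub P).1 hmem c ((mem_T0 P).1 (htop ▸ AddSubgroup.mem_top c))
  simp only [not_exists, not_and, not_not] at hrk
  exfalso
  obtain ⟨t₀, ht₀⟩ := hy
  have hnot : ((0 : F), t₀, (0 : F)) ∉ α.stab y := fun h => ht₀ (by
    have h' : el3 (0, t₀, 0) • y = y := h
    simpa only [el3, zero_smul, el_zero, tv_zero, one_mul, mul_one] using h')
  obtain ⟨B₀, hB₀, hne⟩ := π.exists_ann_ne _ hnot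
  have hα0 : B₀.2.1 ≠ 0 := fun h => hne (by
    show psi F _ = 1
    simp [h])
  set c := B₀.1 / (2 * B₀.2.1) with hc
  have hline : ∀ B ∈ π.ann (α.stab y), B.1 = 2 * c * B.2.1 := by
    intro B hB
    have h0 := hrk B₀ hB₀
    have h1 := hrk B hB
    have h2' := hrk (B + B₀) (π.add_mem_ann hB hB₀)
    simp only [Prod.fst_add, Prod.snd_add] at h2'
    have hsq : (B.2.1 * B₀.1 - B₀.2.1 * B.1) * (B.2.1 * B₀.1 - B₀.2.1 * B.1) = 0 := by
      linear_combination (B.2.1 * B.2.1) * h0 + (B₀.2.1 * B₀.2.1) * h1 - (B.2.1 * B₀.2.1) * (h2' - h0 - h1)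
    have h3 := mul_self_eq_zero.1 hsq
    rw [hc]
    field_simp
    linear_combination -h3
  refine hw ⟨-(2 * c), ?_⟩
  have hmem : ((1 : F), -(2 * c), (0 : F)) ∈ α.stab y := π.mem_of_ann _ fun B hB => by
    show psi F _ = 1
    rw [show (1 : F) * B.1 + -(2 * c) * B.2.1 + 0 * B.2.2 = 0 by rw [hline B hB]; ring, AddChar.map_zero_eq_one]
  have h' : el3 (1, -(2 * c), 0) • y = y := hmem
  simpa only [el3, one_smul, tv_zero, mul_one, Pair.qe] using h'

/-- A small action in odd characteristic has free moved orbits. -/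
theorem freeMoved_odd (hm : 2 ≤ m) (hq : 3 ≤ q) (hexc : ¬ (m = 2 ∧ q = 3)) (hsmall : Small m F X)
    [MulAction.IsPretransitive (Matrix.symplecticGroup (Fin m) F) X] : FreeMoved m F X := by
  refine freeMoved_of hm hq hexc hsmall (fun P y hy => dSub_ne_bot h2 hm P hy) (fun P y hy => ?_)
    fun P y hy hd _ => ?_
  · exact exists_free_centre hm hq hsmall fun μ hμ => by
      obtain ⟨y', hy', h⟩ := exists_moved_mSub h2 hm P hy hμ
      exact ⟨y', hy', h, dSub_ne_bot h2 hm P hy'⟩
  · by_contra hm'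
    exact absurd (le_trans (pow_le_dSub h2 (by omega) P hy) hd)
      (not_le.2 (lt_of_eq_of_lt (pow_one q).symm (Nat.pow_lt_pow_right (by omega) (by omega))))

end CfsgLib.PGroup.SpIndex
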